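import Cfsg.Agent.Lib.ThreeSixCent.Extra

/-!
The squaring form and the commutator form on `Q` modulo its centre.
-/

set_option autoImplicit false
set_option linter.unusedSectionVars false
set_option linter.style.haveILetI false

open Cfsg CfsgLib.Extraspecial

namespace CfsgLib.ThreeSixCent

variable {G : Type*} [Group G]

open scoped Classical in
/-- the squaring form -/
noncomputable def qT (z : G) (Q : Subgroup G) (t : T Q) : Bool := decide (rep Q t * rep Q t = z)

open scoped Classical in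
/-- the commutator form -/
noncomputable def bT (_z : G) (Q : Subgroup G) (s t : T Q) : Bool :=
  decide (rep Q s * rep Q t ≠ rep Q t * rep Q s)

open scoped Classical

namespace Pre

variable [Finite G] {z : G} {Q : Subgroup G} {π : ↥(Cz z) →* M0} (H : Pre z Q π)
include H

theorem z_commute {a : G} (ha : a ∈ Q) : Commute z a := (H.st.z_comm ha).symm

theorem sq_congr {a b : G} (hb : b ∈ Q) (h : a = b ∨ a = z * b) : a * a = b * b := by
  rcases h with rfl | rfl
  · rfl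
  · rw [(H.z_commute hb).symm.mul_mul_mul_comm z b, H.z2, one_mul]

theorem comm_congr {a a' b b' : G} (ha : a' ∈ Q) (hb : b' ∈ Q) (h : a = a' ∨ a = z * a')
    (h' : b = b' ∨ b = z * b') : a * b = b * a ↔ a' * b' = b' * a' := by
  have k : ∀ (u v : G), v ∈ Q → (Commute (z * u) v ↔ Commute u v) := fun u v hv => by
    constructor <;> intro h
    · have := (H.z_commute hv).mul_left h
      rwa [← mul_assoc, H.z2, one_mul] at this
    · exact (H.z_commute hv).mul_left h
  have k2 : ∀ (u v : G), u ∈ Q → (Commute u (z * v) ↔ Commute u v) := fun u v hu => by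
    rw [Commute.symm_iff, k v u hu, Commute.symm_iff]
  have hbQ : b ∈ Q := by
    rcases h' with rfl | rfl
    · exact hb
    · exact Q.mul_mem H.zQ hb
  show Commute a b ↔ Commute a' b'
  rcases h with rfl | rfl
  · rcases h' with rfl | rfl
    · rfl
    · exact k2 _ _ ha
  · rw [k a' b hbQ]
    rcases h' with rfl | rfl
    · rfl
    · exact k2 _ _ ha

theorem qT_cl {q : G} (hq : q ∈ Q) : qT z Q (cl Q q) = true ↔ q * q = z := by
  rw [qT, decide_eq_true_iff,
    H.sq_congr hq ((H.cl_eq_iff (rep_mem Q _) hq).1 (cl_rep Q _))]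

theorem bT_cl {p q : G} (hp : p ∈ Q) (hq : q ∈ Q) :
    bT z Q (cl Q p) (cl Q q) = true ↔ p * q ≠ q * p := by
  rw [bT, decide_eq_true_iff]
  exact not_congr (H.comm_congr hp hq ((H.cl_eq_iff (rep_mem Q _) hp).1 (cl_rep Q _))
    ((H.cl_eq_iff (rep_mem Q _) hq).1 (cl_rep Q _)))

theorem anti_iff {a b : G} (ha : a ∈ Q) (hb : b ∈ Q) : a * b ≠ b * a ↔ a * b * a⁻¹ = z * b := by
  constructor
  · intro h
    exact (H.st.comm_cases ha hb).resolve_left fun e => h (mul_inv_eq_iff_eq_mul.mp e)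
  · intro e h
    rw [mul_inv_eq_iff_eq_mul.mpr h] at e
    exact H.zne (mul_eq_right.mp e.symm)

theorem bT_symm (s t : T Q) : bT z Q s t = bT z Q t s := by
  simp only [bT, decide_eq_decide]
  exact ⟨Ne.symm, Ne.symm⟩

theorem bT_self (s : T Q) : bT z Q s s = false := by simp [bT]

theorem bT_one (s : T Q) : bT z Q s 1 = false := by
  rw [Bool.eq_false_iff, ← cl_one Q, ← cl_rep Q s, Ne, H.bT_cl (rep_mem Q s) Q.one_mem]
  simp

theorem bT_mul_right (s t u : T Q) : bT z Q s (t * u) = xor (bT z Q s t) (bT z Q s u) := by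
  obtain ⟨a, ha, rfl⟩ : ∃ q ∈ Q, cl Q q = s := ⟨_, rep_mem Q s, cl_rep Q s⟩
  obtain ⟨b, hb, rfl⟩ : ∃ q ∈ Q, cl Q q = t := ⟨_, rep_mem Q t, cl_rep Q t⟩
  obtain ⟨c, hc, rfl⟩ : ∃ q ∈ Q, cl Q q = u := ⟨_, rep_mem Q u, cl_rep Q u⟩
  have ev : ∀ p ∈ Q, ∀ q ∈ Q, bT z Q (cl Q p) (cl Q q) = decide (p * q * p⁻¹ = z * q) := fun p hp q hq => by
    rw [Bool.eq_iff_iff, H.bT_cl hp hq, decide_eq_true_iff, H.anti_iff hp hq]
  rw [← cl_mul hb hc, ev a ha _ (Q.mul_mem hb hc), ev a ha b hb, ev a ha c hc,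
    show a * (b * c) * a⁻¹ = (a * b * a⁻¹) * (a * c * a⁻¹) by group]
  have hne : ∀ w : G, z * w ≠ w := fun w e => H.zne (mul_eq_right.mp e)
  rcases H.st.comm_cases ha hb with e | e <;> rcases H.st.comm_cases ha hc with f | f <;> rw [e, f]
  · simp [Ne.symm (hne b), Ne.symm (hne c), Ne.symm (hne (b * c))]
  · rw [show b * (z * c) = b * z * c by group, H.st.z_comm hb, mul_assoc]
    simp [Ne.symm (hne b)]
  · rw [mul_assoc]
    simp [Ne.symm (hne c)]
  · rw [show z * b * (z * c) = z * (b * z) * c by group, H.st.z_comm hb, ← mul_assoc z z, H.z2, one_mul]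
    simp [Ne.symm (hne (b * c))]

theorem bT_mul_left (s t u : T Q) : bT z Q (s * t) u = xor (bT z Q s u) (bT z Q t u) := by
  rw [H.bT_symm, H.bT_mul_right, H.bT_symm u, H.bT_symm u]

theorem qT_mul (s t : T Q) : qT z Q (s * t) = xor (xor (qT z Q s) (qT z Q t)) (bT z Q s t) := by
  obtain ⟨a, ha, rfl⟩ : ∃ q ∈ Q, cl Q q = s := ⟨_, rep_mem Q s, cl_rep Q s⟩
  obtain ⟨b, hb, rfl⟩ : ∃ q ∈ Q, cl Q q = t := ⟨_, rep_mem Q t, cl_rep Q t⟩
  have hnz : (1 : G) ≠ z := fun e => H.zne e.symm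
  have ev : ∀ q ∈ Q, qT z Q (cl Q q) = decide (q * q = z) := fun q hq => by
    rw [Bool.eq_iff_iff, H.qT_cl hq, decide_eq_true_iff]
  have eb : bT z Q (cl Q a) (cl Q b) = decide (a * b * a⁻¹ = z * b) := by
    rw [Bool.eq_iff_iff, H.bT_cl ha hb, decide_eq_true_iff, H.anti_iff ha hb]
  rw [← cl_mul ha hb, ev _ (Q.mul_mem ha hb), ev a ha, ev b hb, eb]
  rcases H.st.comm_cases hb ha with e | e
  · have e' : a * b * a⁻¹ = b := mul_inv_eq_iff_eq_mul.mpr (mul_inv_eq_iff_eq_mul.mp e).symm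
    have hab : a * b * (a * b) = (a * a) * (b * b) :=
      (show Commute b a from mul_inv_eq_iff_eq_mul.mp e).mul_mul_mul_comm a b |>.trans rfl
    rw [e', hab]
    have : ¬ b = z * b := fun h => H.zne (mul_eq_right.mp h.symm)
    rcases H.st.sq_cases ha with f | f <;> rcases H.st.sq_cases hb with g | g <;>
      simp [f, g, H.z2, hnz, this]
  · have e' : a * b * a⁻¹ = z * b := by
      rw [← H.anti_iff ha hb]
      exact Ne.symm ((H.anti_iff hb ha).2 e)
    have hab : a * b * (a * b) = z * (a * a) * (b * b) := by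
      calc a * b * (a * b) = a * (b * a * b⁻¹) * (b * b) := by group
        _ = (a * z) * a * (b * b) := by rw [e]; group
        _ = z * (a * a) * (b * b) := by rw [H.st.z_comm ha]; group
    rw [e', hab]
    rcases H.st.sq_cases ha with f | f <;> rcases H.st.sq_cases hb with g | g <;>
      simp [f, g, H.z2, hnz]

theorem bT_ac {c : G} (hc : c ∈ Cz z) (s t : T Q) : bT z Q (ac Q c s) (ac Q c t) = bT z Q s t := by
  rw [← cl_rep Q s, ← cl_rep Q t, H.ac_cl hc (rep_mem Q s), H.ac_cl hc (rep_mem Q t), Bool.eq_iff_iff,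
    H.bT_cl (H.conjQ hc (rep_mem Q s)) (H.conjQ hc (rep_mem Q t)), H.bT_cl (rep_mem Q s) (rep_mem Q t)]
  exact not_congr (Commute.conj_iff c)

theorem qT_ac {c : G} (hc : c ∈ Cz z) (s : T Q) : qT z Q (ac Q c s) = qT z Q s := by
  rw [← cl_rep Q s, H.ac_cl hc (rep_mem Q s), Bool.eq_iff_iff, H.qT_cl (H.conjQ hc (rep_mem Q s)),
    H.qT_cl (rep_mem Q s), show c * rep Q s * c⁻¹ * (c * rep Q s * c⁻¹) = c * (rep Q s * rep Q s) * c⁻¹ by group,
    mul_inv_eq_iff_eq_mul, ← mem_Cz.1 hc, mul_right_inj]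

theorem bT_nondeg {s : T Q} (hs : s ≠ 1) : ∃ t, bT z Q s t = true := by
  have h1 : rep Q s ≠ 1 := fun e => hs (by rw [← cl_rep Q s, e, cl_one])
  have h2 : rep Q s ≠ z := fun e => hs (by rw [← cl_rep Q s, e, H.cl_z])
  obtain ⟨u, hu, hue⟩ := H.st.exists_move (rep_mem Q s) h1 h2
  refine ⟨cl Q u, ?_⟩
  rw [H.bT_symm, ← cl_rep Q s, H.bT_cl hu (rep_mem Q s), H.anti_iff hu (rep_mem Q s)]
  exact hue

end Pre

end CfsgLib.ThreeSixCent
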