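import Cfsg.Agent.Lib.ThreeSixCent.Model

/-!
The five generators generate the even part.
-/

set_option autoImplicit false

namespace CfsgLib.ThreeSixCent

set_option synthInstance.maxSize 512

/-- transversal -/
def tr5 (j : Fin 6) : Equiv.Perm (Fin 6) :=
  match j.1 with
  | 0 => mP.2 * mB.2
  | 1 => mP.2
  | 2 => mA.2 * mP.2
  | 3 => mB.2
  | 4 => mB.2 * mB.2
  | _ => 1

/-- transversal -/
def tr4 (j : Fin 6) : Equiv.Perm (Fin 6) :=
  match j.1 with
  | 0 => mB.2 * mR.2 * mB.2 * mB.2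
  | 1 => mA.2 * mB.2 * mR.2 * mB.2 * mB.2
  | 2 => mB.2 * mB.2 * mR.2 * mP.2 * mB.2
  | 3 => mB.2 * mP.2 * mP.2
  | _ => 1

/-- transversal -/
def tr3 (j : Fin 6) : Equiv.Perm (Fin 6) :=
  match j.1 with
  | 0 => mR.2
  | 1 => mA.2 * mR.2
  | 2 => mA.2 * mA.2 * mR.2
  | _ => 1

/-- transversal -/
def tr2 (j : Fin 6) : Equiv.Perm (Fin 6) :=
  match j.1 with
  | 0 => mA.2
  | 1 => mA.2 * mA.2
  | _ => 1

theorem tr_spec : ∀ j : Fin 6,
    (tr5 j 5 = j) ∧ (j.1 < 5 → tr4 j 4 = j ∧ tr4 j 5 = 5) ∧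
    (j.1 < 4 → tr3 j 3 = j ∧ tr3 j 4 = 4 ∧ tr3 j 5 = 5) ∧
    (j.1 < 3 → tr2 j 2 = j ∧ tr2 j 3 = 3 ∧ tr2 j 4 = 4 ∧ tr2 j 5 = 5) ∧
    Equiv.Perm.sign (tr5 j) = 1 ∧ Equiv.Perm.sign (tr4 j) = 1 ∧ Equiv.Perm.sign (tr3 j) = 1 ∧
    Equiv.Perm.sign (tr2 j) = 1 := by decide +kernel

theorem fix_four : ∀ g : Equiv.Perm (Fin 6), g 5 = 5 → g 4 = 4 → g 3 = 3 → g 2 = 2 →
    Equiv.Perm.sign g = 1 → g = 1 := by decide +kernel

/-- the even part is generated by the four -/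
theorem mem_of_even (S : Subgroup (Equiv.Perm (Fin 6))) (ha : mA.2 ∈ S) (hb : mB.2 ∈ S) (hp : mP.2 ∈ S)
    (hr : mR.2 ∈ S) {g : Equiv.Perm (Fin 6)} (hg : Equiv.Perm.sign g = 1) : g ∈ S := by
  have h5 : ∀ j, tr5 j ∈ S := fun j => by
    unfold tr5; split <;> repeat' (first | with_reducible assumption | with_reducible exact S.one_mem | with_reducible apply S.mul_mem)
  have h4 : ∀ j, tr4 j ∈ S := fun j => by
    unfold tr4; split <;> repeat' (first | with_reducible assumption | with_reducible exact S.one_mem | with_reducible apply S.mul_mem)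
  have h3 : ∀ j, tr3 j ∈ S := fun j => by
    unfold tr3; split <;> repeat' (first | with_reducible assumption | with_reducible exact S.one_mem | with_reducible apply S.mul_mem)
  have h2 : ∀ j, tr2 j ∈ S := fun j => by
    unfold tr2; split <;> repeat' (first | with_reducible assumption | with_reducible exact S.one_mem | with_reducible apply S.mul_mem)
  have e1 : ∀ (u v : Equiv.Perm (Fin 6)), u ∈ S → u⁻¹ * v ∈ S → v ∈ S := fun u v hu hv => by
    simpa using mul_mem hu hv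
  have back : ∀ (u : Equiv.Perm (Fin 6)) (i : Fin 6), u i = i → u⁻¹ i = i := fun u i h => by
    rw [Equiv.Perm.inv_eq_iff_eq]; exact h.symm
  set g1 := (tr5 (g 5))⁻¹ * g with hg1
  have s5 := tr_spec (g 5)
  have a5 : g1 5 = 5 := by
    rw [hg1, Equiv.Perm.mul_apply, Equiv.Perm.inv_eq_iff_eq, s5.1]
  have lt4 : (g1 4).1 < 5 := by
    by_contra h
    exact absurd (g1.injective ((show g1 4 = 5 from Fin.ext (by omega)).trans a5.symm)) (by decide)
  set g2 := (tr4 (g1 4))⁻¹ * g1 with hg2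
  have s4 := tr_spec (g1 4)
  obtain ⟨b44, b45⟩ := s4.2.1 lt4
  have c4 : g2 4 = 4 := by rw [hg2, Equiv.Perm.mul_apply, Equiv.Perm.inv_eq_iff_eq, b44]
  have c5 : g2 5 = 5 := by rw [hg2, Equiv.Perm.mul_apply, a5, back _ _ b45]
  have lt3 : (g2 3).1 < 4 := by
    by_contra h
    have : g2 3 = 4 ∨ g2 3 = 5 := by
      have := (g2 3).isLt
      rcases Nat.lt_or_ge (g2 3).1 5 with h' | h'
      · exact Or.inl (Fin.ext (by omega))
      · exact Or.inr (Fin.ext (by omega))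
    rcases this with e | e
    · exact absurd (g2.injective (e.trans c4.symm)) (by decide)
    · exact absurd (g2.injective (e.trans c5.symm)) (by decide)
  set g3 := (tr3 (g2 3))⁻¹ * g2 with hg3
  have s3 := tr_spec (g2 3)
  obtain ⟨b33, b34, b35⟩ := s3.2.2.1 lt3
  have d3 : g3 3 = 3 := by rw [hg3, Equiv.Perm.mul_apply, Equiv.Perm.inv_eq_iff_eq, b33]
  have d4 : g3 4 = 4 := by rw [hg3, Equiv.Perm.mul_apply, c4, back _ _ b34]
  have d5 : g3 5 = 5 := by rw [hg3, Equiv.Perm.mul_apply, c5, back _ _ b35]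
  have lt2 : (g3 2).1 < 3 := by
    by_contra h
    have : g3 2 = 3 ∨ g3 2 = 4 ∨ g3 2 = 5 := by
      have := (g3 2).isLt
      have : (g3 2).1 = 3 ∨ (g3 2).1 = 4 ∨ (g3 2).1 = 5 := by omega
      rcases this with e | e | e
      exacts [Or.inl (Fin.ext e), Or.inr (Or.inl (Fin.ext e)), Or.inr (Or.inr (Fin.ext e))]
    rcases this with e | e | e
    · exact absurd (g3.injective (e.trans d3.symm)) (by decide)
    · exact absurd (g3.injective (e.trans d4.symm)) (by decide)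
    · exact absurd (g3.injective (e.trans d5.symm)) (by decide)
  set g4 := (tr2 (g3 2))⁻¹ * g3 with hg4
  have s2 := tr_spec (g3 2)
  obtain ⟨b22, b23, b24, b25⟩ := s2.2.2.2.1 lt2
  have f2 : g4 2 = 2 := by rw [hg4, Equiv.Perm.mul_apply, Equiv.Perm.inv_eq_iff_eq, b22]
  have f3 : g4 3 = 3 := by rw [hg4, Equiv.Perm.mul_apply, d3, back _ _ b23]
  have f4 : g4 4 = 4 := by rw [hg4, Equiv.Perm.mul_apply, d4, back _ _ b24]
  have f5 : g4 5 = 5 := by rw [hg4, Equiv.Perm.mul_apply, d5, back _ _ b25]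
  have hs : Equiv.Perm.sign g4 = 1 := by
    rw [hg4, map_mul, map_inv, s2.2.2.2.2.2.2.2, inv_one, one_mul, hg3, map_mul, map_inv,
      s3.2.2.2.2.2.2.1, inv_one, one_mul, hg2, map_mul, map_inv, s4.2.2.2.2.2.1, inv_one, one_mul, hg1,
      map_mul, map_inv, s5.2.2.2.2.1, inv_one, one_mul, hg]
  have h1 := fix_four g4 f5 f4 f3 f2 hs
  exact e1 _ g (h5 (g 5)) (e1 _ g1 (h4 (g1 4)) (e1 _ g2 (h3 (g2 3)) (e1 _ g3 (h2 (g3 2))
    (show g4 ∈ S from h1 ▸ S.one_mem))))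

end CfsgLib.ThreeSixCent
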