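import Cfsg.Agent.Lib.ThreeSixCent.Model

/-!
The basis of eigenvectors of the coordinate model, and the search identifying the fifth generator.
-/

set_option autoImplicit false

namespace CfsgLib.ThreeSixCent

/-- a multiple -/
def vsel (c : Bool) (v : V) : V := (sel c v.1, sel c v.2)

/-- addition of masks -/
def madd (k l : Fin 256) : Fin 256 := Fin.ofNat 256 (k.1 ^^^ l.1)

/-- the bit of a mask -/
def mbit (k : Fin 256) (i : ℕ) : Bool := k.1.testBit i

theorem mbit_madd (k l : Fin 256) (i : ℕ) : mbit (madd k l) i = xor (mbit k i) (mbit l i) := by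
  have h : k.1 ^^^ l.1 < 2 ^ 8 := Nat.xor_lt_two_pow (by norm_num) (by norm_num)
  simp only [mbit, madd, Fin.val_ofNat, Nat.mod_eq_of_lt (show k.1 ^^^ l.1 < 256 by simpa using h),
    Nat.testBit_xor]

/-- a combination of the basis -/
def cmb (k : Fin 256) : V :=
  vadd (vadd (vadd (vsel (mbit k 0) (bas 0)) (vsel (mbit k 1) (bas 1)))
      (vadd (vsel (mbit k 2) (bas 2)) (vsel (mbit k 3) (bas 3))))
    (vadd (vadd (vsel (mbit k 4) (bas 4)) (vsel (mbit k 5) (bas 5)))
      (vadd (vsel (mbit k 6) (bas 6)) (vsel (mbit k 7) (bas 7))))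

theorem vadd_comm (u v : V) : vadd u v = vadd v u := Prod.ext (wadd_comm _ _) (wadd_comm _ _)

theorem vadd_assoc (u v w : V) : vadd (vadd u v) w = vadd u (vadd v w) :=
  Prod.ext (wadd_assoc _ _ _) (wadd_assoc _ _ _)

instance : Std.Commutative vadd := ⟨vadd_comm⟩

instance : Std.Associative vadd := ⟨vadd_assoc⟩

theorem vsel_xor (c d : Bool) (u : V) : vsel (xor c d) u = vadd (vsel c u) (vsel d u) :=
  Prod.ext (sel_xor _ _ _) (sel_xor _ _ _)

theorem cmb_madd (k l : Fin 256) : cmb (madd k l) = vadd (cmb k) (cmb l) := by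
  simp only [cmb, mbit_madd, vsel_xor]
  ac_rfl

/-- the mask of a vector -/
def msk (v : V) : Fin 256 :=
  let s (c : Bool) (m : ℕ) : ℕ := bif c then m else 0
  Fin.ofNat 256 ((s (v.1.1.testBit 0) 110 ^^^ s (v.1.1.testBit 1) 95 ^^^
    (s (v.1.1.testBit 2) 125 ^^^ s (v.1.1.testBit 3) 196)) ^^^
    (s (v.2.1.testBit 0) 183 ^^^ s (v.2.1.testBit 1) 165 ^^^
    (s (v.2.1.testBit 2) 150 ^^^ s (v.2.1.testBit 3) 72)))

theorem cmb_msk : ∀ v : V, cmb (msk v) = v := by decide +kernel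

theorem msk_cmb : ∀ k : Fin 256, msk (cmb k) = k := by decide +kernel

theorem msk_vadd (u v : V) : msk (vadd u v) = madd (msk u) (msk v) := by
  conv_lhs => rw [← cmb_msk u, ← cmb_msk v, ← cmb_madd, msk_cmb]

/-- the number of nonzero planes is odd -/
def qmask (k : Fin 256) : Bool :=
  xor (xor (mbit k 0 || mbit k 1) (mbit k 2 || mbit k 3))
    (xor (mbit k 4 || mbit k 5) (mbit k 6 || mbit k 7))

theorem qv_cmb : ∀ k : Fin 256, qv (cmb k) = qmask k := by decide +kernel

theorem bas_table : act mX (bas 1) = vadd (bas 0) (bas 1) ∧ act mX (bas 3) = vadd (bas 2) (bas 3) ∧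
    act mX (bas 5) = vadd (bas 4) (bas 5) ∧ act mX (bas 7) = vadd (bas 6) (bas 7) ∧
    act mX (bas 0) = bas 1 ∧ act mX (bas 2) = bas 3 ∧ act mX (bas 4) = bas 5 ∧ act mX (bas 6) = bas 7 ∧
    act mA (bas 0) = act mX (bas 0) ∧ act mA (bas 2) = bas 2 ∧
    act mA (bas 4) = act mX (act mX (bas 4)) ∧ act mA (bas 6) = bas 6 ∧
    act mB (bas 0) = bas 0 ∧ act mB (bas 2) = act mX (bas 2) ∧
    act mB (bas 4) = bas 4 ∧ act mB (bas 6) = act mX (act mX (bas 6)) ∧
    act mP (bas 0) = bas 2 ∧ act mP (bas 2) = bas 4 ∧ act mP (bas 4) = bas 6 ∧ act mP (bas 6) = bas 0 := by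
  decide +kernel

theorem msk_bas : ∀ i : Fin 8, msk (bas i) = Fin.ofNat 256 (2 ^ i.1) := by decide +kernel

/-- a candidate for the fifth generator, determined by the image of the first basis vector -/
def gw (w v : V) : V :=
  let p1 := act mP⁻¹ w
  let p2 := act mP⁻¹ p1
  let p3 := act mP⁻¹ p2
  let k := msk v
  vadd (vadd (vadd (vsel (mbit k 0) w) (vsel (mbit k 1) (act mX w)))
      (vadd (vsel (mbit k 2) p1) (vsel (mbit k 3) (act mX p1))))
    (vadd (vadd (vsel (mbit k 4) p2) (vsel (mbit k 5) (act mX p2)))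
      (vadd (vsel (mbit k 6) p3) (vsel (mbit k 7) (act mX p3))))

theorem gw_unique : ∀ w : V, qv w = true → gw w w = bas 0 →
    gw w (act mA (gw w (act mA (gw w (act mA (bas 0)))))) = bas 0 →
    gw w (act mA (gw w (act mA (gw w (act mA (bas 2)))))) = bas 2 → w = act mR (bas 0) := by
  decide +kernel

theorem mP_inv : mP⁻¹ = mP * mP * mP := by decide +kernel

end CfsgLib.ThreeSixCent
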