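import Cfsg.Agent.Lib.ThreeSixCent.Split
import Cfsg.Agent.Lib.ThreeSixCent.Form
import Cfsg.Agent.Lib.ThreeSixCent.ModelBasis
import Cfsg.Agent.Lib.ThreeSixCent.Gen

/-!
With a common eigenvector, `Q` modulo its centre is the coordinate model, equivariantly.
-/

set_option autoImplicit false
set_option linter.unusedSectionVars false
set_option linter.style.haveILetI false

open Cfsg CfsgLib.Extraspecial
open Equiv (Perm)

namespace CfsgLib.ThreeSixCent

variable {G : Type*} [Group G] [Finite G] {z : G} {Q : Subgroup G} {π : ↥(Cz z) →* M0}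

/-- coordinates on `Q/Z` -/
structure Coords (z : G) (Q : Subgroup G) (π : ↥(Cz z) →* M0) (ψ : V → T Q) : Prop where
  add : ∀ u v, ψ (vadd u v) = ψ u * ψ v
  bij : Function.Bijective ψ
  quad : ∀ v, qT z Q (ψ v) = qv v
  equiv : ∀ c ∈ Cz z, ∀ v, ac Q c (ψ v) = ψ (act (img z π c) v)

/-- a multiple -/
noncomputable def tsel (c : Bool) (t : T Q) : T Q := bif c then t else 1

theorem w0_eigen : ∀ w : V, act mA w = act mX w → act mB w = w → w ≠ (0, 0) →
    w = bas 0 ∨ w = act mX (bas 0) ∨ w = act mX (act mX (bas 0)) := by decide +kernel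

theorem bas_ne : bas 0 ≠ (0, 0) ∧ act mX (bas 0) ≠ bas 0 ∧ act mX (act mX (bas 0)) ≠ bas 0 := by decide +kernel

theorem m_facts : mP * mP * mP * mP = 1 ∧ mR * mP = mP⁻¹ * mR ∧ mR * mR = 1 ∧
    (mR * mA) * (mR * mA) * (mR * mA) = 1 ∧ mX * mX * mX = 1 := by decide +kernel

theorem odd_conj : ∀ σ : Perm (Fin 3), Perm.sign σ = -1 →
    mX.1 * σ * mX.1⁻¹ = σ * mX.1 ∧ mX.1 * mX.1 * σ * (mX.1 * mX.1)⁻¹ = σ * (mX.1 * mX.1) := by
  decide +kernel

theorem even_cases : ∀ σ : Perm (Fin 3), Perm.sign σ = 1 →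
    (σ = 1 ∨ σ = mX.1 ∨ σ = mX.1 * mX.1) ∧ σ * mX.1 = mX.1 * σ := by decide +kernel

theorem mX_facts : Perm.sign mX.1 = 1 ∧ mX.2 = 1 ∧ mA.1 = 1 ∧ mB.1 = 1 ∧ mP.1 = 1 ∧ mR.1 = 1 := by
  decide +kernel

namespace Pre

variable (H : Pre z Q π)
include H

theorem exists_coords {x a b p r : G} {e : T Q} (F : Frame π x a b p r) (E : Eig Q x a b e) :
    ∃ (π' : ↥(Cz z) →* M0) (ψ : V → T Q), Pre z Q π' ∧ Coords z Q π' ψ := by
  classical
  letI : CommGroup (T Q) := { (inferInstance : Group (T Q)) with mul_comm := H.T_comm }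
  have hxC := F.xC
  set X : T Q → T Q := ac Q x with hXdef
  set P : T Q → T Q := ac Q p with hPdef
  set A : T Q → T Q := ac Q a with hAdef
  set B : T Q → T Q := ac Q b with hBdef
  have Xm : ∀ s t, X (s * t) = X s * X t := H.ac_mul hxC
  have Pm : ∀ s t, P (s * t) = P s * P t := H.ac_mul F.pC
  have Am : ∀ s t, A (s * t) = A s * A t := H.ac_mul F.aC
  have Bm : ∀ s t, B (s * t) = B s * B t := H.ac_mul F.bC
  have x3 : ∀ t, X (X (X t)) = t := H.ac_cube hxC (by rw [F.hx]; exact mX_pow.1)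
  have cx : ∀ c ∈ Cz z, (img z π c).1 = 1 → ∀ t, ac Q c (X t) = X (ac Q c t) :=
    fun c hc h1 t => (H.ac_comm hxC hc (F.comm_x H h1) t).symm
  have PX : ∀ t, P (X t) = X (P t) := cx p F.pC (by rw [F.hp]; rfl)
  have AX : ∀ t, A (X t) = X (A t) := cx a F.aC (by rw [F.ha]; rfl)
  have BX : ∀ t, B (X t) = X (B t) := cx b F.bC (by rw [F.hb]; rfl)
  have AP : ∀ t, A (P t) = P (B (B t)) := fun t => by
    rw [hAdef, hPdef, hBdef]
    rw [← H.ac_comp F.aC F.pC, ← H.ac_comp F.bC F.bC, ← H.ac_comp F.pC ((Cz z).mul_mem F.bC F.bC)]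
    refine H.ac_img ((Cz z).mul_mem F.aC F.pC) ((Cz z).mul_mem F.pC ((Cz z).mul_mem F.bC F.bC)) ?_ t
    rw [H.img_mul F.aC F.pC, H.img_mul F.pC ((Cz z).mul_mem F.bC F.bC), H.img_mul F.bC F.bC, F.ha,
      F.hp, F.hb]
    decide +kernel
  have BP : ∀ t, B (P t) = P (A t) := fun t => by
    rw [hAdef, hPdef, hBdef]
    rw [← H.ac_comp F.bC F.pC, ← H.ac_comp F.pC F.aC]
    refine H.ac_img ((Cz z).mul_mem F.bC F.pC) ((Cz z).mul_mem F.pC F.aC) ?_ t
    rw [H.img_mul F.bC F.pC, H.img_mul F.pC F.aC, F.hb, F.hp, F.ha]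
    exact mX_pow.2.2.2.2.2.2.2
  have P4 : ∀ t, P (P (P (P t))) = t := fun t => by
    rw [hPdef]
    rw [← H.ac_comp F.pC F.pC, ← H.ac_comp ((Cz z).mul_mem F.pC F.pC) F.pC,
      ← H.ac_comp ((Cz z).mul_mem ((Cz z).mul_mem F.pC F.pC) F.pC) F.pC]
    refine H.ac_Q ((H.img_eq_one ((Cz z).mul_mem ((Cz z).mul_mem ((Cz z).mul_mem F.pC F.pC) F.pC) F.pC)).1
      ?_) t
    rw [H.img_mul ((Cz z).mul_mem ((Cz z).mul_mem F.pC F.pC) F.pC) F.pC,
      H.img_mul ((Cz z).mul_mem F.pC F.pC) F.pC, H.img_mul F.pC F.pC, F.hp]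
    exact m_facts.1
  set e1 := P e with he1
  set e2 := P e1 with he2
  set e3 := P e2 with he3
  have hee : A e = X e ∧ B e = e := ⟨E.ea, E.eb⟩
  have h1 : A e1 = e1 ∧ B e1 = X e1 := ⟨by rw [he1, AP, hee.2, hee.2], by rw [he1, BP, hee.1, PX]⟩
  have h2 : A e2 = X (X e2) ∧ B e2 = e2 :=
    ⟨by rw [he2, AP, h1.2, BX, h1.2, PX, PX], by rw [he2, BP, h1.1]⟩
  have h3 : A e3 = e3 ∧ B e3 = X (X e3) :=
    ⟨by rw [he3, AP, h2.2, h2.2], by rw [he3, BP, h2.1, PX, PX]⟩
  -- the planes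
  have Pl_nz : ∀ t, Nz Q x t → Nz Q x (P t) := fun t ht =>
    H.nz_ac hxC F.pC (F.comm_x H (by rw [F.hp]; rfl)) ht
  have n0 : Nz Q x e := E.nz
  have n1 : Nz Q x e1 := Pl_nz _ n0
  have n2 : Nz Q x e2 := Pl_nz _ n1
  have n3 : Nz Q x e3 := Pl_nz _ n2
  have ne0 : e ≠ 1 := E.ne
  have ne1 : e1 ≠ 1 := fun h => ne0 ((H.ac_eq_one F.pC).1 h)
  have ne2 : e2 ≠ 1 := fun h => ne1 ((H.ac_eq_one F.pC).1 h)
  have ne3 : e3 ≠ 1 := fun h => ne2 ((H.ac_eq_one F.pC).1 h)
  have fix_triv : ∀ t, Nz Q x t → X t = t → t = 1 := fun t h h' => by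
    unfold Nz at h
    rw [show ac Q x t = t from h', show ac Q x t = t from h', H.T_sq, one_mul] at h
    exact h
  have xx : ∀ t, Nz Q x t → t * X t = X (X t) := fun t h => H.T_mul_eq_one.1 h
  let fp (t : T Q) (c d : Bool) : T Q := tsel c t * tsel d (X t)
  have fp_nz : ∀ t c d, Nz Q x t → Nz Q x (fp t c d) := by
    intro t c d h
    have h1 : Nz Q x (1 : T Q) := by
      unfold Nz; simp only [H.ac_one_t hxC, mul_one]
    refine H.nz_mul hxC ?_ ?_
    · cases c
      · exact h1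
      · exact h
    · cases d
      · exact h1
      · exact H.nz_ac hxC hxC rfl h
  have fp_one : ∀ t c d, Nz Q x t → t ≠ 1 → fp t c d = 1 → c = false ∧ d = false := by
    intro t c d h hne he
    cases c <;> cases d <;> simp only [fp, tsel, cond_true, cond_false, one_mul, mul_one] at he
    · exact ⟨rfl, rfl⟩
    · exact absurd ((H.ac_eq_one hxC).1 he) hne
    · exact absurd he hne
    · exact absurd (fix_triv t h (H.T_mul_eq_one.1 he).symm) hne
  have fpA : ∀ (c : G), c ∈ Cz z → (∀ u, ac Q c (X u) = X (ac Q c u)) → ∀ (k : T Q → T Q),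
      (∀ s u, k (s * u) = k s * k u) → (∀ u, k (X u) = X (k u)) → ∀ t, ac Q c t = k t →
      ∀ i j, ac Q c (fp t i j) = k (fp t i j) := by
    intro c hc hcx k km kx t ht i j
    have k1 : k 1 = 1 := by
      have := km 1 1
      rw [one_mul] at this
      exact (mul_eq_left.mp this.symm)
    cases i <;> cases j <;>
      simp only [fp, tsel, cond_true, cond_false, one_mul, mul_one, H.ac_one_t hc, k1, ht, hcx, kx,
        H.ac_mul hc, km]
  let fT (k : Fin 256) : T Q := (fp e (mbit k 0) (mbit k 1) * fp e1 (mbit k 2) (mbit k 3)) *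
    (fp e2 (mbit k 4) (mbit k 5) * fp e3 (mbit k 6) (mbit k 7))
  have tsel_xor : ∀ (c d : Bool) (t : T Q), tsel (xor c d) t = tsel c t * tsel d t := fun c d t => by
    cases c <;> cases d <;> simp [tsel, H.T_sq]
  have fT_add : ∀ k l, fT (madd k l) = fT k * fT l := fun k l => by
    simp only [fT, fp, mbit_madd, tsel_xor]
    ac_rfl
  have fT_ker : ∀ k, fT k = 1 → k = 0 := by
    intro k hk
    obtain ⟨c0, hc0⟩ : ∃ c, c = fp e (mbit k 0) (mbit k 1) := ⟨_, rfl⟩
    obtain ⟨c1, hc1⟩ : ∃ c, c = fp e1 (mbit k 2) (mbit k 3) := ⟨_, rfl⟩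
    obtain ⟨c2, hc2⟩ : ∃ c, c = fp e2 (mbit k 4) (mbit k 5) := ⟨_, rfl⟩
    obtain ⟨c3, hc3⟩ : ∃ c, c = fp e3 (mbit k 6) (mbit k 7) := ⟨_, rfl⟩
    have hk' : c0 * c1 * (c2 * c3) = 1 := by rw [hc0, hc1, hc2, hc3]; exact hk
    have A0 : A c0 = X c0 := by
      rw [hc0]; exact fpA a F.aC AX X Xm (fun _ => rfl) e hee.1 _ _
    have A1 : A c1 = c1 := by
      rw [hc1]; exact fpA a F.aC AX id (fun _ _ => rfl) (fun _ => rfl) e1 h1.1 _ _
    have A2 : A c2 = X (X c2) := by
      rw [hc2]; exact fpA a F.aC AX (fun t => X (X t)) (fun s u => by rw [Xm, Xm]) (fun _ => rfl) e2 h2.1 _ _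
    have A3 : A c3 = c3 := by
      rw [hc3]; exact fpA a F.aC AX id (fun _ _ => rfl) (fun _ => rfl) e3 h3.1 _ _
    have B1 : B c1 = X c1 := by
      rw [hc1]; exact fpA b F.bC BX X Xm (fun _ => rfl) e1 h1.2 _ _
    have B3 : B c3 = X (X c3) := by
      rw [hc3]; exact fpA b F.bC BX (fun t => X (X t)) (fun s u => by rw [Xm, Xm]) (fun _ => rfl) e3 h3.2 _ _
    have m0 : Nz Q x c0 := hc0 ▸ fp_nz _ _ _ n0
    have m1 : Nz Q x c1 := hc1 ▸ fp_nz _ _ _ n1
    have m2 : Nz Q x c2 := hc2 ▸ fp_nz _ _ _ n2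
    have m3 : Nz Q x c3 := hc3 ▸ fp_nz _ _ _ n3
    have hA := congrArg A hk'
    rw [Am, Am, Am, A0, A1, A2, A3, show A 1 = 1 from H.ac_one_t F.aC] at hA
    have key : c2 = X c0 := by
      have h4 : (c0 * X c0) * (c2 * X (X c2)) = 1 := by
        calc (c0 * X c0) * (c2 * X (X c2))
            = (c0 * X c0) * (c2 * X (X c2)) * (c1 * c1) * (c3 * c3) := by rw [H.T_sq, H.T_sq, mul_one, mul_one]
          _ = (c0 * c1 * (c2 * c3)) * (X c0 * c1 * (X (X c2) * c3)) := by ac_rfl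
          _ = 1 := by rw [hk', hA, one_mul]
      have h5 : c2 * X (X c2) = X c2 := by
        conv_lhs => rw [← xx c2 m2, ← mul_assoc, H.T_sq, one_mul]
      rw [xx c0 m0, h5, H.T_mul_eq_one] at h4
      exact (H.ac_inj hxC h4).symm
    have hc0' : c0 = 1 := by
      have h := congrArg A key
      rw [A2, AX, A0, key, x3] at h
      refine fix_triv c0 m0 ?_
      conv_rhs => rw [← x3 c0]
      rw [← h]
    have hc2' : c2 = 1 := by rw [key, hc0']; exact H.ac_one_t hxC
    rw [hc0', hc2', one_mul, one_mul, H.T_mul_eq_one] at hk'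
    have hc1' : c1 = 1 := by
      have h := congrArg B hk'
      rw [B1, B3, ← hk'] at h
      exact fix_triv c1 m1 ((H.ac_inj hxC h).symm)
    have hc3' : c3 = 1 := hk'.symm.trans hc1'
    obtain ⟨b0, b1⟩ := fp_one _ _ _ n0 ne0 (hc0 ▸ hc0')
    obtain ⟨b2, b3⟩ := fp_one _ _ _ n1 ne1 (hc1 ▸ hc1')
    obtain ⟨b4, b5⟩ := fp_one _ _ _ n2 ne2 (hc2 ▸ hc2')
    obtain ⟨b6, b7⟩ := fp_one _ _ _ n3 ne3 (hc3 ▸ hc3')
    have : ∀ k : Fin 256, mbit k 0 = false → mbit k 1 = false → mbit k 2 = false → mbit k 3 = false →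
        mbit k 4 = false → mbit k 5 = false → mbit k 6 = false → mbit k 7 = false → k = 0 := by
      decide +kernel
    exact this k b0 b1 b2 b3 b4 b5 b6 b7
  let ψ : V → T Q := fun v => fT (msk v)
  have ψadd : ∀ u v, ψ (vadd u v) = ψ u * ψ v := fun u v => by
    show fT (msk (vadd u v)) = _
    rw [msk_vadd, fT_add]
  have ψinj : Function.Injective ψ := by
    intro u v h
    have h1 : fT (madd (msk u) (msk v)) = 1 := by rw [fT_add]; exact H.T_mul_eq_one.2 h
    have h2 : ∀ k l : Fin 256, madd k l = 0 → k = l := by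
      intro k l hkl
      have hlt : k.1 ^^^ l.1 < 256 := Nat.xor_lt_two_pow (n := 8) k.isLt l.isLt
      have := congrArg Fin.val hkl
      simp only [madd, Fin.val_ofNat, Nat.mod_eq_of_lt hlt, Fin.val_zero] at this
      exact Fin.ext (by
        have h := congrArg (fun n => n ^^^ l.1) this
        simpa [Nat.xor_assoc] using h)
    rw [← cmb_msk u, ← cmb_msk v, h2 _ _ (fT_ker _ h1)]
  haveI : Fintype (T Q) := Fintype.ofFinite _
  have ψbij : Function.Bijective ψ := by
    rw [Fintype.bijective_iff_injective_and_card]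
    refine ⟨ψinj, ?_⟩
    rw [← Nat.card_eq_fintype_card, ← Nat.card_eq_fintype_card, H.card_T]
    simp
  -- values on the basis
  have mb : ∀ (i : Fin 8) (j : ℕ), j < 8 → mbit (Fin.ofNat 256 (2 ^ i.1)) j = decide (i.1 = j) := by
    decide +kernel
  have val : ∀ i : Fin 8, ψ (bas i) = (![e, X e, e1, X e1, e2, X e2, e3, X e3] : Fin 8 → T Q) i := by
    intro i
    show fT (msk (bas i)) = _
    rw [msk_bas]
    simp only [fT, fp, mb i 0 (by norm_num), mb i 1 (by norm_num), mb i 2 (by norm_num), mb i 3 (by norm_num),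
      mb i 4 (by norm_num), mb i 5 (by norm_num), mb i 6 (by norm_num), mb i 7 (by norm_num)]
    fin_cases i <;> simp [tsel]
  obtain ⟨bx1, bx3, bx5, bx7, bx0, bx2, bx4, bx6, ba0, ba2, ba4, ba6, bb0, bb2, bb4, bb6, bp0, bp2, bp4, bp6⟩ :=
    bas_table
  have v0 : ψ (bas 0) = e := val 0
  have v1 : ψ (bas 1) = X e := val 1
  have v2 : ψ (bas 2) = e1 := val 2
  have v3 : ψ (bas 3) = X e1 := val 3
  have v4 : ψ (bas 4) = e2 := val 4
  have v5 : ψ (bas 5) = X e2 := val 5
  have v6 : ψ (bas 6) = e3 := val 6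
  have v7 : ψ (bas 7) = X e3 := val 7
  have ψzero : ψ (0, 0) = 1 := by
    have h := ψadd (0, 0) (0, 0)
    rw [show vadd ((0, 0) : V) (0, 0) = (0, 0) from by decide +kernel, H.T_sq] at h
    exact h
  -- agreement of two additive maps on the basis
  have ext_bas : ∀ f g : V → T Q, (∀ u v, f (vadd u v) = f u * f v) → (∀ u v, g (vadd u v) = g u * g v) →
      (∀ i, f (bas i) = g (bas i)) → ∀ v, f v = g v := by
    intro f g hf hg hb v
    have hz : ∀ h : V → T Q, (∀ u v, h (vadd u v) = h u * h v) → h (0, 0) = 1 := fun h hh => by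
      have := hh (0, 0) (0, 0)
      rw [show vadd ((0, 0) : V) (0, 0) = (0, 0) from by decide +kernel, H.T_sq] at this
      exact this
    have hsel : ∀ (c : Bool) i, f (vsel c (bas i)) = g (vsel c (bas i)) := fun c i => by
      cases c
      · exact (hz f hf).trans (hz g hg).symm
      · exact hb i
    rw [← cmb_msk v]
    simp only [cmb, hf, hg, hsel]
  have fadd : ∀ (c : G), c ∈ Cz z → ∀ u v, ac Q c (ψ (vadd u v)) = ac Q c (ψ u) * ac Q c (ψ v) :=
    fun c hc u v => by rw [ψadd, H.ac_mul hc]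
  have gadd : ∀ (m : M0) u v, ψ (act m (vadd u v)) = ψ (act m u) * ψ (act m v) :=
    fun m u v => by rw [act_add, ψadd]
  have XΨ : ∀ v, X (ψ v) = ψ (act mX v) := by
    refine ext_bas _ _ (fadd x hxC) (gadd mX) fun i => ?_
    fin_cases i
    · exact (congrArg X v0).trans (bx0 ▸ v1).symm
    · show X (ψ (bas 1)) = ψ (act mX (bas 1))
      rw [v1, bx1, ψadd, v0, v1, xx e n0]
    · exact (congrArg X v2).trans (bx2 ▸ v3).symm
    · show X (ψ (bas 3)) = ψ (act mX (bas 3))
      rw [v3, bx3, ψadd, v2, v3, xx e1 n1]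
    · exact (congrArg X v4).trans (bx4 ▸ v5).symm
    · show X (ψ (bas 5)) = ψ (act mX (bas 5))
      rw [v5, bx5, ψadd, v4, v5, xx e2 n2]
    · exact (congrArg X v6).trans (bx6 ▸ v7).symm
    · show X (ψ (bas 7)) = ψ (act mX (bas 7))
      rw [v7, bx7, ψadd, v6, v7, xx e3 n3]
  -- a generator commuting with the element of order three agrees once it does on the even basis vectors
  have agree_of : ∀ (c : G) (m : M0), c ∈ Cz z → (∀ t, ac Q c (X t) = X (ac Q c t)) → m.1 = 1 →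
      (ac Q c e = ψ (act m (bas 0))) → (ac Q c e1 = ψ (act m (bas 2))) →
      (ac Q c e2 = ψ (act m (bas 4))) → (ac Q c e3 = ψ (act m (bas 6))) →
      ∀ v, ac Q c (ψ v) = ψ (act m v) := by
    intro c m hc hcx hm k0 k2 k4 k6
    have hmx : ∀ v, act m (act mX v) = act mX (act m v) := fun v => by
      rw [← act_mul, ← act_mul, mX_comm m hm]
    refine ext_bas _ _ (fadd c hc) (gadd m) fun i => ?_
    fin_cases i
    · exact (congrArg (ac Q c) v0).trans k0
    · show ac Q c (ψ (bas 1)) = ψ (act m (bas 1))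
      rw [v1, hcx, k0, XΨ, ← hmx, bx0]
    · exact (congrArg (ac Q c) v2).trans k2
    · show ac Q c (ψ (bas 3)) = ψ (act m (bas 3))
      rw [v3, hcx, k2, XΨ, ← hmx, bx2]
    · exact (congrArg (ac Q c) v4).trans k4
    · show ac Q c (ψ (bas 5)) = ψ (act m (bas 5))
      rw [v5, hcx, k4, XΨ, ← hmx, bx4]
    · exact (congrArg (ac Q c) v6).trans k6
    · show ac Q c (ψ (bas 7)) = ψ (act m (bas 7))
      rw [v7, hcx, k6, XΨ, ← hmx, bx6]
  have gA : ∀ v, A (ψ v) = ψ (act mA v) := agree_of a mA F.aC AX mX_facts.2.2.1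
    (by rw [ba0, ← XΨ, v0]; exact hee.1) (by rw [ba2, v2]; exact h1.1)
    (by rw [ba4, ← XΨ, ← XΨ, v4]; exact h2.1) (by rw [ba6, v6]; exact h3.1)
  have gB : ∀ v, B (ψ v) = ψ (act mB v) := agree_of b mB F.bC BX mX_facts.2.2.2.1
    (by rw [bb0, v0]; exact hee.2) (by rw [bb2, ← XΨ, v2]; exact h1.2)
    (by rw [bb4, v4]; exact h2.2) (by rw [bb6, ← XΨ, ← XΨ, v6]; exact h3.2)
  have gP : ∀ v, P (ψ v) = ψ (act mP v) := agree_of p mP F.pC PX mX_facts.2.2.2.2.1
    (by rw [bp0, v2]) (by rw [bp2, v4]) (by rw [bp4, v6])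
    (by rw [bp6, v0, he3, he2, he1]; exact P4 e)
  -- orthogonal planes
  have orth : ∀ (c : G), c ∈ Cz z → ∀ s t, ac Q c s = s →
      t * ac Q c t * ac Q c (ac Q c t) = 1 → bT z Q s t = false := by
    intro c hc s t hs ht
    have h1 : bT z Q s (ac Q c t) = bT z Q s t := by
      conv_rhs => rw [← H.bT_ac hc s t, hs]
    have h2 : bT z Q s (ac Q c (ac Q c t)) = bT z Q s t := by
      conv_rhs => rw [← h1, ← H.bT_ac hc s (ac Q c t), hs]
    have h3 := H.bT_one s
    rw [← ht, H.bT_mul_right, H.bT_mul_right, h1, h2] at h3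
    cases hb : bT z Q s t
    · rfl
    · rw [hb] at h3; exact absurd h3 (by decide)
  have axxC : a * x * x ∈ Cz z := (Cz z).mul_mem ((Cz z).mul_mem F.aC hxC) hxC
  have bxxC : b * x * x ∈ Cz z := (Cz z).mul_mem ((Cz z).mul_mem F.bC hxC) hxC
  have acA : ∀ t, ac Q (a * x * x) t = A (X (X t)) := fun t => by
    rw [H.ac_comp ((Cz z).mul_mem F.aC hxC) hxC, H.ac_comp F.aC hxC]
  have acB : ∀ t, ac Q (b * x * x) t = B (X (X t)) := fun t => by
    rw [H.ac_comp ((Cz z).mul_mem F.bC hxC) hxC, H.ac_comp F.bC hxC]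
  have cyc1 : ∀ t, Nz Q x t → t * X t * X (X t) = 1 := fun t h => h
  have cyc2 : ∀ t, Nz Q x t → t * X (X t) * X (X (X (X t))) = 1 := fun t h => by
    rw [x3, mul_assoc, H.T_comm (X (X t)) (X t), ← mul_assoc]
    exact h
  have bX : ∀ s t, bT z Q (X s) (X t) = bT z Q s t := H.bT_ac hxC
  have bP : ∀ s t, bT z Q (P s) (P t) = bT z Q s t := H.bT_ac F.pC
  have o10 : bT z Q e1 e = false := orth a F.aC _ _ h1.1
    (by rw [show ac Q a e = X e from hee.1, show ac Q a (X e) = X (A e) from AX e, hee.1]; exact n0)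
  have o10' : bT z Q e1 (X e) = false := orth a F.aC _ _ h1.1
    (by rw [show ac Q a (X e) = X (A e) from AX e, hee.1, show ac Q a (X (X e)) = X (A (X e)) from AX _, AX,
      hee.1]; exact H.nz_ac hxC hxC rfl n0)
  have o30 : bT z Q e3 e = false := orth a F.aC _ _ h3.1
    (by rw [show ac Q a e = X e from hee.1, show ac Q a (X e) = X (A e) from AX e, hee.1]; exact n0)
  have o30' : bT z Q e3 (X e) = false := orth a F.aC _ _ h3.1
    (by rw [show ac Q a (X e) = X (A e) from AX e, hee.1, show ac Q a (X (X e)) = X (A (X e)) from AX _, AX,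
      hee.1]; exact H.nz_ac hxC hxC rfl n0)
  have hC0 : ac Q (a * x * x) e = e := by rw [acA, AX, AX, hee.1, x3]
  have hC2 : ∀ t, A t = X (X t) → ac Q (a * x * x) t = X t := fun t ht => by
    rw [acA, AX, AX, ht, x3]
  have o02 : bT z Q e e2 = false := orth _ axxC _ _ hC0 (by
    rw [hC2 _ h2.1, hC2 (X e2) (by rw [AX, h2.1])]; exact n2)
  have o02' : bT z Q e (X e2) = false := orth _ axxC _ _ hC0 (by
    rw [hC2 (X e2) (by rw [AX, h2.1]), hC2 (X (X e2)) (by rw [AX, AX, h2.1])]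
    exact H.nz_ac hxC hxC rfl n2)
  -- planes are orthogonal
  have mk : ∀ s t, Nz Q x t → bT z Q s t = false → bT z Q s (X t) = false →
      ∀ i j k l, bT z Q (fp s i j) (fp t k l) = false := by
    intro s t ht h h' i j k l
    have h3 : bT z Q (X s) t = false := by
      have : bT z Q (X s) (X (X (X t))) = bT z Q s (X (X t)) := bX _ _
      rw [x3, ← xx t ht, H.bT_mul_right, h, h'] at this
      exact this
    have h4 : bT z Q (X s) (X t) = false := (bX _ _).trans h
    have h0 : ∀ s, bT z Q 1 s = false := fun s => by rw [H.bT_symm]; exact H.bT_one s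
    cases i <;> cases j <;> cases k <;> cases l <;>
      simp [fp, tsel, H.bT_mul_left, H.bT_mul_right, H.bT_one, h0, h, h', h3, h4]
  have flip : ∀ s t, Nz Q x s → bT z Q s t = false → bT z Q s (X t) = false → Nz Q x t →
      bT z Q t s = false ∧ bT z Q t (X s) = false := by
    intro s t hs h h' ht
    have := mk s t ht h h' false true true false
    simp only [fp, tsel, cond_true, cond_false, one_mul, mul_one] at this
    exact ⟨(H.bT_symm t s).trans h, (H.bT_symm t (X s)).trans this⟩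
  obtain ⟨o01, o01'⟩ := flip e1 e n1 o10 o10' n0
  obtain ⟨o03, o03'⟩ := flip e3 e n3 o30 o30' n0
  have o12 : bT z Q e1 e2 = false := (bP e e1).trans o01
  have o12' : bT z Q e1 (X e2) = false := by
    show bT z Q (P e) (X (P e1)) = false
    rw [← PX, bP]; exact o01'
  have o23 : bT z Q e2 e3 = false := (bP e1 e2).trans o12
  have o23' : bT z Q e2 (X e3) = false := by
    show bT z Q (P e1) (X (P e2)) = false
    rw [← PX, bP]; exact o12'
  have o13 : bT z Q e1 e3 = false := (bP e e2).trans o02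
  have o13' : bT z Q e1 (X e3) = false := by
    show bT z Q (P e) (X (P e2)) = false
    rw [← PX, bP]; exact o02'
  -- the form on one plane
  have bee : bT z Q e (X e) = true := by
    by_contra h
    rw [Bool.not_eq_true] at h
    obtain ⟨t, ht⟩ := H.bT_nondeg ne0
    obtain ⟨v, rfl⟩ := ψbij.2 t
    have h1 : ∀ s, Nz Q x s → bT z Q e s = false → bT z Q e (X s) = false → ∀ i j,
        bT z Q e (fp s i j) = false := fun s _ a b i j => by
      cases i <;> cases j <;> simp [fp, tsel, H.bT_mul_right, H.bT_one, a, b]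
    rw [show ψ v = fT (msk v) from rfl] at ht
    simp only [fT, H.bT_mul_right, h1 e n0 (H.bT_self e) h, h1 e1 n1 o01 o01', h1 e2 n2 o02 o02',
      h1 e3 n3 o03 o03'] at ht
    exact absurd ht (by decide)
  have qe : qT z Q e = true := by
    have h1 := H.qT_mul e (X e)
    rw [xx e n0, show qT z Q (X (X e)) = qT z Q e from (H.qT_ac hxC _).trans (H.qT_ac hxC e),
      show qT z Q (X e) = qT z Q e from H.qT_ac hxC e, bee] at h1
    cases hq : qT z Q e
    · rw [hq] at h1; exact absurd h1 (by decide)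
    · rfl
  have qone : qT z Q 1 = false := by
    rw [Bool.eq_false_iff, ← cl_one Q, Ne, H.qT_cl Q.one_mem, one_mul]
    exact H.zne.symm
  have qfp : ∀ s, Nz Q x s → qT z Q s = true → ∀ i j, qT z Q (fp s i j) = (i || j) := by
    intro s hs hq i j
    have hq' : qT z Q (X s) = true := (H.qT_ac hxC s).trans hq
    have hq'' : qT z Q (X (X s)) = true := (H.qT_ac hxC _).trans hq'
    cases i <;> cases j <;> simp [fp, tsel, qone, hq, hq', xx s hs, hq'']
  have qP : ∀ t, qT z Q (P t) = qT z Q t := H.qT_ac F.pC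
  have qe1 : qT z Q e1 = true := (qP e).trans qe
  have qe2 : qT z Q e2 = true := (qP e1).trans qe1
  have qe3 : qT z Q e3 = true := (qP e2).trans qe2
  have quad : ∀ v, qT z Q (ψ v) = qv v := by
    intro v
    rw [show qv v = qmask (msk v) by rw [← qv_cmb, cmb_msk], show ψ v = fT (msk v) from rfl]
    simp only [fT, qmask, H.qT_mul, H.bT_mul_left, H.bT_mul_right, qfp e n0 qe, qfp e1 n1 qe1,
      qfp e2 n2 qe2, qfp e3 n3 qe3, mk e e1 n1 o01 o01', mk e e2 n2 o02 o02', mk e e3 n3 o03 o03',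
      mk e1 e2 n2 o12 o12', mk e1 e3 n3 o13 o13', mk e2 e3 n3 o23 o23', Bool.xor_false]
  -- the fifth generator
  set R : T Q → T Q := ac Q r with hRdef
  have Rm : ∀ s t, R (s * t) = R s * R t := H.ac_mul F.rC
  have RX : ∀ t, R (X t) = X (R t) := cx r F.rC (by rw [F.hr]; rfl)
  have R2 : ∀ t, R (R t) = t := fun t => by
    rw [hRdef]
    rw [← H.ac_comp F.rC F.rC]
    refine H.ac_Q ((H.img_eq_one ((Cz z).mul_mem F.rC F.rC)).1 ?_) t
    rw [H.img_mul F.rC F.rC, F.hr]
    exact m_facts.2.2.1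
  have RP : ∀ t, P (R (P t)) = R t := fun t => by
    rw [hRdef, hPdef]
    rw [← H.ac_comp F.rC F.pC, ← H.ac_comp F.pC ((Cz z).mul_mem F.rC F.pC)]
    refine H.ac_img ((Cz z).mul_mem F.pC ((Cz z).mul_mem F.rC F.pC)) F.rC ?_ t
    rw [H.img_mul F.pC ((Cz z).mul_mem F.rC F.pC), H.img_mul F.rC F.pC, F.hp, F.hr, m_facts.2.1,
      ← mul_assoc, mul_inv_cancel, one_mul]
  have RA : ∀ t, R (A (R (A (R (A t))))) = t := fun t => by
    rw [hRdef, hAdef]
    have m1 := (Cz z).mul_mem F.rC F.aC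
    rw [← H.ac_comp F.rC F.aC, ← H.ac_comp F.rC F.aC, ← H.ac_comp m1 m1, ← H.ac_comp F.rC F.aC,
      ← H.ac_comp ((Cz z).mul_mem m1 m1) m1]
    refine H.ac_Q ((H.img_eq_one ((Cz z).mul_mem ((Cz z).mul_mem m1 m1) m1)).1 ?_) t
    rw [H.img_mul ((Cz z).mul_mem m1 m1) m1, H.img_mul m1 m1, H.img_mul F.rC F.aC, F.hr, F.ha]
    exact m_facts.2.2.2.1
  obtain ⟨w, hw⟩ := ψbij.2 (R e)
  have Pinv : ∀ v t, P t = ψ v → t = ψ (act mP⁻¹ v) := fun v t h => by
    refine H.ac_inj F.pC (h.trans ?_)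
    show ψ v = P (ψ (act mP⁻¹ v))
    rw [gP, ← act_mul, mul_inv_cancel, act_one]
  have r1 : R e1 = ψ (act mP⁻¹ w) := Pinv w _ (by rw [he1, RP]; exact hw.symm)
  have r2 : R e2 = ψ (act mP⁻¹ (act mP⁻¹ w)) := Pinv _ _ (by rw [he2, RP]; exact r1)
  have r3 : R e3 = ψ (act mP⁻¹ (act mP⁻¹ (act mP⁻¹ w))) := Pinv _ _ (by rw [he3, RP]; exact r2)
  have gRw : ∀ v, R (ψ v) = ψ (gw w v) := by
    refine ext_bas _ _ (fadd r F.rC) (fun u v => ?_) fun i => ?_
    · show ψ (gw w (vadd u v)) = _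
      rw [← ψadd]
      congr 1
      simp only [gw, msk_vadd, mbit_madd, vsel_xor]
      ac_rfl
    · show R (ψ (bas i)) = ψ (gw w (bas i))
      have hz : ∀ u : V, vadd u (0, 0) = u ∧ vadd (0, 0) u = u := fun u =>
        ⟨Prod.ext (wadd_zero _) (wadd_zero _), Prod.ext (zero_wadd _) (zero_wadd _)⟩
      simp only [gw, msk_bas, mb i 0 (by norm_num), mb i 1 (by norm_num), mb i 2 (by norm_num),
        mb i 3 (by norm_num), mb i 4 (by norm_num), mb i 5 (by norm_num), mb i 6 (by norm_num),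
        mb i 7 (by norm_num), val]
      fin_cases i <;> simp [vsel, sel, hz, RX, ← XΨ, ← hw, r1, r2, r3]
  have hwq : qv w = true := by rw [← quad, hw]; exact (H.qT_ac F.rC e).trans qe
  have hw2 : gw w w = bas 0 := ψinj (by rw [← gRw, hw, v0]; exact R2 e)
  have hw3 : ∀ i : Fin 8, gw w (act mA (gw w (act mA (gw w (act mA (bas i)))))) = bas i := fun i =>
    ψinj (by rw [← gRw, ← gA, ← gRw, ← gA, ← gRw, ← gA]; exact RA _)
  have hwR : w = act mR (bas 0) := gw_unique w hwq hw2 (hw3 0) (hw3 2)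
  have rp : ∀ v, act mP⁻¹ (act mR v) = act mR (act mP v) := fun v => by
    rw [← act_mul, ← act_mul, m_facts.2.1]
  have gR : ∀ v, R (ψ v) = ψ (act mR v) := agree_of r mR F.rC RX mX_facts.2.2.2.2.2
    (by rw [← hwR]; exact hw.symm) (by rw [show ac Q r e1 = R e1 from rfl, r1, hwR, rp, bp0])
    (by rw [show ac Q r e2 = R e2 from rfl, r2, hwR, rp, bp0, rp, bp2])
    (by rw [show ac Q r e3 = R e3 from rfl, r3, hwR, rp, bp0, rp, bp2, rp, bp4])
  -- the even part
  let S : Subgroup M0 :=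
    { carrier := {m | ∀ c ∈ Cz z, img z π c = m → ∀ v, ac Q c (ψ v) = ψ (act m v)} ∩ (π.range : Set M0)
      one_mem' := ⟨fun c hc h v => by rw [act_one]; exact H.ac_Q ((H.img_eq_one hc).1 h) _, one_mem _⟩
      mul_mem' := by
        rintro m n ⟨hm, hm'⟩ ⟨hn, hn'⟩
        refine ⟨fun c hc h v => ?_, mul_mem hm' hn'⟩
        obtain ⟨d, hd, hdi⟩ := H.lift hn'
        have hcd : c * d⁻¹ ∈ Cz z := (Cz z).mul_mem hc ((Cz z).inv_mem hd)
        rw [show c = c * d⁻¹ * d by group, H.ac_comp hcd hd, hn d hd hdi, hm _ hcd ?_, act_mul]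
        rw [H.img_mul hc ((Cz z).inv_mem hd), H.img_inv hd, h, hdi, mul_inv_cancel_right]
      inv_mem' := by
        rintro m ⟨hm, hm'⟩
        refine ⟨fun c hc h v => ?_, inv_mem hm'⟩
        apply H.ac_inj ((Cz z).inv_mem hc)
        rw [H.ac_inv hc, hm _ ((Cz z).inv_mem hc) (by rw [H.img_inv hc, h, inv_inv]), ← act_mul,
          mul_inv_cancel, act_one] }
  have gen_mem : ∀ (c : G) (m : M0), c ∈ Cz z → img z π c = m →
      (∀ v, ac Q c (ψ v) = ψ (act m v)) → m ∈ S := fun c m hc hi h =>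
    ⟨fun d hd hdi v => by rw [H.ac_img hd hc (hdi.trans hi.symm)]; exact h v, hi ▸ H.img_mem_range c⟩
  have sX : mX ∈ S := gen_mem x mX hxC F.hx fun v => XΨ v
  have s6 : ∀ g : Perm (Fin 6), Perm.sign g = 1 → ((1, g) : M0) ∈ S := fun g hg => by
    have key : ∀ m : M0, m.1 = 1 → m ∈ S → m.2 ∈ S.comap (MonoidHom.inr (Perm (Fin 3)) (Perm (Fin 6))) :=
      fun m h hm => by
        show ((1, m.2) : M0) ∈ S
        rwa [show ((1, m.2) : M0) = m from Prod.ext h.symm rfl]
    exact mem_of_even _ (key _ mX_facts.2.2.1 (gen_mem a mA F.aC F.ha gA))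
      (key _ mX_facts.2.2.2.1 (gen_mem b mB F.bC F.hb gB))
      (key _ mX_facts.2.2.2.2.1 (gen_mem p mP F.pC F.hp gP))
      (key _ mX_facts.2.2.2.2.2 (gen_mem r mR F.rC F.hr gR)) hg
  have s_even : ∀ m : M0, Perm.sign m.1 = 1 → Perm.sign m.2 = 1 → m ∈ S := by
    rintro ⟨σ, g⟩ h1 h2
    rw [show ((σ, g) : M0) = (σ, 1) * (1, g) by simp]
    refine S.mul_mem ?_ (s6 g h2)
    have hX1 : ((mX.1, 1) : M0) ∈ S := by
      rwa [show ((mX.1, 1) : M0) = mX from Prod.ext rfl mX_facts.2.1.symm]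
    rcases (even_cases σ h1).1 with e | e | e <;> rw [e]
    · exact S.one_mem
    · exact hX1
    · simpa using S.mul_mem hX1 hX1
  -- every element agrees up to the element of order three
  have upto : ∀ c ∈ Cz z, ∃ m : M0, (m = 1 ∨ m = mX ∨ m = mX * mX) ∧
      ∀ v, ac Q c (ψ v) = ψ (act (img z π c * m) v) := by
    intro c hc
    have hi := (Cz z).inv_mem hc
    have comm : ∀ (d : G), d ∈ Cz z → Perm.sign (img z π d).1 = 1 → Perm.sign (img z π d).2 = 1 →
        ∀ v, ac Q c (ψ (act (img z π d) v)) = ac Q (c * d) (ψ v) := fun d hd h1 h2 v => by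
      rw [H.ac_comp hc hd, (s_even _ h1 h2).1 d hd rfl]
    set m := img z π c with hm
    -- the discrepancy
    obtain ⟨L, hL⟩ : ∃ L : V → V, ∀ v, ac Q c (ψ v) = ψ (act m (L v)) := by
      refine ⟨fun v => act m⁻¹ ((Equiv.ofBijective ψ ψbij).symm (ac Q c (ψ v))), fun v => ?_⟩
      beta_reduce
      rw [← act_mul, mul_inv_cancel, act_one]
      exact ((Equiv.ofBijective ψ ψbij).apply_symm_apply _).symm
    have Lcomm : ∀ d : M0, Perm.sign d.1 = 1 → Perm.sign d.2 = 1 → ∀ v, L (act d v) = act d (L v) := by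
      intro d h1 h2 v
      obtain ⟨g, hg, hgi⟩ := H.lift' h1 h2
      have hcg : c * g * c⁻¹ ∈ Cz z := (Cz z).mul_mem ((Cz z).mul_mem hc hg) hi
      have hgc : img z π (c * g * c⁻¹) = m * d * m⁻¹ := by rw [H.img_conj hc hg, hgi]
      have hs : m * d * m⁻¹ ∈ S := s_even _ (by simp [h1]) (by simp [h2])
      have := hL (act d v)
      rw [← (s_even d h1 h2).1 g hg hgi, ← H.ac_comp hc hg, show c * g = c * g * c⁻¹ * c by group,
        H.ac_comp hcg hc, hL, hs.1 _ hcg hgc] at this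
      have := ψinj this
      rw [← act_mul, show m * d * m⁻¹ * m = m * d by group, act_mul] at this
      have := congrArg (act m⁻¹) this
      rw [← act_mul, inv_mul_cancel, act_one, ← act_mul, inv_mul_cancel, act_one] at this
      exact this.symm
    have hw0 : L (bas 0) = bas 0 ∨ L (bas 0) = act mX (bas 0) ∨ L (bas 0) = act mX (act mX (bas 0)) := by
      refine w0_eigen _ ?_ ?_ ?_
      · rw [← Lcomm _ (by decide +kernel) (by decide +kernel), ← Lcomm _ (by decide +kernel) (by decide +kernel),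
          ba0]
      · rw [← Lcomm _ (by decide +kernel) (by decide +kernel), bb0]
      · intro h
        have := hL (bas 0)
        rw [h, show act m (0, 0) = (0, 0) from by
          have := act_add m (0, 0) (0, 0)
          rw [show vadd ((0, 0) : V) (0, 0) = (0, 0) from by decide +kernel] at this
          rw [this]
          exact Prod.ext (wadd_self _) (wadd_self _), ψzero, v0] at this
        exact ne0 ((H.ac_eq_one hc).1 this)
    obtain ⟨k, hk, hk0⟩ : ∃ k : M0, (k = 1 ∨ k = mX ∨ k = mX * mX) ∧ L (bas 0) = act k (bas 0) := by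
      rcases hw0 with h | h | h
      · exact ⟨1, Or.inl rfl, by rw [h, act_one]⟩
      · exact ⟨mX, Or.inr (Or.inl rfl), h⟩
      · exact ⟨mX * mX, Or.inr (Or.inr rfl), by rw [h, act_mul]⟩
    refine ⟨k, hk, fun v => ?_⟩
    have hkc : ∀ d : M0, d.1 = 1 ∨ d = mX → k * d = d * k := by
      intro d hd
      have : Commute mX d := by
        rcases hd with hd | hd
        · exact mX_comm d hd
        · rw [hd]
      rcases hk with rfl | rfl | rfl
      · simp
      · exact this.eq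
      · exact (this.mul_left this).eq
    have step : ∀ d : M0, Perm.sign d.1 = 1 → Perm.sign d.2 = 1 → (d.1 = 1 ∨ d = mX) → ∀ v,
        L v = act k v → L (act d v) = act k (act d v) := fun d h1 h2 h3 v hv => by
      rw [Lcomm d h1 h2, hv, ← act_mul, ← act_mul, hkc d h3]
    have sP : Perm.sign mP.1 = 1 ∧ Perm.sign mP.2 = 1 ∧ Perm.sign mX.2 = 1 := by decide +kernel
    have eP := step mP sP.1 sP.2.1 (Or.inl mX_facts.2.2.2.2.1)
    have eX := step mX mX_facts.1 sP.2.2 (Or.inr rfl)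
    have l2 : L (bas 2) = act k (bas 2) := bp0 ▸ eP _ hk0
    have l4 : L (bas 4) = act k (bas 4) := bp2 ▸ eP _ l2
    have l6 : L (bas 6) = act k (bas 6) := bp4 ▸ eP _ l4
    refine ext_bas (fun v => ac Q c (ψ v)) (fun v => ψ (act (m * k) v)) (fadd c hc) (gadd (m * k)) (fun i => ?_) v
    show ac Q c (ψ (bas i)) = ψ (act (m * k) (bas i))
    rw [hL, act_mul]
    congr 2
    fin_cases i
    exacts [hk0, bx0 ▸ eX _ hk0, l2, bx2 ▸ eX _ l2, l4, bx4 ▸ eX _ l4, l6, bx6 ▸ eX _ l6]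
  have act_k : ∀ k : M0, (k = 1 ∨ k = mX ∨ k = mX * mX) → act (k * k) (bas 0) = bas 0 → k = 1 := by
    intro k hk h
    obtain ⟨-, hn1, hn2⟩ := bas_ne
    rcases hk with rfl | rfl | rfl
    · rfl
    · rw [act_mul] at h; exact absurd h hn2
    · rw [show mX * mX * (mX * mX) = mX * mX * mX * mX by group, m_facts.2.2.2.2, one_mul] at h
      exact absurd h hn1
  have even_agree : ∀ c ∈ Cz z, Perm.sign (img z π c).1 = 1 → ∀ v, ac Q c (ψ v) = ψ (act (img z π c) v) := by
    intro c hc h1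
    obtain ⟨k, hk, hag⟩ := upto c hc
    have hcomm : img z π c * k = k * img z π c := by
      have : Commute (img z π c) mX := Prod.ext (even_cases _ h1).2 (by simp [mX_facts.2.1])
      rcases hk with rfl | rfl | rfl
      · simp
      · exact this.eq
      · exact (this.mul_right this).eq
    have hcc := (Cz z).mul_mem hc hc
    have key : ∀ v, act (k * k) v = v := by
      intro v
      have hs := s_even (img z π (c * c)) (by rw [H.img_mul hc hc, Prod.fst_mul, map_mul, h1, one_mul])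
        (by rw [H.img_mul hc hc, Prod.snd_mul, map_mul, Int.units_mul_self])
      have := hs.1 (c * c) hcc rfl v
      rw [H.ac_comp hc hc, hag, hag, ← act_mul, H.img_mul hc hc] at this
      have := ψinj this
      rw [show img z π c * k * (img z π c * k) = img z π c * img z π c * (k * k) by
        conv_lhs => rw [mul_assoc, ← mul_assoc k, ← hcomm, mul_assoc (img z π c) k k, ← mul_assoc],
        act_mul] at this
      have := congrArg (act (img z π c * img z π c)⁻¹) this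
      rw [← act_mul, inv_mul_cancel, act_one, ← act_mul, inv_mul_cancel, act_one] at this
      exact this
    intro v
    rw [hag, act_k k hk (key _), mul_one]
  obtain ⟨m₀, hm₀, hm₀s⟩ := H.odd
  obtain ⟨t₀, ht₀, ht₀i⟩ := H.lift hm₀
  obtain ⟨k, hk, hag₀⟩ := upto t₀ ht₀
  -- adjust the identification
  set π' : ↥(Cz z) →* M0 := (MulAut.conj k).toMonoidHom.comp π with hπ'
  have himg : ∀ c, c ∈ Cz z → img z π' c = k * img z π c * k⁻¹ := fun c hc => by
    rw [img, img, dif_pos hc, dif_pos hc]; rfl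
  have hk_sign : Perm.sign k.1 = 1 := by
    rcases hk with rfl | rfl | rfl <;> decide +kernel
  have hk_sign2 : k.2 = 1 := by
    rcases hk with rfl | rfl | rfl <;> decide +kernel
  have hP' : Pre z Q π' :=
    { st := H.st
      card := H.card
      ker := by
        ext y
        rw [hπ', MonoidHom.mem_ker, MonoidHom.comp_apply, MulEquiv.toMonoidHom_eq_coe, MonoidHom.coe_coe,
          MulEquiv.map_eq_one_iff, ← MonoidHom.mem_ker, H.ker]
      big := fun m h1 h2 => by
        obtain ⟨y, hy⟩ := H.big (k⁻¹ * m * k) (by simp [h1]) (by simp [h2])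
        refine ⟨y, ?_⟩
        rw [hπ', MonoidHom.comp_apply, hy]
        show k * (k⁻¹ * m * k) * k⁻¹ = m
        group
      odd := by
        obtain ⟨m, ⟨y, rfl⟩, hs⟩ := H.odd
        refine ⟨π' y, ⟨y, rfl⟩, ?_⟩
        show Perm.sign (k * π y * k⁻¹).1 = -1
        simp [hs] }
  refine ⟨π', ψ, hP', ψadd, ψbij, quad, fun c hc v => ?_⟩
  have same : ∀ d ∈ Cz z, Perm.sign (img z π d).1 = 1 → img z π' d = img z π d := fun d hd h1 => by
    rw [himg d hd]
    refine mul_inv_eq_iff_eq_mul.mpr ?_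
    refine Prod.ext ?_ (by simp [hk_sign2])
    rcases hk with rfl | rfl | rfl
    · simp
    · exact (even_cases _ h1).2.symm
    · show mX.1 * mX.1 * (img z π d).1 = (img z π d).1 * (mX.1 * mX.1)
      rw [← mul_assoc, (even_cases _ h1).2, mul_assoc, mul_assoc, (even_cases _ h1).2]
  rcases Int.units_eq_one_or (Perm.sign (img z π c).1) with h1 | h1
  · rw [same c hc h1]; exact even_agree c hc h1 v
  · have hd : c * t₀⁻¹ ∈ Cz z := (Cz z).mul_mem hc ((Cz z).inv_mem ht₀)
    have hd1 : Perm.sign (img z π (c * t₀⁻¹)).1 = 1 := by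
      rw [H.img_mul hc ((Cz z).inv_mem ht₀), H.img_inv ht₀, ht₀i, Prod.fst_mul, Prod.fst_inv, map_mul,
        map_inv, h1, hm₀s]
      rfl
    conv_lhs => rw [show c = c * t₀⁻¹ * t₀ by group]
    rw [H.ac_comp hd ht₀, hag₀, even_agree _ hd hd1, ← act_mul]
    congr 2
    conv_rhs => rw [show c = c * t₀⁻¹ * t₀ by group, hP'.img_mul hd ht₀, same _ hd hd1]
    congr 1
    rw [himg t₀ ht₀, ht₀i]
    refine Prod.ext ?_ (by simp [hk_sign2])
    rcases hk with rfl | rfl | rfl
    · simp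
    · exact ((odd_conj _ hm₀s).1).symm
    · exact ((odd_conj _ hm₀s).2).symm

end Pre

end CfsgLib.ThreeSixCent
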