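import Cfsg.Agent.Lib.ThreeSixCent.Gen

/-!
Computations in the model: totally singular subspaces invariant under a point stabiliser.
-/

set_option autoImplicit false
set_option synthInstance.maxSize 512

open Equiv

namespace CfsgLib.ThreeSixCent

/-- the two representatives of singular vectors -/
def rOne : V := (1, 0)

/-- the second representative -/
def rTwo : V := (6, 1)

/-- stabiliser generators -/
def gOne : List M0 := [(1, (swap 2 3 * swap 3 5)), (1, (swap 0 4 * swap 1 2))]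

/-- stabiliser generators -/
def gTwo : List M0 := [(1, (swap 1 2 * swap 3 5)), ((swap 0 1 * swap 1 2), (swap 0 1 * swap 1 3 * swap 2 5 * swap 5 4))]

/-- the totally singular plane at the first representative -/
def eThree : List V := [(0, 0), (1, 0), (6, 0), (7, 0), (10, 0), (11, 0), (12, 0), (13, 0)]

/-- the totally singular space at the first representative -/
def eFour : List V := [(0, 0), (1, 0), (6, 0), (7, 0), (10, 0), (11, 0), (12, 0), (13, 0), (0, 1), (1, 1), (6, 1), (7, 1), (10, 1), (11, 1), (12, 1), (13, 1)]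

/-- the other invariant spaces at the first representative, each with a vector -/
def otherOne : List (List V × V) := [([(0, 0), (1, 0), (0, 1), (1, 1), (6, 6), (7, 6), (6, 7), (7, 7), (10, 10), (11, 10), (10, 11), (11, 11), (12, 12), (13, 12), (12, 13), (13, 13)], (0, 1)), ([(0, 0), (1, 0), (2, 0), (3, 0), (4, 0), (5, 0), (6, 0), (7, 0), (8, 0), (9, 0), (10, 0), (11, 0), (12, 0), (13, 0), (14, 0), (15, 0)], (6, 0)), ([(0, 0), (1, 0), (0, 1), (1, 1), (0, 6), (1, 6), (0, 7), (1, 7), (0, 10), (1, 10), (0, 11), (1, 11), (0, 12), (1, 12), (0, 13), (1, 13)], (0, 1))]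

/-- the invariant spaces at the second representative, each with a vector -/
def otherTwo : List (List V × V) := [([(0, 0), (1, 0), (6, 1), (7, 1), (0, 6), (1, 6), (6, 7), (7, 7)], (1, 0)), ([(0, 0), (6, 1), (9, 2), (15, 3), (14, 4), (8, 5), (7, 6), (1, 7), (13, 8), (11, 9), (4, 10), (2, 11), (3, 12), (5, 13), (10, 14), (12, 15)], (9, 2)), ([(0, 0), (1, 0), (6, 1), (7, 1), (0, 6), (1, 6), (6, 7), (7, 7), (14, 10), (15, 10), (8, 11), (9, 11), (14, 12), (15, 12), (8, 13), (9, 13)], (1, 0)), ([(0, 0), (1, 0), (6, 0), (7, 0), (0, 1), (1, 1), (6, 1), (7, 1), (0, 6), (1, 6), (6, 6), (7, 6), (0, 7), (1, 7), (6, 7), (7, 7)], (1, 0)), ([(0, 0), (6, 1), (14, 2), (8, 3), (9, 4), (15, 5), (7, 6), (1, 7), (11, 8), (13, 9), (5, 10), (3, 11), (2, 12), (4, 13), (12, 14), (10, 15)], (14, 2))]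

/-- the group of order eight at the first representative -/
def eightGroup : List (Equiv.Perm (Fin 6)) := [1, (swap 1 2 * swap 3 5), (swap 1 3 * swap 2 5), (swap 1 5 * swap 2 3), (swap 0 4), (swap 0 4 * swap 1 2 * swap 3 5), (swap 0 4 * swap 1 3 * swap 2 5), (swap 0 4 * swap 1 5 * swap 2 3)]

/-- membership in the group of order sixteen at the first representative -/
def inSixteen (m : M0) : Bool := (m.1 == 1 || m.1 == swap 1 2) && eightGroup.contains m.2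

/-- an element moving the first representative inside its plane -/
def cMove : M0 := (1, (swap 0 1 * swap 2 3 * swap 3 5 * swap 5 4))

/-- the moved vector -/
def rMove : V := (6, 0)

/-- a vector outside the plane -/
def pFar : V := (0, 1)

/-- the closure of a list of vectors under addition -/
def span (l : List V) : List V := l.foldl (fun acc w => acc ++ acc.map (vadd w)) [(0, 0)]

/-- candidates for members of an invariant totally singular space containing `r` -/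
def wCand (r : V) (gs : List M0) (w : V) : Bool :=
  !qv w && !bv r w && w != (0, 0) && w != r && gs.all fun s => !bv w (act s w)

/-- invariance -/
def closed (gs : List M0) (S : List V) : Bool := gs.all fun s => S.all fun w => S.contains (act s w)

/-- all vectors -/
def allV : List V := (List.finRange 16).flatMap fun a => (List.finRange 16).map fun b => (a, b)

theorem mem_allV : ∀ v : V, v ∈ allV := by decide +kernel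

/-- totally singular -/
def tsing (S : List V) : Bool := S.all fun a => !qv a && S.all fun b => !bv a b

/-- the closure table at the first representative -/
def tabOne : List (List V × List V) :=
  [([(1, 0)], [(1, 0)]),
    ([(1, 0), (0, 1)], [(1, 0), (0, 1)]),
    ([(1, 0), (0, 1), (0, 6)], [(1, 0), (0, 1), (0, 6), (0, 10)]),
    ([(1, 0), (0, 1), (0, 7)], [(1, 0), (0, 1), (0, 7), (0, 11)]),
    ([(1, 0), (0, 1), (0, 10)], [(1, 0), (0, 1), (0, 10), (0, 13)]),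
    ([(1, 0), (0, 1), (0, 11)], [(1, 0), (0, 1), (0, 11), (0, 12)]),
    ([(1, 0), (0, 1), (0, 12)], [(1, 0), (0, 1), (0, 12), (0, 7)]),
    ([(1, 0), (0, 1), (0, 13)], [(1, 0), (0, 1), (0, 13), (0, 6)]),
    ([(1, 0), (0, 1), (1, 6)], [(1, 0), (0, 1), (1, 6), (1, 10)]),
    ([(1, 0), (0, 1), (1, 7)], [(1, 0), (0, 1), (1, 7), (1, 11)]),
    ([(1, 0), (0, 1), (1, 10)], [(1, 0), (0, 1), (1, 10), (1, 13)]),
    ([(1, 0), (0, 1), (1, 11)], [(1, 0), (0, 1), (1, 11), (1, 12)]),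
    ([(1, 0), (0, 1), (1, 12)], [(1, 0), (0, 1), (1, 12), (1, 7)]),
    ([(1, 0), (0, 1), (1, 13)], [(1, 0), (0, 1), (1, 13), (1, 6)]),
    ([(1, 0), (0, 1), (2, 0)], [(1, 0), (0, 1), (2, 0), (5, 0), (9, 0)]),
    ([(1, 0), (0, 1), (2, 7)], [(1, 0), (0, 1), (2, 7), (2, 11), (2, 12)]),
    ([(1, 0), (0, 1), (2, 11)], [(1, 0), (0, 1), (2, 11), (2, 12), (2, 7)]),
    ([(1, 0), (0, 1), (2, 12)], [(1, 0), (0, 1), (2, 12), (2, 7), (2, 11)]),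
    ([(1, 0), (0, 1), (3, 0)], [(1, 0), (0, 1), (3, 0), (4, 0), (8, 0)]),
    ([(1, 0), (0, 1), (3, 7)], [(1, 0), (0, 1), (3, 7), (3, 11), (3, 12)]),
    ([(1, 0), (0, 1), (3, 11)], [(1, 0), (0, 1), (3, 11), (3, 12), (3, 7)]),
    ([(1, 0), (0, 1), (3, 12)], [(1, 0), (0, 1), (3, 12), (3, 7), (3, 11)]),
    ([(1, 0), (0, 1), (4, 0)], [(1, 0), (0, 1), (4, 0), (8, 0), (15, 0)]),
    ([(1, 0), (0, 1), (4, 7)], [(1, 0), (0, 1), (4, 7), (8, 11), (15, 12)]),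
    ([(1, 0), (0, 1), (5, 0)], [(1, 0), (0, 1), (5, 0), (9, 0), (14, 0)]),
    ([(1, 0), (0, 1), (5, 7)], [(1, 0), (0, 1), (5, 7), (9, 11), (14, 12)]),
    ([(1, 0), (0, 1), (6, 0)], [(1, 0), (0, 1), (6, 0), (10, 0)]),
    ([(1, 0), (0, 1), (6, 1)], [(1, 0), (0, 1), (6, 1), (10, 1)]),
    ([(1, 0), (0, 1), (6, 6)], [(1, 0), (0, 1), (6, 6), (10, 10)]),
    ([(1, 0), (0, 1), (6, 7)], [(1, 0), (0, 1), (6, 7), (10, 11)]),
    ([(1, 0), (0, 1), (7, 0)], [(1, 0), (0, 1), (7, 0), (11, 0)]),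
    ([(1, 0), (0, 1), (7, 1)], [(1, 0), (0, 1), (7, 1), (11, 1)]),
    ([(1, 0), (0, 1), (7, 6)], [(1, 0), (0, 1), (7, 6), (11, 10)]),
    ([(1, 0), (0, 1), (7, 7)], [(1, 0), (0, 1), (7, 7), (11, 11)]),
    ([(1, 0), (0, 1), (8, 0)], [(1, 0), (0, 1), (8, 0), (15, 0), (4, 0)]),
    ([(1, 0), (0, 1), (8, 11)], [(1, 0), (0, 1), (8, 11), (15, 12), (4, 7)]),
    ([(1, 0), (0, 1), (9, 0)], [(1, 0), (0, 1), (9, 0), (14, 0), (5, 0)]),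
    ([(1, 0), (0, 1), (9, 11)], [(1, 0), (0, 1), (9, 11), (14, 12), (5, 7)]),
    ([(1, 0), (0, 1), (10, 0)], [(1, 0), (0, 1), (10, 0), (13, 0)]),
    ([(1, 0), (0, 1), (10, 1)], [(1, 0), (0, 1), (10, 1), (13, 1)]),
    ([(1, 0), (0, 1), (10, 10)], [(1, 0), (0, 1), (10, 10), (13, 13)]),
    ([(1, 0), (0, 1), (10, 11)], [(1, 0), (0, 1), (10, 11), (13, 12)]),
    ([(1, 0), (0, 1), (11, 0)], [(1, 0), (0, 1), (11, 0), (12, 0)]),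
    ([(1, 0), (0, 1), (11, 1)], [(1, 0), (0, 1), (11, 1), (12, 1)]),
    ([(1, 0), (0, 1), (11, 10)], [(1, 0), (0, 1), (11, 10), (12, 13)]),
    ([(1, 0), (0, 1), (11, 11)], [(1, 0), (0, 1), (11, 11), (12, 12)]),
    ([(1, 0), (0, 1), (12, 0)], [(1, 0), (0, 1), (12, 0), (7, 0)]),
    ([(1, 0), (0, 1), (12, 1)], [(1, 0), (0, 1), (12, 1), (7, 1)]),
    ([(1, 0), (0, 1), (12, 12)], [(1, 0), (0, 1), (12, 12), (7, 7)]),
    ([(1, 0), (0, 1), (12, 13)], [(1, 0), (0, 1), (12, 13), (7, 6)]),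
    ([(1, 0), (0, 1), (13, 0)], [(1, 0), (0, 1), (13, 0), (6, 0)]),
    ([(1, 0), (0, 1), (13, 1)], [(1, 0), (0, 1), (13, 1), (6, 1)]),
    ([(1, 0), (0, 1), (13, 12)], [(1, 0), (0, 1), (13, 12), (6, 7)]),
    ([(1, 0), (0, 1), (13, 13)], [(1, 0), (0, 1), (13, 13), (6, 6)]),
    ([(1, 0), (0, 1), (14, 0)], [(1, 0), (0, 1), (14, 0), (5, 0), (9, 0)]),
    ([(1, 0), (0, 1), (14, 12)], [(1, 0), (0, 1), (14, 12), (5, 7), (9, 11)]),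
    ([(1, 0), (0, 1), (15, 0)], [(1, 0), (0, 1), (15, 0), (4, 0), (8, 0)]),
    ([(1, 0), (0, 1), (15, 12)], [(1, 0), (0, 1), (15, 12), (4, 7), (8, 11)]),
    ([(1, 0), (0, 6)], [(1, 0), (0, 6), (0, 10), (0, 13)]),
    ([(1, 0), (0, 7)], [(1, 0), (0, 7), (0, 11), (0, 13)]),
    ([(1, 0), (0, 10)], [(1, 0), (0, 10), (0, 13), (0, 6)]),
    ([(1, 0), (0, 11)], [(1, 0), (0, 11), (0, 12), (0, 13)]),
    ([(1, 0), (0, 12)], [(1, 0), (0, 12), (0, 7), (0, 10)]),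
    ([(1, 0), (0, 13)], [(1, 0), (0, 13), (0, 6), (0, 10)]),
    ([(1, 0), (1, 1)], [(1, 0), (1, 1)]),
    ([(1, 0), (1, 1), (0, 6)], [(1, 0), (1, 1), (0, 6), (0, 10)]),
    ([(1, 0), (1, 1), (0, 7)], [(1, 0), (1, 1), (0, 7), (0, 11)]),
    ([(1, 0), (1, 1), (0, 10)], [(1, 0), (1, 1), (0, 10), (0, 13)]),
    ([(1, 0), (1, 1), (0, 11)], [(1, 0), (1, 1), (0, 11), (0, 12)]),
    ([(1, 0), (1, 1), (0, 12)], [(1, 0), (1, 1), (0, 12), (0, 7)]),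
    ([(1, 0), (1, 1), (0, 13)], [(1, 0), (1, 1), (0, 13), (0, 6)]),
    ([(1, 0), (1, 1), (1, 6)], [(1, 0), (1, 1), (1, 6), (1, 10)]),
    ([(1, 0), (1, 1), (1, 7)], [(1, 0), (1, 1), (1, 7), (1, 11)]),
    ([(1, 0), (1, 1), (1, 10)], [(1, 0), (1, 1), (1, 10), (1, 13)]),
    ([(1, 0), (1, 1), (1, 11)], [(1, 0), (1, 1), (1, 11), (1, 12)]),
    ([(1, 0), (1, 1), (1, 12)], [(1, 0), (1, 1), (1, 12), (1, 7)]),
    ([(1, 0), (1, 1), (1, 13)], [(1, 0), (1, 1), (1, 13), (1, 6)]),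
    ([(1, 0), (1, 1), (2, 0)], [(1, 0), (1, 1), (2, 0), (5, 0), (9, 0)]),
    ([(1, 0), (1, 1), (2, 7)], [(1, 0), (1, 1), (2, 7), (2, 11), (2, 12)]),
    ([(1, 0), (1, 1), (2, 11)], [(1, 0), (1, 1), (2, 11), (2, 12), (2, 7)]),
    ([(1, 0), (1, 1), (2, 12)], [(1, 0), (1, 1), (2, 12), (2, 7), (2, 11)]),
    ([(1, 0), (1, 1), (3, 0)], [(1, 0), (1, 1), (3, 0), (4, 0), (8, 0)]),
    ([(1, 0), (1, 1), (3, 7)], [(1, 0), (1, 1), (3, 7), (3, 11), (3, 12)]),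
    ([(1, 0), (1, 1), (3, 11)], [(1, 0), (1, 1), (3, 11), (3, 12), (3, 7)]),
    ([(1, 0), (1, 1), (3, 12)], [(1, 0), (1, 1), (3, 12), (3, 7), (3, 11)]),
    ([(1, 0), (1, 1), (4, 0)], [(1, 0), (1, 1), (4, 0), (8, 0), (15, 0)]),
    ([(1, 0), (1, 1), (4, 7)], [(1, 0), (1, 1), (4, 7), (8, 11), (15, 12)]),
    ([(1, 0), (1, 1), (5, 0)], [(1, 0), (1, 1), (5, 0), (9, 0), (14, 0)]),
    ([(1, 0), (1, 1), (5, 7)], [(1, 0), (1, 1), (5, 7), (9, 11), (14, 12)]),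
    ([(1, 0), (1, 1), (6, 0)], [(1, 0), (1, 1), (6, 0), (10, 0)]),
    ([(1, 0), (1, 1), (6, 1)], [(1, 0), (1, 1), (6, 1), (10, 1)]),
    ([(1, 0), (1, 1), (6, 6)], [(1, 0), (1, 1), (6, 6), (10, 10)]),
    ([(1, 0), (1, 1), (6, 7)], [(1, 0), (1, 1), (6, 7), (10, 11)]),
    ([(1, 0), (1, 1), (7, 0)], [(1, 0), (1, 1), (7, 0), (11, 0)]),
    ([(1, 0), (1, 1), (7, 1)], [(1, 0), (1, 1), (7, 1), (11, 1)]),
    ([(1, 0), (1, 1), (7, 6)], [(1, 0), (1, 1), (7, 6), (11, 10)]),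
    ([(1, 0), (1, 1), (7, 7)], [(1, 0), (1, 1), (7, 7), (11, 11)]),
    ([(1, 0), (1, 1), (8, 0)], [(1, 0), (1, 1), (8, 0), (15, 0), (4, 0)]),
    ([(1, 0), (1, 1), (8, 11)], [(1, 0), (1, 1), (8, 11), (15, 12), (4, 7)]),
    ([(1, 0), (1, 1), (9, 0)], [(1, 0), (1, 1), (9, 0), (14, 0), (5, 0)]),
    ([(1, 0), (1, 1), (9, 11)], [(1, 0), (1, 1), (9, 11), (14, 12), (5, 7)]),
    ([(1, 0), (1, 1), (10, 0)], [(1, 0), (1, 1), (10, 0), (13, 0)]),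
    ([(1, 0), (1, 1), (10, 1)], [(1, 0), (1, 1), (10, 1), (13, 1)]),
    ([(1, 0), (1, 1), (10, 10)], [(1, 0), (1, 1), (10, 10), (13, 13)]),
    ([(1, 0), (1, 1), (10, 11)], [(1, 0), (1, 1), (10, 11), (13, 12)]),
    ([(1, 0), (1, 1), (11, 0)], [(1, 0), (1, 1), (11, 0), (12, 0)]),
    ([(1, 0), (1, 1), (11, 1)], [(1, 0), (1, 1), (11, 1), (12, 1)]),
    ([(1, 0), (1, 1), (11, 10)], [(1, 0), (1, 1), (11, 10), (12, 13)]),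
    ([(1, 0), (1, 1), (11, 11)], [(1, 0), (1, 1), (11, 11), (12, 12)]),
    ([(1, 0), (1, 1), (12, 0)], [(1, 0), (1, 1), (12, 0), (7, 0)]),
    ([(1, 0), (1, 1), (12, 1)], [(1, 0), (1, 1), (12, 1), (7, 1)]),
    ([(1, 0), (1, 1), (12, 12)], [(1, 0), (1, 1), (12, 12), (7, 7)]),
    ([(1, 0), (1, 1), (12, 13)], [(1, 0), (1, 1), (12, 13), (7, 6)]),
    ([(1, 0), (1, 1), (13, 0)], [(1, 0), (1, 1), (13, 0), (6, 0)]),
    ([(1, 0), (1, 1), (13, 1)], [(1, 0), (1, 1), (13, 1), (6, 1)]),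
    ([(1, 0), (1, 1), (13, 12)], [(1, 0), (1, 1), (13, 12), (6, 7)]),
    ([(1, 0), (1, 1), (13, 13)], [(1, 0), (1, 1), (13, 13), (6, 6)]),
    ([(1, 0), (1, 1), (14, 0)], [(1, 0), (1, 1), (14, 0), (5, 0), (9, 0)]),
    ([(1, 0), (1, 1), (14, 12)], [(1, 0), (1, 1), (14, 12), (5, 7), (9, 11)]),
    ([(1, 0), (1, 1), (15, 0)], [(1, 0), (1, 1), (15, 0), (4, 0), (8, 0)]),
    ([(1, 0), (1, 1), (15, 12)], [(1, 0), (1, 1), (15, 12), (4, 7), (8, 11)]),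
    ([(1, 0), (1, 6)], [(1, 0), (1, 6), (1, 10), (1, 13)]),
    ([(1, 0), (1, 7)], [(1, 0), (1, 7), (1, 11), (1, 13)]),
    ([(1, 0), (1, 10)], [(1, 0), (1, 10), (1, 13), (1, 6)]),
    ([(1, 0), (1, 11)], [(1, 0), (1, 11), (1, 12), (1, 13)]),
    ([(1, 0), (1, 12)], [(1, 0), (1, 12), (1, 7), (1, 10)]),
    ([(1, 0), (1, 13)], [(1, 0), (1, 13), (1, 6), (1, 10)]),
    ([(1, 0), (2, 0)], [(1, 0), (2, 0), (5, 0), (9, 0)]),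
    ([(1, 0), (2, 7)], [(1, 0), (2, 7), (2, 11), (2, 12), (5, 7)]),
    ([(1, 0), (2, 11)], [(1, 0), (2, 11), (2, 12), (2, 7), (5, 13)]),
    ([(1, 0), (2, 12)], [(1, 0), (2, 12), (2, 7), (2, 11), (5, 10)]),
    ([(1, 0), (3, 0)], [(1, 0), (3, 0), (4, 0), (8, 0)]),
    ([(1, 0), (3, 7)], [(1, 0), (3, 7), (3, 11), (3, 12), (4, 7)]),
    ([(1, 0), (3, 11)], [(1, 0), (3, 11), (3, 12), (3, 7), (4, 13)]),
    ([(1, 0), (3, 12)], [(1, 0), (3, 12), (3, 7), (3, 11), (4, 10)]),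
    ([(1, 0), (4, 0)], [(1, 0), (4, 0), (8, 0), (15, 0)]),
    ([(1, 0), (4, 7)], [(1, 0), (4, 7), (8, 11), (15, 12), (3, 7)]),
    ([(1, 0), (5, 0)], [(1, 0), (5, 0), (9, 0), (14, 0)]),
    ([(1, 0), (5, 7)], [(1, 0), (5, 7), (9, 11), (14, 12), (2, 7)]),
    ([(1, 0), (6, 0)], [(1, 0), (6, 0), (10, 0)]),
    ([(1, 0), (6, 0), (10, 0), (0, 1)], [(1, 0), (6, 0), (10, 0), (0, 1)]),
    ([(1, 0), (6, 0), (10, 0), (0, 6)], [(1, 0), (6, 0), (10, 0), (0, 6), (0, 10)]),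
    ([(1, 0), (6, 0), (10, 0), (0, 7)], [(1, 0), (6, 0), (10, 0), (0, 7), (0, 11)]),
    ([(1, 0), (6, 0), (10, 0), (0, 10)], [(1, 0), (6, 0), (10, 0), (0, 10), (0, 13)]),
    ([(1, 0), (6, 0), (10, 0), (0, 11)], [(1, 0), (6, 0), (10, 0), (0, 11), (0, 12)]),
    ([(1, 0), (6, 0), (10, 0), (0, 12)], [(1, 0), (6, 0), (10, 0), (0, 12), (0, 7)]),
    ([(1, 0), (6, 0), (10, 0), (0, 13)], [(1, 0), (6, 0), (10, 0), (0, 13), (0, 6)]),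
    ([(1, 0), (6, 0), (10, 0), (1, 1)], [(1, 0), (6, 0), (10, 0), (1, 1)]),
    ([(1, 0), (6, 0), (10, 0), (1, 6)], [(1, 0), (6, 0), (10, 0), (1, 6), (1, 10)]),
    ([(1, 0), (6, 0), (10, 0), (1, 7)], [(1, 0), (6, 0), (10, 0), (1, 7), (1, 11)]),
    ([(1, 0), (6, 0), (10, 0), (1, 10)], [(1, 0), (6, 0), (10, 0), (1, 10), (1, 13)]),
    ([(1, 0), (6, 0), (10, 0), (1, 11)], [(1, 0), (6, 0), (10, 0), (1, 11), (1, 12)]),
    ([(1, 0), (6, 0), (10, 0), (1, 12)], [(1, 0), (6, 0), (10, 0), (1, 12), (1, 7)]),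
    ([(1, 0), (6, 0), (10, 0), (1, 13)], [(1, 0), (6, 0), (10, 0), (1, 13), (1, 6)]),
    ([(1, 0), (6, 0), (10, 0), (2, 0)], [(1, 0), (6, 0), (10, 0), (2, 0)]),
    ([(1, 0), (6, 0), (10, 0), (2, 7)], [(1, 0), (6, 0), (10, 0), (2, 7), (2, 11)]),
    ([(1, 0), (6, 0), (10, 0), (2, 11)], [(1, 0), (6, 0), (10, 0), (2, 11), (2, 12)]),
    ([(1, 0), (6, 0), (10, 0), (2, 12)], [(1, 0), (6, 0), (10, 0), (2, 12), (2, 7)]),
    ([(1, 0), (6, 0), (10, 0), (3, 0)], [(1, 0), (6, 0), (10, 0), (3, 0)]),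
    ([(1, 0), (6, 0), (10, 0), (3, 7)], [(1, 0), (6, 0), (10, 0), (3, 7), (3, 11)]),
    ([(1, 0), (6, 0), (10, 0), (3, 11)], [(1, 0), (6, 0), (10, 0), (3, 11), (3, 12)]),
    ([(1, 0), (6, 0), (10, 0), (3, 12)], [(1, 0), (6, 0), (10, 0), (3, 12), (3, 7)]),
    ([(1, 0), (6, 0), (10, 0), (4, 0)], [(1, 0), (6, 0), (10, 0), (4, 0)]),
    ([(1, 0), (6, 0), (10, 0), (4, 7)], [(1, 0), (6, 0), (10, 0), (4, 7), (8, 11)]),
    ([(1, 0), (6, 0), (10, 0), (5, 0)], [(1, 0), (6, 0), (10, 0), (5, 0)]),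
    ([(1, 0), (6, 0), (10, 0), (5, 7)], [(1, 0), (6, 0), (10, 0), (5, 7), (9, 11)]),
    ([(1, 0), (6, 0), (10, 0), (6, 1)], [(1, 0), (6, 0), (10, 0), (6, 1)]),
    ([(1, 0), (6, 0), (10, 0), (6, 6)], [(1, 0), (6, 0), (10, 0), (6, 6), (10, 10)]),
    ([(1, 0), (6, 0), (10, 0), (6, 7)], [(1, 0), (6, 0), (10, 0), (6, 7), (10, 11)]),
    ([(1, 0), (6, 0), (10, 0), (7, 1)], [(1, 0), (6, 0), (10, 0), (7, 1)]),
    ([(1, 0), (6, 0), (10, 0), (7, 6)], [(1, 0), (6, 0), (10, 0), (7, 6), (11, 10)]),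
    ([(1, 0), (6, 0), (10, 0), (7, 7)], [(1, 0), (6, 0), (10, 0), (7, 7), (11, 11)]),
    ([(1, 0), (6, 0), (10, 0), (8, 0)], [(1, 0), (6, 0), (10, 0), (8, 0)]),
    ([(1, 0), (6, 0), (10, 0), (8, 11)], [(1, 0), (6, 0), (10, 0), (8, 11), (15, 12)]),
    ([(1, 0), (6, 0), (10, 0), (9, 0)], [(1, 0), (6, 0), (10, 0), (9, 0)]),
    ([(1, 0), (6, 0), (10, 0), (9, 11)], [(1, 0), (6, 0), (10, 0), (9, 11), (14, 12)]),
    ([(1, 0), (6, 0), (10, 0), (10, 1)], [(1, 0), (6, 0), (10, 0), (10, 1)]),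
    ([(1, 0), (6, 0), (10, 0), (10, 10)], [(1, 0), (6, 0), (10, 0), (10, 10), (13, 13)]),
    ([(1, 0), (6, 0), (10, 0), (10, 11)], [(1, 0), (6, 0), (10, 0), (10, 11), (13, 12)]),
    ([(1, 0), (6, 0), (10, 0), (11, 1)], [(1, 0), (6, 0), (10, 0), (11, 1)]),
    ([(1, 0), (6, 0), (10, 0), (11, 10)], [(1, 0), (6, 0), (10, 0), (11, 10), (12, 13)]),
    ([(1, 0), (6, 0), (10, 0), (11, 11)], [(1, 0), (6, 0), (10, 0), (11, 11), (12, 12)]),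
    ([(1, 0), (6, 0), (10, 0), (12, 1)], [(1, 0), (6, 0), (10, 0), (12, 1)]),
    ([(1, 0), (6, 0), (10, 0), (12, 12)], [(1, 0), (6, 0), (10, 0), (12, 12), (7, 7)]),
    ([(1, 0), (6, 0), (10, 0), (12, 13)], [(1, 0), (6, 0), (10, 0), (12, 13), (7, 6)]),
    ([(1, 0), (6, 0), (10, 0), (13, 1)], [(1, 0), (6, 0), (10, 0), (13, 1)]),
    ([(1, 0), (6, 0), (10, 0), (13, 12)], [(1, 0), (6, 0), (10, 0), (13, 12), (6, 7)]),
    ([(1, 0), (6, 0), (10, 0), (13, 13)], [(1, 0), (6, 0), (10, 0), (13, 13), (6, 6)]),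
    ([(1, 0), (6, 0), (10, 0), (14, 0)], [(1, 0), (6, 0), (10, 0), (14, 0)]),
    ([(1, 0), (6, 0), (10, 0), (14, 12)], [(1, 0), (6, 0), (10, 0), (14, 12), (5, 7)]),
    ([(1, 0), (6, 0), (10, 0), (15, 0)], [(1, 0), (6, 0), (10, 0), (15, 0)]),
    ([(1, 0), (6, 0), (10, 0), (15, 12)], [(1, 0), (6, 0), (10, 0), (15, 12), (4, 7)]),
    ([(1, 0), (6, 1)], [(1, 0), (6, 1), (10, 1), (13, 1)]),
    ([(1, 0), (6, 6)], [(1, 0), (6, 6), (10, 10), (13, 13)]),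
    ([(1, 0), (6, 7)], [(1, 0), (6, 7), (10, 11), (12, 13)]),
    ([(1, 0), (7, 0)], [(1, 0), (7, 0), (11, 0)]),
    ([(1, 0), (7, 0), (11, 0), (0, 1)], [(1, 0), (7, 0), (11, 0), (0, 1)]),
    ([(1, 0), (7, 0), (11, 0), (0, 6)], [(1, 0), (7, 0), (11, 0), (0, 6), (0, 10)]),
    ([(1, 0), (7, 0), (11, 0), (0, 7)], [(1, 0), (7, 0), (11, 0), (0, 7), (0, 11)]),
    ([(1, 0), (7, 0), (11, 0), (0, 10)], [(1, 0), (7, 0), (11, 0), (0, 10), (0, 13)]),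
    ([(1, 0), (7, 0), (11, 0), (0, 11)], [(1, 0), (7, 0), (11, 0), (0, 11), (0, 12)]),
    ([(1, 0), (7, 0), (11, 0), (0, 12)], [(1, 0), (7, 0), (11, 0), (0, 12), (0, 7)]),
    ([(1, 0), (7, 0), (11, 0), (0, 13)], [(1, 0), (7, 0), (11, 0), (0, 13), (0, 6)]),
    ([(1, 0), (7, 0), (11, 0), (1, 1)], [(1, 0), (7, 0), (11, 0), (1, 1)]),
    ([(1, 0), (7, 0), (11, 0), (1, 6)], [(1, 0), (7, 0), (11, 0), (1, 6), (1, 10)]),
    ([(1, 0), (7, 0), (11, 0), (1, 7)], [(1, 0), (7, 0), (11, 0), (1, 7), (1, 11)]),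
    ([(1, 0), (7, 0), (11, 0), (1, 10)], [(1, 0), (7, 0), (11, 0), (1, 10), (1, 13)]),
    ([(1, 0), (7, 0), (11, 0), (1, 11)], [(1, 0), (7, 0), (11, 0), (1, 11), (1, 12)]),
    ([(1, 0), (7, 0), (11, 0), (1, 12)], [(1, 0), (7, 0), (11, 0), (1, 12), (1, 7)]),
    ([(1, 0), (7, 0), (11, 0), (1, 13)], [(1, 0), (7, 0), (11, 0), (1, 13), (1, 6)]),
    ([(1, 0), (7, 0), (11, 0), (2, 0)], [(1, 0), (7, 0), (11, 0), (2, 0)]),
    ([(1, 0), (7, 0), (11, 0), (2, 7)], [(1, 0), (7, 0), (11, 0), (2, 7), (2, 11)]),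
    ([(1, 0), (7, 0), (11, 0), (2, 11)], [(1, 0), (7, 0), (11, 0), (2, 11), (2, 12)]),
    ([(1, 0), (7, 0), (11, 0), (2, 12)], [(1, 0), (7, 0), (11, 0), (2, 12), (2, 7)]),
    ([(1, 0), (7, 0), (11, 0), (3, 0)], [(1, 0), (7, 0), (11, 0), (3, 0)]),
    ([(1, 0), (7, 0), (11, 0), (3, 7)], [(1, 0), (7, 0), (11, 0), (3, 7), (3, 11)]),
    ([(1, 0), (7, 0), (11, 0), (3, 11)], [(1, 0), (7, 0), (11, 0), (3, 11), (3, 12)]),
    ([(1, 0), (7, 0), (11, 0), (3, 12)], [(1, 0), (7, 0), (11, 0), (3, 12), (3, 7)]),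
    ([(1, 0), (7, 0), (11, 0), (4, 0)], [(1, 0), (7, 0), (11, 0), (4, 0)]),
    ([(1, 0), (7, 0), (11, 0), (4, 7)], [(1, 0), (7, 0), (11, 0), (4, 7), (8, 11)]),
    ([(1, 0), (7, 0), (11, 0), (5, 0)], [(1, 0), (7, 0), (11, 0), (5, 0)]),
    ([(1, 0), (7, 0), (11, 0), (5, 7)], [(1, 0), (7, 0), (11, 0), (5, 7), (9, 11)]),
    ([(1, 0), (7, 0), (11, 0), (6, 1)], [(1, 0), (7, 0), (11, 0), (6, 1)]),
    ([(1, 0), (7, 0), (11, 0), (6, 6)], [(1, 0), (7, 0), (11, 0), (6, 6), (10, 10)]),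
    ([(1, 0), (7, 0), (11, 0), (6, 7)], [(1, 0), (7, 0), (11, 0), (6, 7), (10, 11)]),
    ([(1, 0), (7, 0), (11, 0), (7, 1)], [(1, 0), (7, 0), (11, 0), (7, 1)]),
    ([(1, 0), (7, 0), (11, 0), (7, 6)], [(1, 0), (7, 0), (11, 0), (7, 6), (11, 10)]),
    ([(1, 0), (7, 0), (11, 0), (7, 7)], [(1, 0), (7, 0), (11, 0), (7, 7), (11, 11)]),
    ([(1, 0), (7, 0), (11, 0), (8, 0)], [(1, 0), (7, 0), (11, 0), (8, 0)]),
    ([(1, 0), (7, 0), (11, 0), (8, 11)], [(1, 0), (7, 0), (11, 0), (8, 11), (15, 12)]),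
    ([(1, 0), (7, 0), (11, 0), (9, 0)], [(1, 0), (7, 0), (11, 0), (9, 0)]),
    ([(1, 0), (7, 0), (11, 0), (9, 11)], [(1, 0), (7, 0), (11, 0), (9, 11), (14, 12)]),
    ([(1, 0), (7, 0), (11, 0), (10, 1)], [(1, 0), (7, 0), (11, 0), (10, 1)]),
    ([(1, 0), (7, 0), (11, 0), (10, 10)], [(1, 0), (7, 0), (11, 0), (10, 10), (13, 13)]),
    ([(1, 0), (7, 0), (11, 0), (10, 11)], [(1, 0), (7, 0), (11, 0), (10, 11), (13, 12)]),
    ([(1, 0), (7, 0), (11, 0), (11, 1)], [(1, 0), (7, 0), (11, 0), (11, 1)]),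
    ([(1, 0), (7, 0), (11, 0), (11, 10)], [(1, 0), (7, 0), (11, 0), (11, 10), (12, 13)]),
    ([(1, 0), (7, 0), (11, 0), (11, 11)], [(1, 0), (7, 0), (11, 0), (11, 11), (12, 12)]),
    ([(1, 0), (7, 0), (11, 0), (12, 1)], [(1, 0), (7, 0), (11, 0), (12, 1)]),
    ([(1, 0), (7, 0), (11, 0), (12, 12)], [(1, 0), (7, 0), (11, 0), (12, 12), (7, 7)]),
    ([(1, 0), (7, 0), (11, 0), (12, 13)], [(1, 0), (7, 0), (11, 0), (12, 13), (7, 6)]),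
    ([(1, 0), (7, 0), (11, 0), (13, 1)], [(1, 0), (7, 0), (11, 0), (13, 1)]),
    ([(1, 0), (7, 0), (11, 0), (13, 12)], [(1, 0), (7, 0), (11, 0), (13, 12), (6, 7)]),
    ([(1, 0), (7, 0), (11, 0), (13, 13)], [(1, 0), (7, 0), (11, 0), (13, 13), (6, 6)]),
    ([(1, 0), (7, 0), (11, 0), (14, 0)], [(1, 0), (7, 0), (11, 0), (14, 0)]),
    ([(1, 0), (7, 0), (11, 0), (14, 12)], [(1, 0), (7, 0), (11, 0), (14, 12), (5, 7)]),
    ([(1, 0), (7, 0), (11, 0), (15, 0)], [(1, 0), (7, 0), (11, 0), (15, 0)]),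
    ([(1, 0), (7, 0), (11, 0), (15, 12)], [(1, 0), (7, 0), (11, 0), (15, 12), (4, 7)]),
    ([(1, 0), (7, 1)], [(1, 0), (7, 1), (11, 1), (12, 1)]),
    ([(1, 0), (7, 6)], [(1, 0), (7, 6), (11, 10), (12, 13)]),
    ([(1, 0), (7, 7)], [(1, 0), (7, 7), (11, 11), (13, 13)]),
    ([(1, 0), (8, 0)], [(1, 0), (8, 0), (15, 0), (4, 0)]),
    ([(1, 0), (8, 11)], [(1, 0), (8, 11), (15, 12), (4, 7), (9, 13)]),
    ([(1, 0), (9, 0)], [(1, 0), (9, 0), (14, 0), (5, 0)]),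
    ([(1, 0), (9, 11)], [(1, 0), (9, 11), (14, 12), (5, 7), (8, 13)]),
    ([(1, 0), (10, 0)], [(1, 0), (10, 0), (13, 0)]),
    ([(1, 0), (10, 0), (13, 0), (0, 1)], [(1, 0), (10, 0), (13, 0), (0, 1)]),
    ([(1, 0), (10, 0), (13, 0), (0, 6)], [(1, 0), (10, 0), (13, 0), (0, 6), (0, 10)]),
    ([(1, 0), (10, 0), (13, 0), (0, 7)], [(1, 0), (10, 0), (13, 0), (0, 7), (0, 11)]),
    ([(1, 0), (10, 0), (13, 0), (0, 10)], [(1, 0), (10, 0), (13, 0), (0, 10), (0, 13)]),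
    ([(1, 0), (10, 0), (13, 0), (0, 11)], [(1, 0), (10, 0), (13, 0), (0, 11), (0, 12)]),
    ([(1, 0), (10, 0), (13, 0), (0, 12)], [(1, 0), (10, 0), (13, 0), (0, 12), (0, 7)]),
    ([(1, 0), (10, 0), (13, 0), (0, 13)], [(1, 0), (10, 0), (13, 0), (0, 13), (0, 6)]),
    ([(1, 0), (10, 0), (13, 0), (1, 1)], [(1, 0), (10, 0), (13, 0), (1, 1)]),
    ([(1, 0), (10, 0), (13, 0), (1, 6)], [(1, 0), (10, 0), (13, 0), (1, 6), (1, 10)]),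
    ([(1, 0), (10, 0), (13, 0), (1, 7)], [(1, 0), (10, 0), (13, 0), (1, 7), (1, 11)]),
    ([(1, 0), (10, 0), (13, 0), (1, 10)], [(1, 0), (10, 0), (13, 0), (1, 10), (1, 13)]),
    ([(1, 0), (10, 0), (13, 0), (1, 11)], [(1, 0), (10, 0), (13, 0), (1, 11), (1, 12)]),
    ([(1, 0), (10, 0), (13, 0), (1, 12)], [(1, 0), (10, 0), (13, 0), (1, 12), (1, 7)]),
    ([(1, 0), (10, 0), (13, 0), (1, 13)], [(1, 0), (10, 0), (13, 0), (1, 13), (1, 6)]),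
    ([(1, 0), (10, 0), (13, 0), (2, 0)], [(1, 0), (10, 0), (13, 0), (2, 0)]),
    ([(1, 0), (10, 0), (13, 0), (2, 7)], [(1, 0), (10, 0), (13, 0), (2, 7), (2, 11)]),
    ([(1, 0), (10, 0), (13, 0), (2, 11)], [(1, 0), (10, 0), (13, 0), (2, 11), (2, 12)]),
    ([(1, 0), (10, 0), (13, 0), (2, 12)], [(1, 0), (10, 0), (13, 0), (2, 12), (2, 7)]),
    ([(1, 0), (10, 0), (13, 0), (3, 0)], [(1, 0), (10, 0), (13, 0), (3, 0)]),
    ([(1, 0), (10, 0), (13, 0), (3, 7)], [(1, 0), (10, 0), (13, 0), (3, 7), (3, 11)]),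
    ([(1, 0), (10, 0), (13, 0), (3, 11)], [(1, 0), (10, 0), (13, 0), (3, 11), (3, 12)]),
    ([(1, 0), (10, 0), (13, 0), (3, 12)], [(1, 0), (10, 0), (13, 0), (3, 12), (3, 7)]),
    ([(1, 0), (10, 0), (13, 0), (4, 0)], [(1, 0), (10, 0), (13, 0), (4, 0)]),
    ([(1, 0), (10, 0), (13, 0), (4, 7)], [(1, 0), (10, 0), (13, 0), (4, 7), (8, 11)]),
    ([(1, 0), (10, 0), (13, 0), (5, 0)], [(1, 0), (10, 0), (13, 0), (5, 0)]),
    ([(1, 0), (10, 0), (13, 0), (5, 7)], [(1, 0), (10, 0), (13, 0), (5, 7), (9, 11)]),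
    ([(1, 0), (10, 0), (13, 0), (6, 1)], [(1, 0), (10, 0), (13, 0), (6, 1)]),
    ([(1, 0), (10, 0), (13, 0), (6, 6)], [(1, 0), (10, 0), (13, 0), (6, 6), (10, 10)]),
    ([(1, 0), (10, 0), (13, 0), (6, 7)], [(1, 0), (10, 0), (13, 0), (6, 7), (10, 11)]),
    ([(1, 0), (10, 0), (13, 0), (7, 1)], [(1, 0), (10, 0), (13, 0), (7, 1)]),
    ([(1, 0), (10, 0), (13, 0), (7, 6)], [(1, 0), (10, 0), (13, 0), (7, 6), (11, 10)]),
    ([(1, 0), (10, 0), (13, 0), (7, 7)], [(1, 0), (10, 0), (13, 0), (7, 7), (11, 11)]),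
    ([(1, 0), (10, 0), (13, 0), (8, 0)], [(1, 0), (10, 0), (13, 0), (8, 0)]),
    ([(1, 0), (10, 0), (13, 0), (8, 11)], [(1, 0), (10, 0), (13, 0), (8, 11), (15, 12)]),
    ([(1, 0), (10, 0), (13, 0), (9, 0)], [(1, 0), (10, 0), (13, 0), (9, 0)]),
    ([(1, 0), (10, 0), (13, 0), (9, 11)], [(1, 0), (10, 0), (13, 0), (9, 11), (14, 12)]),
    ([(1, 0), (10, 0), (13, 0), (10, 1)], [(1, 0), (10, 0), (13, 0), (10, 1)]),
    ([(1, 0), (10, 0), (13, 0), (10, 10)], [(1, 0), (10, 0), (13, 0), (10, 10), (13, 13)]),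
    ([(1, 0), (10, 0), (13, 0), (10, 11)], [(1, 0), (10, 0), (13, 0), (10, 11), (13, 12)]),
    ([(1, 0), (10, 0), (13, 0), (11, 1)], [(1, 0), (10, 0), (13, 0), (11, 1)]),
    ([(1, 0), (10, 0), (13, 0), (11, 10)], [(1, 0), (10, 0), (13, 0), (11, 10), (12, 13)]),
    ([(1, 0), (10, 0), (13, 0), (11, 11)], [(1, 0), (10, 0), (13, 0), (11, 11), (12, 12)]),
    ([(1, 0), (10, 0), (13, 0), (12, 1)], [(1, 0), (10, 0), (13, 0), (12, 1)]),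
    ([(1, 0), (10, 0), (13, 0), (12, 12)], [(1, 0), (10, 0), (13, 0), (12, 12), (7, 7)]),
    ([(1, 0), (10, 0), (13, 0), (12, 13)], [(1, 0), (10, 0), (13, 0), (12, 13), (7, 6)]),
    ([(1, 0), (10, 0), (13, 0), (13, 1)], [(1, 0), (10, 0), (13, 0), (13, 1)]),
    ([(1, 0), (10, 0), (13, 0), (13, 12)], [(1, 0), (10, 0), (13, 0), (13, 12), (6, 7)]),
    ([(1, 0), (10, 0), (13, 0), (13, 13)], [(1, 0), (10, 0), (13, 0), (13, 13), (6, 6)]),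
    ([(1, 0), (10, 0), (13, 0), (14, 0)], [(1, 0), (10, 0), (13, 0), (14, 0)]),
    ([(1, 0), (10, 0), (13, 0), (14, 12)], [(1, 0), (10, 0), (13, 0), (14, 12), (5, 7)]),
    ([(1, 0), (10, 0), (13, 0), (15, 0)], [(1, 0), (10, 0), (13, 0), (15, 0)]),
    ([(1, 0), (10, 0), (13, 0), (15, 12)], [(1, 0), (10, 0), (13, 0), (15, 12), (4, 7)]),
    ([(1, 0), (10, 1)], [(1, 0), (10, 1), (13, 1), (6, 1)]),
    ([(1, 0), (10, 10)], [(1, 0), (10, 10), (13, 13), (6, 6)]),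
    ([(1, 0), (10, 11)], [(1, 0), (10, 11), (13, 12), (12, 13)]),
    ([(1, 0), (11, 0)], [(1, 0), (11, 0), (12, 0)]),
    ([(1, 0), (11, 0), (12, 0), (0, 1)], [(1, 0), (11, 0), (12, 0), (0, 1)]),
    ([(1, 0), (11, 0), (12, 0), (0, 6)], [(1, 0), (11, 0), (12, 0), (0, 6), (0, 10)]),
    ([(1, 0), (11, 0), (12, 0), (0, 7)], [(1, 0), (11, 0), (12, 0), (0, 7), (0, 11)]),
    ([(1, 0), (11, 0), (12, 0), (0, 10)], [(1, 0), (11, 0), (12, 0), (0, 10), (0, 13)]),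
    ([(1, 0), (11, 0), (12, 0), (0, 11)], [(1, 0), (11, 0), (12, 0), (0, 11), (0, 12)]),
    ([(1, 0), (11, 0), (12, 0), (0, 12)], [(1, 0), (11, 0), (12, 0), (0, 12), (0, 7)]),
    ([(1, 0), (11, 0), (12, 0), (0, 13)], [(1, 0), (11, 0), (12, 0), (0, 13), (0, 6)]),
    ([(1, 0), (11, 0), (12, 0), (1, 1)], [(1, 0), (11, 0), (12, 0), (1, 1)]),
    ([(1, 0), (11, 0), (12, 0), (1, 6)], [(1, 0), (11, 0), (12, 0), (1, 6), (1, 10)]),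
    ([(1, 0), (11, 0), (12, 0), (1, 7)], [(1, 0), (11, 0), (12, 0), (1, 7), (1, 11)]),
    ([(1, 0), (11, 0), (12, 0), (1, 10)], [(1, 0), (11, 0), (12, 0), (1, 10), (1, 13)]),
    ([(1, 0), (11, 0), (12, 0), (1, 11)], [(1, 0), (11, 0), (12, 0), (1, 11), (1, 12)]),
    ([(1, 0), (11, 0), (12, 0), (1, 12)], [(1, 0), (11, 0), (12, 0), (1, 12), (1, 7)]),
    ([(1, 0), (11, 0), (12, 0), (1, 13)], [(1, 0), (11, 0), (12, 0), (1, 13), (1, 6)]),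
    ([(1, 0), (11, 0), (12, 0), (2, 0)], [(1, 0), (11, 0), (12, 0), (2, 0)]),
    ([(1, 0), (11, 0), (12, 0), (2, 7)], [(1, 0), (11, 0), (12, 0), (2, 7), (2, 11)]),
    ([(1, 0), (11, 0), (12, 0), (2, 11)], [(1, 0), (11, 0), (12, 0), (2, 11), (2, 12)]),
    ([(1, 0), (11, 0), (12, 0), (2, 12)], [(1, 0), (11, 0), (12, 0), (2, 12), (2, 7)]),
    ([(1, 0), (11, 0), (12, 0), (3, 0)], [(1, 0), (11, 0), (12, 0), (3, 0)]),
    ([(1, 0), (11, 0), (12, 0), (3, 7)], [(1, 0), (11, 0), (12, 0), (3, 7), (3, 11)]),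
    ([(1, 0), (11, 0), (12, 0), (3, 11)], [(1, 0), (11, 0), (12, 0), (3, 11), (3, 12)]),
    ([(1, 0), (11, 0), (12, 0), (3, 12)], [(1, 0), (11, 0), (12, 0), (3, 12), (3, 7)]),
    ([(1, 0), (11, 0), (12, 0), (4, 0)], [(1, 0), (11, 0), (12, 0), (4, 0)]),
    ([(1, 0), (11, 0), (12, 0), (4, 7)], [(1, 0), (11, 0), (12, 0), (4, 7), (8, 11)]),
    ([(1, 0), (11, 0), (12, 0), (5, 0)], [(1, 0), (11, 0), (12, 0), (5, 0)]),
    ([(1, 0), (11, 0), (12, 0), (5, 7)], [(1, 0), (11, 0), (12, 0), (5, 7), (9, 11)]),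
    ([(1, 0), (11, 0), (12, 0), (6, 1)], [(1, 0), (11, 0), (12, 0), (6, 1)]),
    ([(1, 0), (11, 0), (12, 0), (6, 6)], [(1, 0), (11, 0), (12, 0), (6, 6), (10, 10)]),
    ([(1, 0), (11, 0), (12, 0), (6, 7)], [(1, 0), (11, 0), (12, 0), (6, 7), (10, 11)]),
    ([(1, 0), (11, 0), (12, 0), (7, 1)], [(1, 0), (11, 0), (12, 0), (7, 1)]),
    ([(1, 0), (11, 0), (12, 0), (7, 6)], [(1, 0), (11, 0), (12, 0), (7, 6), (11, 10)]),
    ([(1, 0), (11, 0), (12, 0), (7, 7)], [(1, 0), (11, 0), (12, 0), (7, 7), (11, 11)]),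
    ([(1, 0), (11, 0), (12, 0), (8, 0)], [(1, 0), (11, 0), (12, 0), (8, 0)]),
    ([(1, 0), (11, 0), (12, 0), (8, 11)], [(1, 0), (11, 0), (12, 0), (8, 11), (15, 12)]),
    ([(1, 0), (11, 0), (12, 0), (9, 0)], [(1, 0), (11, 0), (12, 0), (9, 0)]),
    ([(1, 0), (11, 0), (12, 0), (9, 11)], [(1, 0), (11, 0), (12, 0), (9, 11), (14, 12)]),
    ([(1, 0), (11, 0), (12, 0), (10, 1)], [(1, 0), (11, 0), (12, 0), (10, 1)]),
    ([(1, 0), (11, 0), (12, 0), (10, 10)], [(1, 0), (11, 0), (12, 0), (10, 10), (13, 13)]),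
    ([(1, 0), (11, 0), (12, 0), (10, 11)], [(1, 0), (11, 0), (12, 0), (10, 11), (13, 12)]),
    ([(1, 0), (11, 0), (12, 0), (11, 1)], [(1, 0), (11, 0), (12, 0), (11, 1)]),
    ([(1, 0), (11, 0), (12, 0), (11, 10)], [(1, 0), (11, 0), (12, 0), (11, 10), (12, 13)]),
    ([(1, 0), (11, 0), (12, 0), (11, 11)], [(1, 0), (11, 0), (12, 0), (11, 11), (12, 12)]),
    ([(1, 0), (11, 0), (12, 0), (12, 1)], [(1, 0), (11, 0), (12, 0), (12, 1)]),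
    ([(1, 0), (11, 0), (12, 0), (12, 12)], [(1, 0), (11, 0), (12, 0), (12, 12), (7, 7)]),
    ([(1, 0), (11, 0), (12, 0), (12, 13)], [(1, 0), (11, 0), (12, 0), (12, 13), (7, 6)]),
    ([(1, 0), (11, 0), (12, 0), (13, 1)], [(1, 0), (11, 0), (12, 0), (13, 1)]),
    ([(1, 0), (11, 0), (12, 0), (13, 12)], [(1, 0), (11, 0), (12, 0), (13, 12), (6, 7)]),
    ([(1, 0), (11, 0), (12, 0), (13, 13)], [(1, 0), (11, 0), (12, 0), (13, 13), (6, 6)]),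
    ([(1, 0), (11, 0), (12, 0), (14, 0)], [(1, 0), (11, 0), (12, 0), (14, 0)]),
    ([(1, 0), (11, 0), (12, 0), (14, 12)], [(1, 0), (11, 0), (12, 0), (14, 12), (5, 7)]),
    ([(1, 0), (11, 0), (12, 0), (15, 0)], [(1, 0), (11, 0), (12, 0), (15, 0)]),
    ([(1, 0), (11, 0), (12, 0), (15, 12)], [(1, 0), (11, 0), (12, 0), (15, 12), (4, 7)]),
    ([(1, 0), (11, 1)], [(1, 0), (11, 1), (12, 1), (7, 1)]),
    ([(1, 0), (11, 10)], [(1, 0), (11, 10), (12, 13), (7, 6)]),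
    ([(1, 0), (11, 11)], [(1, 0), (11, 11), (12, 12), (13, 13)]),
    ([(1, 0), (12, 0)], [(1, 0), (12, 0), (7, 0)]),
    ([(1, 0), (12, 0), (7, 0), (0, 1)], [(1, 0), (12, 0), (7, 0), (0, 1)]),
    ([(1, 0), (12, 0), (7, 0), (0, 6)], [(1, 0), (12, 0), (7, 0), (0, 6), (0, 10)]),
    ([(1, 0), (12, 0), (7, 0), (0, 7)], [(1, 0), (12, 0), (7, 0), (0, 7), (0, 11)]),
    ([(1, 0), (12, 0), (7, 0), (0, 10)], [(1, 0), (12, 0), (7, 0), (0, 10), (0, 13)]),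
    ([(1, 0), (12, 0), (7, 0), (0, 11)], [(1, 0), (12, 0), (7, 0), (0, 11), (0, 12)]),
    ([(1, 0), (12, 0), (7, 0), (0, 12)], [(1, 0), (12, 0), (7, 0), (0, 12), (0, 7)]),
    ([(1, 0), (12, 0), (7, 0), (0, 13)], [(1, 0), (12, 0), (7, 0), (0, 13), (0, 6)]),
    ([(1, 0), (12, 0), (7, 0), (1, 1)], [(1, 0), (12, 0), (7, 0), (1, 1)]),
    ([(1, 0), (12, 0), (7, 0), (1, 6)], [(1, 0), (12, 0), (7, 0), (1, 6), (1, 10)]),
    ([(1, 0), (12, 0), (7, 0), (1, 7)], [(1, 0), (12, 0), (7, 0), (1, 7), (1, 11)]),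
    ([(1, 0), (12, 0), (7, 0), (1, 10)], [(1, 0), (12, 0), (7, 0), (1, 10), (1, 13)]),
    ([(1, 0), (12, 0), (7, 0), (1, 11)], [(1, 0), (12, 0), (7, 0), (1, 11), (1, 12)]),
    ([(1, 0), (12, 0), (7, 0), (1, 12)], [(1, 0), (12, 0), (7, 0), (1, 12), (1, 7)]),
    ([(1, 0), (12, 0), (7, 0), (1, 13)], [(1, 0), (12, 0), (7, 0), (1, 13), (1, 6)]),
    ([(1, 0), (12, 0), (7, 0), (2, 0)], [(1, 0), (12, 0), (7, 0), (2, 0)]),
    ([(1, 0), (12, 0), (7, 0), (2, 7)], [(1, 0), (12, 0), (7, 0), (2, 7), (2, 11)]),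
    ([(1, 0), (12, 0), (7, 0), (2, 11)], [(1, 0), (12, 0), (7, 0), (2, 11), (2, 12)]),
    ([(1, 0), (12, 0), (7, 0), (2, 12)], [(1, 0), (12, 0), (7, 0), (2, 12), (2, 7)]),
    ([(1, 0), (12, 0), (7, 0), (3, 0)], [(1, 0), (12, 0), (7, 0), (3, 0)]),
    ([(1, 0), (12, 0), (7, 0), (3, 7)], [(1, 0), (12, 0), (7, 0), (3, 7), (3, 11)]),
    ([(1, 0), (12, 0), (7, 0), (3, 11)], [(1, 0), (12, 0), (7, 0), (3, 11), (3, 12)]),
    ([(1, 0), (12, 0), (7, 0), (3, 12)], [(1, 0), (12, 0), (7, 0), (3, 12), (3, 7)]),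
    ([(1, 0), (12, 0), (7, 0), (4, 0)], [(1, 0), (12, 0), (7, 0), (4, 0)]),
    ([(1, 0), (12, 0), (7, 0), (4, 7)], [(1, 0), (12, 0), (7, 0), (4, 7), (8, 11)]),
    ([(1, 0), (12, 0), (7, 0), (5, 0)], [(1, 0), (12, 0), (7, 0), (5, 0)]),
    ([(1, 0), (12, 0), (7, 0), (5, 7)], [(1, 0), (12, 0), (7, 0), (5, 7), (9, 11)]),
    ([(1, 0), (12, 0), (7, 0), (6, 1)], [(1, 0), (12, 0), (7, 0), (6, 1)]),
    ([(1, 0), (12, 0), (7, 0), (6, 6)], [(1, 0), (12, 0), (7, 0), (6, 6), (10, 10)]),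
    ([(1, 0), (12, 0), (7, 0), (6, 7)], [(1, 0), (12, 0), (7, 0), (6, 7), (10, 11)]),
    ([(1, 0), (12, 0), (7, 0), (7, 1)], [(1, 0), (12, 0), (7, 0), (7, 1)]),
    ([(1, 0), (12, 0), (7, 0), (7, 6)], [(1, 0), (12, 0), (7, 0), (7, 6), (11, 10)]),
    ([(1, 0), (12, 0), (7, 0), (7, 7)], [(1, 0), (12, 0), (7, 0), (7, 7), (11, 11)]),
    ([(1, 0), (12, 0), (7, 0), (8, 0)], [(1, 0), (12, 0), (7, 0), (8, 0)]),
    ([(1, 0), (12, 0), (7, 0), (8, 11)], [(1, 0), (12, 0), (7, 0), (8, 11), (15, 12)]),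
    ([(1, 0), (12, 0), (7, 0), (9, 0)], [(1, 0), (12, 0), (7, 0), (9, 0)]),
    ([(1, 0), (12, 0), (7, 0), (9, 11)], [(1, 0), (12, 0), (7, 0), (9, 11), (14, 12)]),
    ([(1, 0), (12, 0), (7, 0), (10, 1)], [(1, 0), (12, 0), (7, 0), (10, 1)]),
    ([(1, 0), (12, 0), (7, 0), (10, 10)], [(1, 0), (12, 0), (7, 0), (10, 10), (13, 13)]),
    ([(1, 0), (12, 0), (7, 0), (10, 11)], [(1, 0), (12, 0), (7, 0), (10, 11), (13, 12)]),
    ([(1, 0), (12, 0), (7, 0), (11, 1)], [(1, 0), (12, 0), (7, 0), (11, 1)]),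
    ([(1, 0), (12, 0), (7, 0), (11, 10)], [(1, 0), (12, 0), (7, 0), (11, 10), (12, 13)]),
    ([(1, 0), (12, 0), (7, 0), (11, 11)], [(1, 0), (12, 0), (7, 0), (11, 11), (12, 12)]),
    ([(1, 0), (12, 0), (7, 0), (12, 1)], [(1, 0), (12, 0), (7, 0), (12, 1)]),
    ([(1, 0), (12, 0), (7, 0), (12, 12)], [(1, 0), (12, 0), (7, 0), (12, 12), (7, 7)]),
    ([(1, 0), (12, 0), (7, 0), (12, 13)], [(1, 0), (12, 0), (7, 0), (12, 13), (7, 6)]),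
    ([(1, 0), (12, 0), (7, 0), (13, 1)], [(1, 0), (12, 0), (7, 0), (13, 1)]),
    ([(1, 0), (12, 0), (7, 0), (13, 12)], [(1, 0), (12, 0), (7, 0), (13, 12), (6, 7)]),
    ([(1, 0), (12, 0), (7, 0), (13, 13)], [(1, 0), (12, 0), (7, 0), (13, 13), (6, 6)]),
    ([(1, 0), (12, 0), (7, 0), (14, 0)], [(1, 0), (12, 0), (7, 0), (14, 0)]),
    ([(1, 0), (12, 0), (7, 0), (14, 12)], [(1, 0), (12, 0), (7, 0), (14, 12), (5, 7)]),
    ([(1, 0), (12, 0), (7, 0), (15, 0)], [(1, 0), (12, 0), (7, 0), (15, 0)]),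
    ([(1, 0), (12, 0), (7, 0), (15, 12)], [(1, 0), (12, 0), (7, 0), (15, 12), (4, 7)]),
    ([(1, 0), (12, 1)], [(1, 0), (12, 1), (7, 1), (11, 1)]),
    ([(1, 0), (12, 12)], [(1, 0), (12, 12), (7, 7), (10, 10)]),
    ([(1, 0), (12, 13)], [(1, 0), (12, 13), (7, 6), (11, 10)]),
    ([(1, 0), (13, 0)], [(1, 0), (13, 0), (6, 0)]),
    ([(1, 0), (13, 0), (6, 0), (0, 1)], [(1, 0), (13, 0), (6, 0), (0, 1)]),
    ([(1, 0), (13, 0), (6, 0), (0, 6)], [(1, 0), (13, 0), (6, 0), (0, 6), (0, 10)]),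
    ([(1, 0), (13, 0), (6, 0), (0, 7)], [(1, 0), (13, 0), (6, 0), (0, 7), (0, 11)]),
    ([(1, 0), (13, 0), (6, 0), (0, 10)], [(1, 0), (13, 0), (6, 0), (0, 10), (0, 13)]),
    ([(1, 0), (13, 0), (6, 0), (0, 11)], [(1, 0), (13, 0), (6, 0), (0, 11), (0, 12)]),
    ([(1, 0), (13, 0), (6, 0), (0, 12)], [(1, 0), (13, 0), (6, 0), (0, 12), (0, 7)]),
    ([(1, 0), (13, 0), (6, 0), (0, 13)], [(1, 0), (13, 0), (6, 0), (0, 13), (0, 6)]),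
    ([(1, 0), (13, 0), (6, 0), (1, 1)], [(1, 0), (13, 0), (6, 0), (1, 1)]),
    ([(1, 0), (13, 0), (6, 0), (1, 6)], [(1, 0), (13, 0), (6, 0), (1, 6), (1, 10)]),
    ([(1, 0), (13, 0), (6, 0), (1, 7)], [(1, 0), (13, 0), (6, 0), (1, 7), (1, 11)]),
    ([(1, 0), (13, 0), (6, 0), (1, 10)], [(1, 0), (13, 0), (6, 0), (1, 10), (1, 13)]),
    ([(1, 0), (13, 0), (6, 0), (1, 11)], [(1, 0), (13, 0), (6, 0), (1, 11), (1, 12)]),
    ([(1, 0), (13, 0), (6, 0), (1, 12)], [(1, 0), (13, 0), (6, 0), (1, 12), (1, 7)]),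
    ([(1, 0), (13, 0), (6, 0), (1, 13)], [(1, 0), (13, 0), (6, 0), (1, 13), (1, 6)]),
    ([(1, 0), (13, 0), (6, 0), (2, 0)], [(1, 0), (13, 0), (6, 0), (2, 0)]),
    ([(1, 0), (13, 0), (6, 0), (2, 7)], [(1, 0), (13, 0), (6, 0), (2, 7), (2, 11)]),
    ([(1, 0), (13, 0), (6, 0), (2, 11)], [(1, 0), (13, 0), (6, 0), (2, 11), (2, 12)]),
    ([(1, 0), (13, 0), (6, 0), (2, 12)], [(1, 0), (13, 0), (6, 0), (2, 12), (2, 7)]),
    ([(1, 0), (13, 0), (6, 0), (3, 0)], [(1, 0), (13, 0), (6, 0), (3, 0)]),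
    ([(1, 0), (13, 0), (6, 0), (3, 7)], [(1, 0), (13, 0), (6, 0), (3, 7), (3, 11)]),
    ([(1, 0), (13, 0), (6, 0), (3, 11)], [(1, 0), (13, 0), (6, 0), (3, 11), (3, 12)]),
    ([(1, 0), (13, 0), (6, 0), (3, 12)], [(1, 0), (13, 0), (6, 0), (3, 12), (3, 7)]),
    ([(1, 0), (13, 0), (6, 0), (4, 0)], [(1, 0), (13, 0), (6, 0), (4, 0)]),
    ([(1, 0), (13, 0), (6, 0), (4, 7)], [(1, 0), (13, 0), (6, 0), (4, 7), (8, 11)]),
    ([(1, 0), (13, 0), (6, 0), (5, 0)], [(1, 0), (13, 0), (6, 0), (5, 0)]),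
    ([(1, 0), (13, 0), (6, 0), (5, 7)], [(1, 0), (13, 0), (6, 0), (5, 7), (9, 11)]),
    ([(1, 0), (13, 0), (6, 0), (6, 1)], [(1, 0), (13, 0), (6, 0), (6, 1)]),
    ([(1, 0), (13, 0), (6, 0), (6, 6)], [(1, 0), (13, 0), (6, 0), (6, 6), (10, 10)]),
    ([(1, 0), (13, 0), (6, 0), (6, 7)], [(1, 0), (13, 0), (6, 0), (6, 7), (10, 11)]),
    ([(1, 0), (13, 0), (6, 0), (7, 1)], [(1, 0), (13, 0), (6, 0), (7, 1)]),
    ([(1, 0), (13, 0), (6, 0), (7, 6)], [(1, 0), (13, 0), (6, 0), (7, 6), (11, 10)]),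
    ([(1, 0), (13, 0), (6, 0), (7, 7)], [(1, 0), (13, 0), (6, 0), (7, 7), (11, 11)]),
    ([(1, 0), (13, 0), (6, 0), (8, 0)], [(1, 0), (13, 0), (6, 0), (8, 0)]),
    ([(1, 0), (13, 0), (6, 0), (8, 11)], [(1, 0), (13, 0), (6, 0), (8, 11), (15, 12)]),
    ([(1, 0), (13, 0), (6, 0), (9, 0)], [(1, 0), (13, 0), (6, 0), (9, 0)]),
    ([(1, 0), (13, 0), (6, 0), (9, 11)], [(1, 0), (13, 0), (6, 0), (9, 11), (14, 12)]),
    ([(1, 0), (13, 0), (6, 0), (10, 1)], [(1, 0), (13, 0), (6, 0), (10, 1)]),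
    ([(1, 0), (13, 0), (6, 0), (10, 10)], [(1, 0), (13, 0), (6, 0), (10, 10), (13, 13)]),
    ([(1, 0), (13, 0), (6, 0), (10, 11)], [(1, 0), (13, 0), (6, 0), (10, 11), (13, 12)]),
    ([(1, 0), (13, 0), (6, 0), (11, 1)], [(1, 0), (13, 0), (6, 0), (11, 1)]),
    ([(1, 0), (13, 0), (6, 0), (11, 10)], [(1, 0), (13, 0), (6, 0), (11, 10), (12, 13)]),
    ([(1, 0), (13, 0), (6, 0), (11, 11)], [(1, 0), (13, 0), (6, 0), (11, 11), (12, 12)]),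
    ([(1, 0), (13, 0), (6, 0), (12, 1)], [(1, 0), (13, 0), (6, 0), (12, 1)]),
    ([(1, 0), (13, 0), (6, 0), (12, 12)], [(1, 0), (13, 0), (6, 0), (12, 12), (7, 7)]),
    ([(1, 0), (13, 0), (6, 0), (12, 13)], [(1, 0), (13, 0), (6, 0), (12, 13), (7, 6)]),
    ([(1, 0), (13, 0), (6, 0), (13, 1)], [(1, 0), (13, 0), (6, 0), (13, 1)]),
    ([(1, 0), (13, 0), (6, 0), (13, 12)], [(1, 0), (13, 0), (6, 0), (13, 12), (6, 7)]),
    ([(1, 0), (13, 0), (6, 0), (13, 13)], [(1, 0), (13, 0), (6, 0), (13, 13), (6, 6)]),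
    ([(1, 0), (13, 0), (6, 0), (14, 0)], [(1, 0), (13, 0), (6, 0), (14, 0)]),
    ([(1, 0), (13, 0), (6, 0), (14, 12)], [(1, 0), (13, 0), (6, 0), (14, 12), (5, 7)]),
    ([(1, 0), (13, 0), (6, 0), (15, 0)], [(1, 0), (13, 0), (6, 0), (15, 0)]),
    ([(1, 0), (13, 0), (6, 0), (15, 12)], [(1, 0), (13, 0), (6, 0), (15, 12), (4, 7)]),
    ([(1, 0), (13, 1)], [(1, 0), (13, 1), (6, 1), (10, 1)]),
    ([(1, 0), (13, 12)], [(1, 0), (13, 12), (6, 7), (11, 10)]),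
    ([(1, 0), (13, 13)], [(1, 0), (13, 13), (6, 6), (10, 10)]),
    ([(1, 0), (14, 0)], [(1, 0), (14, 0), (5, 0), (9, 0)]),
    ([(1, 0), (14, 12)], [(1, 0), (14, 12), (5, 7), (9, 11), (15, 10)]),
    ([(1, 0), (15, 0)], [(1, 0), (15, 0), (4, 0), (8, 0)]),
    ([(1, 0), (15, 12)], [(1, 0), (15, 12), (4, 7), (8, 11), (14, 10)])]

/-- the closure table at the second representative -/
def tabTwo : List (List V × List V) :=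
  [([(6, 1)], [(6, 1)]),
    ([(6, 1), (0, 1)], [(6, 1), (0, 1), (6, 6), (7, 0)]),
    ([(6, 1), (0, 6)], [(6, 1), (0, 6), (7, 7)]),
    ([(6, 1), (0, 6), (7, 7), (0, 1)], [(6, 1), (0, 6), (7, 7), (0, 1)]),
    ([(6, 1), (0, 6), (7, 7), (0, 7)], [(6, 1), (0, 6), (7, 7), (0, 7)]),
    ([(6, 1), (0, 6), (7, 7), (0, 8)], [(6, 1), (0, 6), (7, 7), (0, 8), (0, 15)]),
    ([(6, 1), (0, 6), (7, 7), (0, 14)], [(6, 1), (0, 6), (7, 7), (0, 14), (0, 9)]),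
    ([(6, 1), (0, 6), (7, 7), (1, 1)], [(6, 1), (0, 6), (7, 7), (1, 1)]),
    ([(6, 1), (0, 6), (7, 7), (1, 7)], [(6, 1), (0, 6), (7, 7), (1, 7)]),
    ([(6, 1), (0, 6), (7, 7), (2, 2)], [(6, 1), (0, 6), (7, 7), (2, 2), (4, 4)]),
    ([(6, 1), (0, 6), (7, 7), (2, 11)], [(6, 1), (0, 6), (7, 7), (2, 11), (15, 3)]),
    ([(6, 1), (0, 6), (7, 7), (2, 12)], [(6, 1), (0, 6), (7, 7), (2, 12), (14, 2)]),
    ([(6, 1), (0, 6), (7, 7), (3, 4)], [(6, 1), (0, 6), (7, 7), (3, 4), (5, 2)]),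
    ([(6, 1), (0, 6), (7, 7), (3, 11)], [(6, 1), (0, 6), (7, 7), (3, 11), (15, 5)]),
    ([(6, 1), (0, 6), (7, 7), (3, 12)], [(6, 1), (0, 6), (7, 7), (3, 12), (14, 4)]),
    ([(6, 1), (0, 6), (7, 7), (4, 3)], [(6, 1), (0, 6), (7, 7), (4, 3), (2, 5)]),
    ([(6, 1), (0, 6), (7, 7), (4, 10)], [(6, 1), (0, 6), (7, 7), (4, 10), (9, 2)]),
    ([(6, 1), (0, 6), (7, 7), (4, 13)], [(6, 1), (0, 6), (7, 7), (4, 13), (8, 3)]),
    ([(6, 1), (0, 6), (7, 7), (5, 5)], [(6, 1), (0, 6), (7, 7), (5, 5), (3, 3)]),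
    ([(6, 1), (0, 6), (7, 7), (5, 10)], [(6, 1), (0, 6), (7, 7), (5, 10), (9, 4)]),
    ([(6, 1), (0, 6), (7, 7), (5, 13)], [(6, 1), (0, 6), (7, 7), (5, 13), (8, 5)]),
    ([(6, 1), (0, 6), (7, 7), (6, 0)], [(6, 1), (0, 6), (7, 7), (6, 0)]),
    ([(6, 1), (0, 6), (7, 7), (6, 6)], [(6, 1), (0, 6), (7, 7), (6, 6)]),
    ([(6, 1), (0, 6), (7, 7), (6, 9)], [(6, 1), (0, 6), (7, 7), (6, 9), (6, 14)]),
    ([(6, 1), (0, 6), (7, 7), (6, 15)], [(6, 1), (0, 6), (7, 7), (6, 15), (6, 8)]),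
    ([(6, 1), (0, 6), (7, 7), (7, 0)], [(6, 1), (0, 6), (7, 7), (7, 0)]),
    ([(6, 1), (0, 6), (7, 7), (7, 6)], [(6, 1), (0, 6), (7, 7), (7, 6)]),
    ([(6, 1), (0, 6), (7, 7), (8, 3)], [(6, 1), (0, 6), (7, 7), (8, 3), (15, 5)]),
    ([(6, 1), (0, 6), (7, 7), (8, 5)], [(6, 1), (0, 6), (7, 7), (8, 5), (15, 3)]),
    ([(6, 1), (0, 6), (7, 7), (8, 11)], [(6, 1), (0, 6), (7, 7), (8, 11)]),
    ([(6, 1), (0, 6), (7, 7), (8, 13)], [(6, 1), (0, 6), (7, 7), (8, 13)]),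
    ([(6, 1), (0, 6), (7, 7), (9, 2)], [(6, 1), (0, 6), (7, 7), (9, 2), (14, 4)]),
    ([(6, 1), (0, 6), (7, 7), (9, 4)], [(6, 1), (0, 6), (7, 7), (9, 4), (14, 2)]),
    ([(6, 1), (0, 6), (7, 7), (9, 11)], [(6, 1), (0, 6), (7, 7), (9, 11)]),
    ([(6, 1), (0, 6), (7, 7), (9, 13)], [(6, 1), (0, 6), (7, 7), (9, 13)]),
    ([(6, 1), (0, 6), (7, 7), (10, 1)], [(6, 1), (0, 6), (7, 7), (10, 1), (6, 15)]),
    ([(6, 1), (0, 6), (7, 7), (10, 14)], [(6, 1), (0, 6), (7, 7), (10, 14), (11, 9)]),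
    ([(6, 1), (0, 6), (7, 7), (10, 15)], [(6, 1), (0, 6), (7, 7), (10, 15), (11, 8)]),
    ([(6, 1), (0, 6), (7, 7), (11, 1)], [(6, 1), (0, 6), (7, 7), (11, 1), (6, 9)]),
    ([(6, 1), (0, 6), (7, 7), (11, 8)], [(6, 1), (0, 6), (7, 7), (11, 8), (10, 15)]),
    ([(6, 1), (0, 6), (7, 7), (11, 9)], [(6, 1), (0, 6), (7, 7), (11, 9), (10, 14)]),
    ([(6, 1), (0, 6), (7, 7), (12, 0)], [(6, 1), (0, 6), (7, 7), (12, 0), (0, 14)]),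
    ([(6, 1), (0, 6), (7, 7), (12, 14)], [(6, 1), (0, 6), (7, 7), (12, 14), (13, 9)]),
    ([(6, 1), (0, 6), (7, 7), (12, 15)], [(6, 1), (0, 6), (7, 7), (12, 15), (13, 8)]),
    ([(6, 1), (0, 6), (7, 7), (13, 0)], [(6, 1), (0, 6), (7, 7), (13, 0), (0, 8)]),
    ([(6, 1), (0, 6), (7, 7), (13, 8)], [(6, 1), (0, 6), (7, 7), (13, 8), (12, 15)]),
    ([(6, 1), (0, 6), (7, 7), (13, 9)], [(6, 1), (0, 6), (7, 7), (13, 9), (12, 14)]),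
    ([(6, 1), (0, 6), (7, 7), (14, 2)], [(6, 1), (0, 6), (7, 7), (14, 2), (9, 4)]),
    ([(6, 1), (0, 6), (7, 7), (14, 4)], [(6, 1), (0, 6), (7, 7), (14, 4), (9, 2)]),
    ([(6, 1), (0, 6), (7, 7), (14, 10)], [(6, 1), (0, 6), (7, 7), (14, 10)]),
    ([(6, 1), (0, 6), (7, 7), (14, 12)], [(6, 1), (0, 6), (7, 7), (14, 12)]),
    ([(6, 1), (0, 6), (7, 7), (15, 3)], [(6, 1), (0, 6), (7, 7), (15, 3), (8, 5)]),
    ([(6, 1), (0, 6), (7, 7), (15, 5)], [(6, 1), (0, 6), (7, 7), (15, 5), (8, 3)]),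
    ([(6, 1), (0, 6), (7, 7), (15, 10)], [(6, 1), (0, 6), (7, 7), (15, 10)]),
    ([(6, 1), (0, 6), (7, 7), (15, 12)], [(6, 1), (0, 6), (7, 7), (15, 12)]),
    ([(6, 1), (0, 7)], [(6, 1), (0, 7), (1, 1), (6, 0)]),
    ([(6, 1), (0, 8)], [(6, 1), (0, 8), (0, 15), (5, 5), (4, 4)]),
    ([(6, 1), (0, 14)], [(6, 1), (0, 14), (0, 9), (2, 2), (3, 3)]),
    ([(6, 1), (1, 0)], [(6, 1), (1, 0), (0, 6)]),
    ([(6, 1), (1, 0), (0, 6), (0, 1)], [(6, 1), (1, 0), (0, 6), (0, 1)]),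
    ([(6, 1), (1, 0), (0, 6), (0, 7)], [(6, 1), (1, 0), (0, 6), (0, 7)]),
    ([(6, 1), (1, 0), (0, 6), (0, 8)], [(6, 1), (1, 0), (0, 6), (0, 8), (0, 15)]),
    ([(6, 1), (1, 0), (0, 6), (0, 14)], [(6, 1), (1, 0), (0, 6), (0, 14), (0, 9)]),
    ([(6, 1), (1, 0), (0, 6), (1, 1)], [(6, 1), (1, 0), (0, 6), (1, 1)]),
    ([(6, 1), (1, 0), (0, 6), (1, 7)], [(6, 1), (1, 0), (0, 6), (1, 7)]),
    ([(6, 1), (1, 0), (0, 6), (2, 2)], [(6, 1), (1, 0), (0, 6), (2, 2), (4, 4)]),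
    ([(6, 1), (1, 0), (0, 6), (2, 11)], [(6, 1), (1, 0), (0, 6), (2, 11), (15, 3)]),
    ([(6, 1), (1, 0), (0, 6), (2, 12)], [(6, 1), (1, 0), (0, 6), (2, 12), (14, 2)]),
    ([(6, 1), (1, 0), (0, 6), (3, 4)], [(6, 1), (1, 0), (0, 6), (3, 4), (5, 2)]),
    ([(6, 1), (1, 0), (0, 6), (3, 11)], [(6, 1), (1, 0), (0, 6), (3, 11), (15, 5)]),
    ([(6, 1), (1, 0), (0, 6), (3, 12)], [(6, 1), (1, 0), (0, 6), (3, 12), (14, 4)]),
    ([(6, 1), (1, 0), (0, 6), (4, 3)], [(6, 1), (1, 0), (0, 6), (4, 3), (2, 5)]),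
    ([(6, 1), (1, 0), (0, 6), (4, 10)], [(6, 1), (1, 0), (0, 6), (4, 10), (9, 2)]),
    ([(6, 1), (1, 0), (0, 6), (4, 13)], [(6, 1), (1, 0), (0, 6), (4, 13), (8, 3)]),
    ([(6, 1), (1, 0), (0, 6), (5, 5)], [(6, 1), (1, 0), (0, 6), (5, 5), (3, 3)]),
    ([(6, 1), (1, 0), (0, 6), (5, 10)], [(6, 1), (1, 0), (0, 6), (5, 10), (9, 4)]),
    ([(6, 1), (1, 0), (0, 6), (5, 13)], [(6, 1), (1, 0), (0, 6), (5, 13), (8, 5)]),
    ([(6, 1), (1, 0), (0, 6), (6, 0)], [(6, 1), (1, 0), (0, 6), (6, 0)]),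
    ([(6, 1), (1, 0), (0, 6), (6, 6)], [(6, 1), (1, 0), (0, 6), (6, 6)]),
    ([(6, 1), (1, 0), (0, 6), (6, 9)], [(6, 1), (1, 0), (0, 6), (6, 9), (6, 14)]),
    ([(6, 1), (1, 0), (0, 6), (6, 15)], [(6, 1), (1, 0), (0, 6), (6, 15), (6, 8)]),
    ([(6, 1), (1, 0), (0, 6), (7, 0)], [(6, 1), (1, 0), (0, 6), (7, 0)]),
    ([(6, 1), (1, 0), (0, 6), (7, 6)], [(6, 1), (1, 0), (0, 6), (7, 6)]),
    ([(6, 1), (1, 0), (0, 6), (8, 3)], [(6, 1), (1, 0), (0, 6), (8, 3), (15, 5)]),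
    ([(6, 1), (1, 0), (0, 6), (8, 5)], [(6, 1), (1, 0), (0, 6), (8, 5), (15, 3)]),
    ([(6, 1), (1, 0), (0, 6), (8, 11)], [(6, 1), (1, 0), (0, 6), (8, 11)]),
    ([(6, 1), (1, 0), (0, 6), (8, 13)], [(6, 1), (1, 0), (0, 6), (8, 13)]),
    ([(6, 1), (1, 0), (0, 6), (9, 2)], [(6, 1), (1, 0), (0, 6), (9, 2), (14, 4)]),
    ([(6, 1), (1, 0), (0, 6), (9, 4)], [(6, 1), (1, 0), (0, 6), (9, 4), (14, 2)]),
    ([(6, 1), (1, 0), (0, 6), (9, 11)], [(6, 1), (1, 0), (0, 6), (9, 11)]),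
    ([(6, 1), (1, 0), (0, 6), (9, 13)], [(6, 1), (1, 0), (0, 6), (9, 13)]),
    ([(6, 1), (1, 0), (0, 6), (10, 1)], [(6, 1), (1, 0), (0, 6), (10, 1), (6, 15)]),
    ([(6, 1), (1, 0), (0, 6), (10, 14)], [(6, 1), (1, 0), (0, 6), (10, 14), (11, 9)]),
    ([(6, 1), (1, 0), (0, 6), (10, 15)], [(6, 1), (1, 0), (0, 6), (10, 15), (11, 8)]),
    ([(6, 1), (1, 0), (0, 6), (11, 1)], [(6, 1), (1, 0), (0, 6), (11, 1), (6, 9)]),
    ([(6, 1), (1, 0), (0, 6), (11, 8)], [(6, 1), (1, 0), (0, 6), (11, 8), (10, 15)]),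
    ([(6, 1), (1, 0), (0, 6), (11, 9)], [(6, 1), (1, 0), (0, 6), (11, 9), (10, 14)]),
    ([(6, 1), (1, 0), (0, 6), (12, 0)], [(6, 1), (1, 0), (0, 6), (12, 0), (0, 14)]),
    ([(6, 1), (1, 0), (0, 6), (12, 14)], [(6, 1), (1, 0), (0, 6), (12, 14), (13, 9)]),
    ([(6, 1), (1, 0), (0, 6), (12, 15)], [(6, 1), (1, 0), (0, 6), (12, 15), (13, 8)]),
    ([(6, 1), (1, 0), (0, 6), (13, 0)], [(6, 1), (1, 0), (0, 6), (13, 0), (0, 8)]),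
    ([(6, 1), (1, 0), (0, 6), (13, 8)], [(6, 1), (1, 0), (0, 6), (13, 8), (12, 15)]),
    ([(6, 1), (1, 0), (0, 6), (13, 9)], [(6, 1), (1, 0), (0, 6), (13, 9), (12, 14)]),
    ([(6, 1), (1, 0), (0, 6), (14, 2)], [(6, 1), (1, 0), (0, 6), (14, 2), (9, 4)]),
    ([(6, 1), (1, 0), (0, 6), (14, 4)], [(6, 1), (1, 0), (0, 6), (14, 4), (9, 2)]),
    ([(6, 1), (1, 0), (0, 6), (14, 10)], [(6, 1), (1, 0), (0, 6), (14, 10)]),
    ([(6, 1), (1, 0), (0, 6), (14, 12)], [(6, 1), (1, 0), (0, 6), (14, 12)]),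
    ([(6, 1), (1, 0), (0, 6), (15, 3)], [(6, 1), (1, 0), (0, 6), (15, 3), (8, 5)]),
    ([(6, 1), (1, 0), (0, 6), (15, 5)], [(6, 1), (1, 0), (0, 6), (15, 5), (8, 3)]),
    ([(6, 1), (1, 0), (0, 6), (15, 10)], [(6, 1), (1, 0), (0, 6), (15, 10)]),
    ([(6, 1), (1, 0), (0, 6), (15, 12)], [(6, 1), (1, 0), (0, 6), (15, 12)]),
    ([(6, 1), (1, 1)], [(6, 1), (1, 1), (6, 0), (0, 7)]),
    ([(6, 1), (1, 6)], [(6, 1), (1, 6), (7, 1)]),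
    ([(6, 1), (1, 6), (7, 1), (0, 1)], [(6, 1), (1, 6), (7, 1), (0, 1)]),
    ([(6, 1), (1, 6), (7, 1), (0, 7)], [(6, 1), (1, 6), (7, 1), (0, 7)]),
    ([(6, 1), (1, 6), (7, 1), (0, 8)], [(6, 1), (1, 6), (7, 1), (0, 8), (0, 15)]),
    ([(6, 1), (1, 6), (7, 1), (0, 14)], [(6, 1), (1, 6), (7, 1), (0, 14), (0, 9)]),
    ([(6, 1), (1, 6), (7, 1), (1, 1)], [(6, 1), (1, 6), (7, 1), (1, 1)]),
    ([(6, 1), (1, 6), (7, 1), (1, 7)], [(6, 1), (1, 6), (7, 1), (1, 7)]),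
    ([(6, 1), (1, 6), (7, 1), (2, 2)], [(6, 1), (1, 6), (7, 1), (2, 2), (4, 4)]),
    ([(6, 1), (1, 6), (7, 1), (2, 11)], [(6, 1), (1, 6), (7, 1), (2, 11), (15, 3)]),
    ([(6, 1), (1, 6), (7, 1), (2, 12)], [(6, 1), (1, 6), (7, 1), (2, 12), (14, 2)]),
    ([(6, 1), (1, 6), (7, 1), (3, 4)], [(6, 1), (1, 6), (7, 1), (3, 4), (5, 2)]),
    ([(6, 1), (1, 6), (7, 1), (3, 11)], [(6, 1), (1, 6), (7, 1), (3, 11), (15, 5)]),
    ([(6, 1), (1, 6), (7, 1), (3, 12)], [(6, 1), (1, 6), (7, 1), (3, 12), (14, 4)]),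
    ([(6, 1), (1, 6), (7, 1), (4, 3)], [(6, 1), (1, 6), (7, 1), (4, 3), (2, 5)]),
    ([(6, 1), (1, 6), (7, 1), (4, 10)], [(6, 1), (1, 6), (7, 1), (4, 10), (9, 2)]),
    ([(6, 1), (1, 6), (7, 1), (4, 13)], [(6, 1), (1, 6), (7, 1), (4, 13), (8, 3)]),
    ([(6, 1), (1, 6), (7, 1), (5, 5)], [(6, 1), (1, 6), (7, 1), (5, 5), (3, 3)]),
    ([(6, 1), (1, 6), (7, 1), (5, 10)], [(6, 1), (1, 6), (7, 1), (5, 10), (9, 4)]),
    ([(6, 1), (1, 6), (7, 1), (5, 13)], [(6, 1), (1, 6), (7, 1), (5, 13), (8, 5)]),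
    ([(6, 1), (1, 6), (7, 1), (6, 0)], [(6, 1), (1, 6), (7, 1), (6, 0)]),
    ([(6, 1), (1, 6), (7, 1), (6, 6)], [(6, 1), (1, 6), (7, 1), (6, 6)]),
    ([(6, 1), (1, 6), (7, 1), (6, 9)], [(6, 1), (1, 6), (7, 1), (6, 9), (6, 14)]),
    ([(6, 1), (1, 6), (7, 1), (6, 15)], [(6, 1), (1, 6), (7, 1), (6, 15), (6, 8)]),
    ([(6, 1), (1, 6), (7, 1), (7, 0)], [(6, 1), (1, 6), (7, 1), (7, 0)]),
    ([(6, 1), (1, 6), (7, 1), (7, 6)], [(6, 1), (1, 6), (7, 1), (7, 6)]),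
    ([(6, 1), (1, 6), (7, 1), (8, 3)], [(6, 1), (1, 6), (7, 1), (8, 3), (15, 5)]),
    ([(6, 1), (1, 6), (7, 1), (8, 5)], [(6, 1), (1, 6), (7, 1), (8, 5), (15, 3)]),
    ([(6, 1), (1, 6), (7, 1), (8, 11)], [(6, 1), (1, 6), (7, 1), (8, 11)]),
    ([(6, 1), (1, 6), (7, 1), (8, 13)], [(6, 1), (1, 6), (7, 1), (8, 13)]),
    ([(6, 1), (1, 6), (7, 1), (9, 2)], [(6, 1), (1, 6), (7, 1), (9, 2), (14, 4)]),
    ([(6, 1), (1, 6), (7, 1), (9, 4)], [(6, 1), (1, 6), (7, 1), (9, 4), (14, 2)]),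
    ([(6, 1), (1, 6), (7, 1), (9, 11)], [(6, 1), (1, 6), (7, 1), (9, 11)]),
    ([(6, 1), (1, 6), (7, 1), (9, 13)], [(6, 1), (1, 6), (7, 1), (9, 13)]),
    ([(6, 1), (1, 6), (7, 1), (10, 1)], [(6, 1), (1, 6), (7, 1), (10, 1), (6, 15)]),
    ([(6, 1), (1, 6), (7, 1), (10, 14)], [(6, 1), (1, 6), (7, 1), (10, 14), (11, 9)]),
    ([(6, 1), (1, 6), (7, 1), (10, 15)], [(6, 1), (1, 6), (7, 1), (10, 15), (11, 8)]),
    ([(6, 1), (1, 6), (7, 1), (11, 1)], [(6, 1), (1, 6), (7, 1), (11, 1), (6, 9)]),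
    ([(6, 1), (1, 6), (7, 1), (11, 8)], [(6, 1), (1, 6), (7, 1), (11, 8), (10, 15)]),
    ([(6, 1), (1, 6), (7, 1), (11, 9)], [(6, 1), (1, 6), (7, 1), (11, 9), (10, 14)]),
    ([(6, 1), (1, 6), (7, 1), (12, 0)], [(6, 1), (1, 6), (7, 1), (12, 0), (0, 14)]),
    ([(6, 1), (1, 6), (7, 1), (12, 14)], [(6, 1), (1, 6), (7, 1), (12, 14), (13, 9)]),
    ([(6, 1), (1, 6), (7, 1), (12, 15)], [(6, 1), (1, 6), (7, 1), (12, 15), (13, 8)]),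
    ([(6, 1), (1, 6), (7, 1), (13, 0)], [(6, 1), (1, 6), (7, 1), (13, 0), (0, 8)]),
    ([(6, 1), (1, 6), (7, 1), (13, 8)], [(6, 1), (1, 6), (7, 1), (13, 8), (12, 15)]),
    ([(6, 1), (1, 6), (7, 1), (13, 9)], [(6, 1), (1, 6), (7, 1), (13, 9), (12, 14)]),
    ([(6, 1), (1, 6), (7, 1), (14, 2)], [(6, 1), (1, 6), (7, 1), (14, 2), (9, 4)]),
    ([(6, 1), (1, 6), (7, 1), (14, 4)], [(6, 1), (1, 6), (7, 1), (14, 4), (9, 2)]),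
    ([(6, 1), (1, 6), (7, 1), (14, 10)], [(6, 1), (1, 6), (7, 1), (14, 10)]),
    ([(6, 1), (1, 6), (7, 1), (14, 12)], [(6, 1), (1, 6), (7, 1), (14, 12)]),
    ([(6, 1), (1, 6), (7, 1), (15, 3)], [(6, 1), (1, 6), (7, 1), (15, 3), (8, 5)]),
    ([(6, 1), (1, 6), (7, 1), (15, 5)], [(6, 1), (1, 6), (7, 1), (15, 5), (8, 3)]),
    ([(6, 1), (1, 6), (7, 1), (15, 10)], [(6, 1), (1, 6), (7, 1), (15, 10)]),
    ([(6, 1), (1, 6), (7, 1), (15, 12)], [(6, 1), (1, 6), (7, 1), (15, 12)]),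
    ([(6, 1), (1, 7)], [(6, 1), (1, 7)]),
    ([(6, 1), (1, 7), (0, 1)], [(6, 1), (1, 7), (0, 1), (6, 6)]),
    ([(6, 1), (1, 7), (0, 6)], [(6, 1), (1, 7), (0, 6), (7, 7)]),
    ([(6, 1), (1, 7), (0, 7)], [(6, 1), (1, 7), (0, 7), (1, 1)]),
    ([(6, 1), (1, 7), (0, 8)], [(6, 1), (1, 7), (0, 8), (0, 15), (5, 5)]),
    ([(6, 1), (1, 7), (0, 14)], [(6, 1), (1, 7), (0, 14), (0, 9), (2, 2)]),
    ([(6, 1), (1, 7), (1, 0)], [(6, 1), (1, 7), (1, 0), (0, 6)]),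
    ([(6, 1), (1, 7), (1, 1)], [(6, 1), (1, 7), (1, 1), (6, 0)]),
    ([(6, 1), (1, 7), (1, 6)], [(6, 1), (1, 7), (1, 6), (7, 1)]),
    ([(6, 1), (1, 7), (2, 2)], [(6, 1), (1, 7), (2, 2), (4, 4), (12, 0)]),
    ([(6, 1), (1, 7), (2, 11)], [(6, 1), (1, 7), (2, 11), (15, 3)]),
    ([(6, 1), (1, 7), (2, 12)], [(6, 1), (1, 7), (2, 12), (14, 2)]),
    ([(6, 1), (1, 7), (3, 4)], [(6, 1), (1, 7), (3, 4), (5, 2), (11, 1)]),
    ([(6, 1), (1, 7), (3, 11)], [(6, 1), (1, 7), (3, 11), (15, 5)]),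
    ([(6, 1), (1, 7), (3, 12)], [(6, 1), (1, 7), (3, 12), (14, 4)]),
    ([(6, 1), (1, 7), (4, 3)], [(6, 1), (1, 7), (4, 3), (2, 5), (10, 1)]),
    ([(6, 1), (1, 7), (4, 10)], [(6, 1), (1, 7), (4, 10), (9, 2)]),
    ([(6, 1), (1, 7), (4, 13)], [(6, 1), (1, 7), (4, 13), (8, 3)]),
    ([(6, 1), (1, 7), (5, 5)], [(6, 1), (1, 7), (5, 5), (3, 3), (13, 0)]),
    ([(6, 1), (1, 7), (5, 10)], [(6, 1), (1, 7), (5, 10), (9, 4)]),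
    ([(6, 1), (1, 7), (5, 13)], [(6, 1), (1, 7), (5, 13), (8, 5)]),
    ([(6, 1), (1, 7), (6, 0)], [(6, 1), (1, 7), (6, 0), (0, 7)]),
    ([(6, 1), (1, 7), (6, 6)], [(6, 1), (1, 7), (6, 6), (7, 0)]),
    ([(6, 1), (1, 7), (6, 7)], [(6, 1), (1, 7), (6, 7), (1, 6)]),
    ([(6, 1), (1, 7), (6, 9)], [(6, 1), (1, 7), (6, 9), (6, 14), (3, 4)]),
    ([(6, 1), (1, 7), (6, 15)], [(6, 1), (1, 7), (6, 15), (6, 8), (4, 3)]),
    ([(6, 1), (1, 7), (7, 0)], [(6, 1), (1, 7), (7, 0), (0, 1)]),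
    ([(6, 1), (1, 7), (7, 1)], [(6, 1), (1, 7), (7, 1), (6, 7)]),
    ([(6, 1), (1, 7), (7, 7)], [(6, 1), (1, 7), (7, 7), (1, 0)]),
    ([(6, 1), (1, 7), (8, 3)], [(6, 1), (1, 7), (8, 3), (10, 15)]),
    ([(6, 1), (1, 7), (8, 5)], [(6, 1), (1, 7), (8, 5), (13, 8)]),
    ([(6, 1), (1, 7), (8, 11)], [(6, 1), (1, 7), (8, 11), (15, 10), (9, 13)]),
    ([(6, 1), (1, 7), (8, 13)], [(6, 1), (1, 7), (8, 13), (15, 12), (14, 10)]),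
    ([(6, 1), (1, 7), (9, 2)], [(6, 1), (1, 7), (9, 2), (12, 15)]),
    ([(6, 1), (1, 7), (9, 4)], [(6, 1), (1, 7), (9, 4), (11, 8)]),
    ([(6, 1), (1, 7), (9, 11)], [(6, 1), (1, 7), (9, 11), (14, 10), (15, 12)]),
    ([(6, 1), (1, 7), (9, 13)], [(6, 1), (1, 7), (9, 13), (14, 12), (8, 11)]),
    ([(6, 1), (1, 7), (10, 1)], [(6, 1), (1, 7), (10, 1), (11, 1), (6, 15)]),
    ([(6, 1), (1, 7), (10, 14)], [(6, 1), (1, 7), (10, 14), (2, 11)]),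
    ([(6, 1), (1, 7), (10, 15)], [(6, 1), (1, 7), (10, 15), (4, 13)]),
    ([(6, 1), (1, 7), (11, 1)], [(6, 1), (1, 7), (11, 1), (10, 1), (6, 9)]),
    ([(6, 1), (1, 7), (11, 8)], [(6, 1), (1, 7), (11, 8), (5, 10)]),
    ([(6, 1), (1, 7), (11, 9)], [(6, 1), (1, 7), (11, 9), (3, 12)]),
    ([(6, 1), (1, 7), (12, 0)], [(6, 1), (1, 7), (12, 0), (13, 0), (0, 14)]),
    ([(6, 1), (1, 7), (12, 14)], [(6, 1), (1, 7), (12, 14), (2, 12)]),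
    ([(6, 1), (1, 7), (12, 15)], [(6, 1), (1, 7), (12, 15), (4, 10)]),
    ([(6, 1), (1, 7), (13, 0)], [(6, 1), (1, 7), (13, 0), (12, 0), (0, 8)]),
    ([(6, 1), (1, 7), (13, 8)], [(6, 1), (1, 7), (13, 8), (5, 13)]),
    ([(6, 1), (1, 7), (13, 9)], [(6, 1), (1, 7), (13, 9), (3, 11)]),
    ([(6, 1), (1, 7), (14, 2)], [(6, 1), (1, 7), (14, 2), (12, 14)]),
    ([(6, 1), (1, 7), (14, 4)], [(6, 1), (1, 7), (14, 4), (11, 9)]),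
    ([(6, 1), (1, 7), (14, 10)], [(6, 1), (1, 7), (14, 10), (9, 11), (15, 12)]),
    ([(6, 1), (1, 7), (14, 12)], [(6, 1), (1, 7), (14, 12), (9, 13), (8, 11)]),
    ([(6, 1), (1, 7), (15, 3)], [(6, 1), (1, 7), (15, 3), (10, 14)]),
    ([(6, 1), (1, 7), (15, 5)], [(6, 1), (1, 7), (15, 5), (13, 9)]),
    ([(6, 1), (1, 7), (15, 10)], [(6, 1), (1, 7), (15, 10), (8, 11), (9, 13)]),
    ([(6, 1), (1, 7), (15, 12)], [(6, 1), (1, 7), (15, 12), (8, 13), (14, 10)]),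
    ([(6, 1), (2, 2)], [(6, 1), (2, 2), (4, 4), (12, 0), (13, 0)]),
    ([(6, 1), (2, 11)], [(6, 1), (2, 11), (15, 3), (8, 5)]),
    ([(6, 1), (2, 12)], [(6, 1), (2, 12), (14, 2), (9, 4)]),
    ([(6, 1), (3, 4)], [(6, 1), (3, 4), (5, 2), (11, 1), (10, 1)]),
    ([(6, 1), (3, 11)], [(6, 1), (3, 11), (15, 5), (8, 3)]),
    ([(6, 1), (3, 12)], [(6, 1), (3, 12), (14, 4), (9, 2)]),
    ([(6, 1), (4, 3)], [(6, 1), (4, 3), (2, 5), (10, 1), (11, 1)]),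
    ([(6, 1), (4, 10)], [(6, 1), (4, 10), (9, 2), (14, 4)]),
    ([(6, 1), (4, 13)], [(6, 1), (4, 13), (8, 3), (15, 5)]),
    ([(6, 1), (5, 5)], [(6, 1), (5, 5), (3, 3), (13, 0), (12, 0)]),
    ([(6, 1), (5, 10)], [(6, 1), (5, 10), (9, 4), (14, 2)]),
    ([(6, 1), (5, 13)], [(6, 1), (5, 13), (8, 5), (15, 3)]),
    ([(6, 1), (6, 0)], [(6, 1), (6, 0), (0, 7), (1, 1)]),
    ([(6, 1), (6, 6)], [(6, 1), (6, 6), (7, 0), (0, 1)]),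
    ([(6, 1), (6, 7)], [(6, 1), (6, 7), (1, 6)]),
    ([(6, 1), (6, 7), (1, 6), (0, 1)], [(6, 1), (6, 7), (1, 6), (0, 1)]),
    ([(6, 1), (6, 7), (1, 6), (0, 7)], [(6, 1), (6, 7), (1, 6), (0, 7)]),
    ([(6, 1), (6, 7), (1, 6), (0, 8)], [(6, 1), (6, 7), (1, 6), (0, 8), (0, 15)]),
    ([(6, 1), (6, 7), (1, 6), (0, 14)], [(6, 1), (6, 7), (1, 6), (0, 14), (0, 9)]),
    ([(6, 1), (6, 7), (1, 6), (1, 1)], [(6, 1), (6, 7), (1, 6), (1, 1)]),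
    ([(6, 1), (6, 7), (1, 6), (1, 7)], [(6, 1), (6, 7), (1, 6), (1, 7)]),
    ([(6, 1), (6, 7), (1, 6), (2, 2)], [(6, 1), (6, 7), (1, 6), (2, 2), (4, 4)]),
    ([(6, 1), (6, 7), (1, 6), (2, 11)], [(6, 1), (6, 7), (1, 6), (2, 11), (15, 3)]),
    ([(6, 1), (6, 7), (1, 6), (2, 12)], [(6, 1), (6, 7), (1, 6), (2, 12), (14, 2)]),
    ([(6, 1), (6, 7), (1, 6), (3, 4)], [(6, 1), (6, 7), (1, 6), (3, 4), (5, 2)]),
    ([(6, 1), (6, 7), (1, 6), (3, 11)], [(6, 1), (6, 7), (1, 6), (3, 11), (15, 5)]),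
    ([(6, 1), (6, 7), (1, 6), (3, 12)], [(6, 1), (6, 7), (1, 6), (3, 12), (14, 4)]),
    ([(6, 1), (6, 7), (1, 6), (4, 3)], [(6, 1), (6, 7), (1, 6), (4, 3), (2, 5)]),
    ([(6, 1), (6, 7), (1, 6), (4, 10)], [(6, 1), (6, 7), (1, 6), (4, 10), (9, 2)]),
    ([(6, 1), (6, 7), (1, 6), (4, 13)], [(6, 1), (6, 7), (1, 6), (4, 13), (8, 3)]),
    ([(6, 1), (6, 7), (1, 6), (5, 5)], [(6, 1), (6, 7), (1, 6), (5, 5), (3, 3)]),
    ([(6, 1), (6, 7), (1, 6), (5, 10)], [(6, 1), (6, 7), (1, 6), (5, 10), (9, 4)]),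
    ([(6, 1), (6, 7), (1, 6), (5, 13)], [(6, 1), (6, 7), (1, 6), (5, 13), (8, 5)]),
    ([(6, 1), (6, 7), (1, 6), (6, 0)], [(6, 1), (6, 7), (1, 6), (6, 0)]),
    ([(6, 1), (6, 7), (1, 6), (6, 6)], [(6, 1), (6, 7), (1, 6), (6, 6)]),
    ([(6, 1), (6, 7), (1, 6), (6, 9)], [(6, 1), (6, 7), (1, 6), (6, 9), (6, 14)]),
    ([(6, 1), (6, 7), (1, 6), (6, 15)], [(6, 1), (6, 7), (1, 6), (6, 15), (6, 8)]),
    ([(6, 1), (6, 7), (1, 6), (7, 0)], [(6, 1), (6, 7), (1, 6), (7, 0)]),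
    ([(6, 1), (6, 7), (1, 6), (7, 6)], [(6, 1), (6, 7), (1, 6), (7, 6)]),
    ([(6, 1), (6, 7), (1, 6), (8, 3)], [(6, 1), (6, 7), (1, 6), (8, 3), (15, 5)]),
    ([(6, 1), (6, 7), (1, 6), (8, 5)], [(6, 1), (6, 7), (1, 6), (8, 5), (15, 3)]),
    ([(6, 1), (6, 7), (1, 6), (8, 11)], [(6, 1), (6, 7), (1, 6), (8, 11)]),
    ([(6, 1), (6, 7), (1, 6), (8, 13)], [(6, 1), (6, 7), (1, 6), (8, 13)]),
    ([(6, 1), (6, 7), (1, 6), (9, 2)], [(6, 1), (6, 7), (1, 6), (9, 2), (14, 4)]),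
    ([(6, 1), (6, 7), (1, 6), (9, 4)], [(6, 1), (6, 7), (1, 6), (9, 4), (14, 2)]),
    ([(6, 1), (6, 7), (1, 6), (9, 11)], [(6, 1), (6, 7), (1, 6), (9, 11)]),
    ([(6, 1), (6, 7), (1, 6), (9, 13)], [(6, 1), (6, 7), (1, 6), (9, 13)]),
    ([(6, 1), (6, 7), (1, 6), (10, 1)], [(6, 1), (6, 7), (1, 6), (10, 1), (6, 15)]),
    ([(6, 1), (6, 7), (1, 6), (10, 14)], [(6, 1), (6, 7), (1, 6), (10, 14), (11, 9)]),
    ([(6, 1), (6, 7), (1, 6), (10, 15)], [(6, 1), (6, 7), (1, 6), (10, 15), (11, 8)]),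
    ([(6, 1), (6, 7), (1, 6), (11, 1)], [(6, 1), (6, 7), (1, 6), (11, 1), (6, 9)]),
    ([(6, 1), (6, 7), (1, 6), (11, 8)], [(6, 1), (6, 7), (1, 6), (11, 8), (10, 15)]),
    ([(6, 1), (6, 7), (1, 6), (11, 9)], [(6, 1), (6, 7), (1, 6), (11, 9), (10, 14)]),
    ([(6, 1), (6, 7), (1, 6), (12, 0)], [(6, 1), (6, 7), (1, 6), (12, 0), (0, 14)]),
    ([(6, 1), (6, 7), (1, 6), (12, 14)], [(6, 1), (6, 7), (1, 6), (12, 14), (13, 9)]),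
    ([(6, 1), (6, 7), (1, 6), (12, 15)], [(6, 1), (6, 7), (1, 6), (12, 15), (13, 8)]),
    ([(6, 1), (6, 7), (1, 6), (13, 0)], [(6, 1), (6, 7), (1, 6), (13, 0), (0, 8)]),
    ([(6, 1), (6, 7), (1, 6), (13, 8)], [(6, 1), (6, 7), (1, 6), (13, 8), (12, 15)]),
    ([(6, 1), (6, 7), (1, 6), (13, 9)], [(6, 1), (6, 7), (1, 6), (13, 9), (12, 14)]),
    ([(6, 1), (6, 7), (1, 6), (14, 2)], [(6, 1), (6, 7), (1, 6), (14, 2), (9, 4)]),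
    ([(6, 1), (6, 7), (1, 6), (14, 4)], [(6, 1), (6, 7), (1, 6), (14, 4), (9, 2)]),
    ([(6, 1), (6, 7), (1, 6), (14, 10)], [(6, 1), (6, 7), (1, 6), (14, 10)]),
    ([(6, 1), (6, 7), (1, 6), (14, 12)], [(6, 1), (6, 7), (1, 6), (14, 12)]),
    ([(6, 1), (6, 7), (1, 6), (15, 3)], [(6, 1), (6, 7), (1, 6), (15, 3), (8, 5)]),
    ([(6, 1), (6, 7), (1, 6), (15, 5)], [(6, 1), (6, 7), (1, 6), (15, 5), (8, 3)]),
    ([(6, 1), (6, 7), (1, 6), (15, 10)], [(6, 1), (6, 7), (1, 6), (15, 10)]),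
    ([(6, 1), (6, 7), (1, 6), (15, 12)], [(6, 1), (6, 7), (1, 6), (15, 12)]),
    ([(6, 1), (6, 9)], [(6, 1), (6, 9), (6, 14), (3, 4), (2, 5)]),
    ([(6, 1), (6, 15)], [(6, 1), (6, 15), (6, 8), (4, 3), (5, 2)]),
    ([(6, 1), (7, 0)], [(6, 1), (7, 0), (0, 1), (6, 6)]),
    ([(6, 1), (7, 1)], [(6, 1), (7, 1), (6, 7)]),
    ([(6, 1), (7, 1), (6, 7), (0, 1)], [(6, 1), (7, 1), (6, 7), (0, 1)]),
    ([(6, 1), (7, 1), (6, 7), (0, 7)], [(6, 1), (7, 1), (6, 7), (0, 7)]),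
    ([(6, 1), (7, 1), (6, 7), (0, 8)], [(6, 1), (7, 1), (6, 7), (0, 8), (0, 15)]),
    ([(6, 1), (7, 1), (6, 7), (0, 14)], [(6, 1), (7, 1), (6, 7), (0, 14), (0, 9)]),
    ([(6, 1), (7, 1), (6, 7), (1, 1)], [(6, 1), (7, 1), (6, 7), (1, 1)]),
    ([(6, 1), (7, 1), (6, 7), (1, 7)], [(6, 1), (7, 1), (6, 7), (1, 7)]),
    ([(6, 1), (7, 1), (6, 7), (2, 2)], [(6, 1), (7, 1), (6, 7), (2, 2), (4, 4)]),
    ([(6, 1), (7, 1), (6, 7), (2, 11)], [(6, 1), (7, 1), (6, 7), (2, 11), (15, 3)]),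
    ([(6, 1), (7, 1), (6, 7), (2, 12)], [(6, 1), (7, 1), (6, 7), (2, 12), (14, 2)]),
    ([(6, 1), (7, 1), (6, 7), (3, 4)], [(6, 1), (7, 1), (6, 7), (3, 4), (5, 2)]),
    ([(6, 1), (7, 1), (6, 7), (3, 11)], [(6, 1), (7, 1), (6, 7), (3, 11), (15, 5)]),
    ([(6, 1), (7, 1), (6, 7), (3, 12)], [(6, 1), (7, 1), (6, 7), (3, 12), (14, 4)]),
    ([(6, 1), (7, 1), (6, 7), (4, 3)], [(6, 1), (7, 1), (6, 7), (4, 3), (2, 5)]),
    ([(6, 1), (7, 1), (6, 7), (4, 10)], [(6, 1), (7, 1), (6, 7), (4, 10), (9, 2)]),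
    ([(6, 1), (7, 1), (6, 7), (4, 13)], [(6, 1), (7, 1), (6, 7), (4, 13), (8, 3)]),
    ([(6, 1), (7, 1), (6, 7), (5, 5)], [(6, 1), (7, 1), (6, 7), (5, 5), (3, 3)]),
    ([(6, 1), (7, 1), (6, 7), (5, 10)], [(6, 1), (7, 1), (6, 7), (5, 10), (9, 4)]),
    ([(6, 1), (7, 1), (6, 7), (5, 13)], [(6, 1), (7, 1), (6, 7), (5, 13), (8, 5)]),
    ([(6, 1), (7, 1), (6, 7), (6, 0)], [(6, 1), (7, 1), (6, 7), (6, 0)]),
    ([(6, 1), (7, 1), (6, 7), (6, 6)], [(6, 1), (7, 1), (6, 7), (6, 6)]),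
    ([(6, 1), (7, 1), (6, 7), (6, 9)], [(6, 1), (7, 1), (6, 7), (6, 9), (6, 14)]),
    ([(6, 1), (7, 1), (6, 7), (6, 15)], [(6, 1), (7, 1), (6, 7), (6, 15), (6, 8)]),
    ([(6, 1), (7, 1), (6, 7), (7, 0)], [(6, 1), (7, 1), (6, 7), (7, 0)]),
    ([(6, 1), (7, 1), (6, 7), (7, 6)], [(6, 1), (7, 1), (6, 7), (7, 6)]),
    ([(6, 1), (7, 1), (6, 7), (8, 3)], [(6, 1), (7, 1), (6, 7), (8, 3), (15, 5)]),
    ([(6, 1), (7, 1), (6, 7), (8, 5)], [(6, 1), (7, 1), (6, 7), (8, 5), (15, 3)]),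
    ([(6, 1), (7, 1), (6, 7), (8, 11)], [(6, 1), (7, 1), (6, 7), (8, 11)]),
    ([(6, 1), (7, 1), (6, 7), (8, 13)], [(6, 1), (7, 1), (6, 7), (8, 13)]),
    ([(6, 1), (7, 1), (6, 7), (9, 2)], [(6, 1), (7, 1), (6, 7), (9, 2), (14, 4)]),
    ([(6, 1), (7, 1), (6, 7), (9, 4)], [(6, 1), (7, 1), (6, 7), (9, 4), (14, 2)]),
    ([(6, 1), (7, 1), (6, 7), (9, 11)], [(6, 1), (7, 1), (6, 7), (9, 11)]),
    ([(6, 1), (7, 1), (6, 7), (9, 13)], [(6, 1), (7, 1), (6, 7), (9, 13)]),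
    ([(6, 1), (7, 1), (6, 7), (10, 1)], [(6, 1), (7, 1), (6, 7), (10, 1), (6, 15)]),
    ([(6, 1), (7, 1), (6, 7), (10, 14)], [(6, 1), (7, 1), (6, 7), (10, 14), (11, 9)]),
    ([(6, 1), (7, 1), (6, 7), (10, 15)], [(6, 1), (7, 1), (6, 7), (10, 15), (11, 8)]),
    ([(6, 1), (7, 1), (6, 7), (11, 1)], [(6, 1), (7, 1), (6, 7), (11, 1), (6, 9)]),
    ([(6, 1), (7, 1), (6, 7), (11, 8)], [(6, 1), (7, 1), (6, 7), (11, 8), (10, 15)]),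
    ([(6, 1), (7, 1), (6, 7), (11, 9)], [(6, 1), (7, 1), (6, 7), (11, 9), (10, 14)]),
    ([(6, 1), (7, 1), (6, 7), (12, 0)], [(6, 1), (7, 1), (6, 7), (12, 0), (0, 14)]),
    ([(6, 1), (7, 1), (6, 7), (12, 14)], [(6, 1), (7, 1), (6, 7), (12, 14), (13, 9)]),
    ([(6, 1), (7, 1), (6, 7), (12, 15)], [(6, 1), (7, 1), (6, 7), (12, 15), (13, 8)]),
    ([(6, 1), (7, 1), (6, 7), (13, 0)], [(6, 1), (7, 1), (6, 7), (13, 0), (0, 8)]),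
    ([(6, 1), (7, 1), (6, 7), (13, 8)], [(6, 1), (7, 1), (6, 7), (13, 8), (12, 15)]),
    ([(6, 1), (7, 1), (6, 7), (13, 9)], [(6, 1), (7, 1), (6, 7), (13, 9), (12, 14)]),
    ([(6, 1), (7, 1), (6, 7), (14, 2)], [(6, 1), (7, 1), (6, 7), (14, 2), (9, 4)]),
    ([(6, 1), (7, 1), (6, 7), (14, 4)], [(6, 1), (7, 1), (6, 7), (14, 4), (9, 2)]),
    ([(6, 1), (7, 1), (6, 7), (14, 10)], [(6, 1), (7, 1), (6, 7), (14, 10)]),
    ([(6, 1), (7, 1), (6, 7), (14, 12)], [(6, 1), (7, 1), (6, 7), (14, 12)]),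
    ([(6, 1), (7, 1), (6, 7), (15, 3)], [(6, 1), (7, 1), (6, 7), (15, 3), (8, 5)]),
    ([(6, 1), (7, 1), (6, 7), (15, 5)], [(6, 1), (7, 1), (6, 7), (15, 5), (8, 3)]),
    ([(6, 1), (7, 1), (6, 7), (15, 10)], [(6, 1), (7, 1), (6, 7), (15, 10)]),
    ([(6, 1), (7, 1), (6, 7), (15, 12)], [(6, 1), (7, 1), (6, 7), (15, 12)]),
    ([(6, 1), (7, 6)], [(6, 1), (7, 6)]),
    ([(6, 1), (7, 6), (0, 1)], [(6, 1), (7, 6), (0, 1), (6, 6)]),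
    ([(6, 1), (7, 6), (0, 6)], [(6, 1), (7, 6), (0, 6), (7, 7)]),
    ([(6, 1), (7, 6), (0, 7)], [(6, 1), (7, 6), (0, 7), (1, 1)]),
    ([(6, 1), (7, 6), (0, 8)], [(6, 1), (7, 6), (0, 8), (0, 15), (5, 5)]),
    ([(6, 1), (7, 6), (0, 14)], [(6, 1), (7, 6), (0, 14), (0, 9), (2, 2)]),
    ([(6, 1), (7, 6), (1, 0)], [(6, 1), (7, 6), (1, 0), (0, 6)]),
    ([(6, 1), (7, 6), (1, 1)], [(6, 1), (7, 6), (1, 1), (6, 0)]),
    ([(6, 1), (7, 6), (1, 6)], [(6, 1), (7, 6), (1, 6), (7, 1)]),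
    ([(6, 1), (7, 6), (2, 2)], [(6, 1), (7, 6), (2, 2), (4, 4), (12, 0)]),
    ([(6, 1), (7, 6), (2, 11)], [(6, 1), (7, 6), (2, 11), (15, 3)]),
    ([(6, 1), (7, 6), (2, 12)], [(6, 1), (7, 6), (2, 12), (14, 2)]),
    ([(6, 1), (7, 6), (3, 4)], [(6, 1), (7, 6), (3, 4), (5, 2), (11, 1)]),
    ([(6, 1), (7, 6), (3, 11)], [(6, 1), (7, 6), (3, 11), (15, 5)]),
    ([(6, 1), (7, 6), (3, 12)], [(6, 1), (7, 6), (3, 12), (14, 4)]),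
    ([(6, 1), (7, 6), (4, 3)], [(6, 1), (7, 6), (4, 3), (2, 5), (10, 1)]),
    ([(6, 1), (7, 6), (4, 10)], [(6, 1), (7, 6), (4, 10), (9, 2)]),
    ([(6, 1), (7, 6), (4, 13)], [(6, 1), (7, 6), (4, 13), (8, 3)]),
    ([(6, 1), (7, 6), (5, 5)], [(6, 1), (7, 6), (5, 5), (3, 3), (13, 0)]),
    ([(6, 1), (7, 6), (5, 10)], [(6, 1), (7, 6), (5, 10), (9, 4)]),
    ([(6, 1), (7, 6), (5, 13)], [(6, 1), (7, 6), (5, 13), (8, 5)]),
    ([(6, 1), (7, 6), (6, 0)], [(6, 1), (7, 6), (6, 0), (0, 7)]),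
    ([(6, 1), (7, 6), (6, 6)], [(6, 1), (7, 6), (6, 6), (7, 0)]),
    ([(6, 1), (7, 6), (6, 7)], [(6, 1), (7, 6), (6, 7), (1, 6)]),
    ([(6, 1), (7, 6), (6, 9)], [(6, 1), (7, 6), (6, 9), (6, 14), (3, 4)]),
    ([(6, 1), (7, 6), (6, 15)], [(6, 1), (7, 6), (6, 15), (6, 8), (4, 3)]),
    ([(6, 1), (7, 6), (7, 0)], [(6, 1), (7, 6), (7, 0), (0, 1)]),
    ([(6, 1), (7, 6), (7, 1)], [(6, 1), (7, 6), (7, 1), (6, 7)]),
    ([(6, 1), (7, 6), (7, 7)], [(6, 1), (7, 6), (7, 7), (1, 0)]),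
    ([(6, 1), (7, 6), (8, 3)], [(6, 1), (7, 6), (8, 3), (10, 15)]),
    ([(6, 1), (7, 6), (8, 5)], [(6, 1), (7, 6), (8, 5), (13, 8)]),
    ([(6, 1), (7, 6), (8, 11)], [(6, 1), (7, 6), (8, 11), (15, 10), (9, 13)]),
    ([(6, 1), (7, 6), (8, 13)], [(6, 1), (7, 6), (8, 13), (15, 12), (14, 10)]),
    ([(6, 1), (7, 6), (9, 2)], [(6, 1), (7, 6), (9, 2), (12, 15)]),
    ([(6, 1), (7, 6), (9, 4)], [(6, 1), (7, 6), (9, 4), (11, 8)]),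
    ([(6, 1), (7, 6), (9, 11)], [(6, 1), (7, 6), (9, 11), (14, 10), (15, 12)]),
    ([(6, 1), (7, 6), (9, 13)], [(6, 1), (7, 6), (9, 13), (14, 12), (8, 11)]),
    ([(6, 1), (7, 6), (10, 1)], [(6, 1), (7, 6), (10, 1), (11, 1), (6, 15)]),
    ([(6, 1), (7, 6), (10, 14)], [(6, 1), (7, 6), (10, 14), (2, 11)]),
    ([(6, 1), (7, 6), (10, 15)], [(6, 1), (7, 6), (10, 15), (4, 13)]),
    ([(6, 1), (7, 6), (11, 1)], [(6, 1), (7, 6), (11, 1), (10, 1), (6, 9)]),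
    ([(6, 1), (7, 6), (11, 8)], [(6, 1), (7, 6), (11, 8), (5, 10)]),
    ([(6, 1), (7, 6), (11, 9)], [(6, 1), (7, 6), (11, 9), (3, 12)]),
    ([(6, 1), (7, 6), (12, 0)], [(6, 1), (7, 6), (12, 0), (13, 0), (0, 14)]),
    ([(6, 1), (7, 6), (12, 14)], [(6, 1), (7, 6), (12, 14), (2, 12)]),
    ([(6, 1), (7, 6), (12, 15)], [(6, 1), (7, 6), (12, 15), (4, 10)]),
    ([(6, 1), (7, 6), (13, 0)], [(6, 1), (7, 6), (13, 0), (12, 0), (0, 8)]),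
    ([(6, 1), (7, 6), (13, 8)], [(6, 1), (7, 6), (13, 8), (5, 13)]),
    ([(6, 1), (7, 6), (13, 9)], [(6, 1), (7, 6), (13, 9), (3, 11)]),
    ([(6, 1), (7, 6), (14, 2)], [(6, 1), (7, 6), (14, 2), (12, 14)]),
    ([(6, 1), (7, 6), (14, 4)], [(6, 1), (7, 6), (14, 4), (11, 9)]),
    ([(6, 1), (7, 6), (14, 10)], [(6, 1), (7, 6), (14, 10), (9, 11), (15, 12)]),
    ([(6, 1), (7, 6), (14, 12)], [(6, 1), (7, 6), (14, 12), (9, 13), (8, 11)]),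
    ([(6, 1), (7, 6), (15, 3)], [(6, 1), (7, 6), (15, 3), (10, 14)]),
    ([(6, 1), (7, 6), (15, 5)], [(6, 1), (7, 6), (15, 5), (13, 9)]),
    ([(6, 1), (7, 6), (15, 10)], [(6, 1), (7, 6), (15, 10), (8, 11), (9, 13)]),
    ([(6, 1), (7, 6), (15, 12)], [(6, 1), (7, 6), (15, 12), (8, 13), (14, 10)]),
    ([(6, 1), (7, 7)], [(6, 1), (7, 7), (1, 0)]),
    ([(6, 1), (7, 7), (1, 0), (0, 1)], [(6, 1), (7, 7), (1, 0), (0, 1)]),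
    ([(6, 1), (7, 7), (1, 0), (0, 7)], [(6, 1), (7, 7), (1, 0), (0, 7)]),
    ([(6, 1), (7, 7), (1, 0), (0, 8)], [(6, 1), (7, 7), (1, 0), (0, 8), (0, 15)]),
    ([(6, 1), (7, 7), (1, 0), (0, 14)], [(6, 1), (7, 7), (1, 0), (0, 14), (0, 9)]),
    ([(6, 1), (7, 7), (1, 0), (1, 1)], [(6, 1), (7, 7), (1, 0), (1, 1)]),
    ([(6, 1), (7, 7), (1, 0), (1, 7)], [(6, 1), (7, 7), (1, 0), (1, 7)]),
    ([(6, 1), (7, 7), (1, 0), (2, 2)], [(6, 1), (7, 7), (1, 0), (2, 2), (4, 4)]),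
    ([(6, 1), (7, 7), (1, 0), (2, 11)], [(6, 1), (7, 7), (1, 0), (2, 11), (15, 3)]),
    ([(6, 1), (7, 7), (1, 0), (2, 12)], [(6, 1), (7, 7), (1, 0), (2, 12), (14, 2)]),
    ([(6, 1), (7, 7), (1, 0), (3, 4)], [(6, 1), (7, 7), (1, 0), (3, 4), (5, 2)]),
    ([(6, 1), (7, 7), (1, 0), (3, 11)], [(6, 1), (7, 7), (1, 0), (3, 11), (15, 5)]),
    ([(6, 1), (7, 7), (1, 0), (3, 12)], [(6, 1), (7, 7), (1, 0), (3, 12), (14, 4)]),
    ([(6, 1), (7, 7), (1, 0), (4, 3)], [(6, 1), (7, 7), (1, 0), (4, 3), (2, 5)]),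
    ([(6, 1), (7, 7), (1, 0), (4, 10)], [(6, 1), (7, 7), (1, 0), (4, 10), (9, 2)]),
    ([(6, 1), (7, 7), (1, 0), (4, 13)], [(6, 1), (7, 7), (1, 0), (4, 13), (8, 3)]),
    ([(6, 1), (7, 7), (1, 0), (5, 5)], [(6, 1), (7, 7), (1, 0), (5, 5), (3, 3)]),
    ([(6, 1), (7, 7), (1, 0), (5, 10)], [(6, 1), (7, 7), (1, 0), (5, 10), (9, 4)]),
    ([(6, 1), (7, 7), (1, 0), (5, 13)], [(6, 1), (7, 7), (1, 0), (5, 13), (8, 5)]),
    ([(6, 1), (7, 7), (1, 0), (6, 0)], [(6, 1), (7, 7), (1, 0), (6, 0)]),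
    ([(6, 1), (7, 7), (1, 0), (6, 6)], [(6, 1), (7, 7), (1, 0), (6, 6)]),
    ([(6, 1), (7, 7), (1, 0), (6, 9)], [(6, 1), (7, 7), (1, 0), (6, 9), (6, 14)]),
    ([(6, 1), (7, 7), (1, 0), (6, 15)], [(6, 1), (7, 7), (1, 0), (6, 15), (6, 8)]),
    ([(6, 1), (7, 7), (1, 0), (7, 0)], [(6, 1), (7, 7), (1, 0), (7, 0)]),
    ([(6, 1), (7, 7), (1, 0), (7, 6)], [(6, 1), (7, 7), (1, 0), (7, 6)]),
    ([(6, 1), (7, 7), (1, 0), (8, 3)], [(6, 1), (7, 7), (1, 0), (8, 3), (15, 5)]),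
    ([(6, 1), (7, 7), (1, 0), (8, 5)], [(6, 1), (7, 7), (1, 0), (8, 5), (15, 3)]),
    ([(6, 1), (7, 7), (1, 0), (8, 11)], [(6, 1), (7, 7), (1, 0), (8, 11)]),
    ([(6, 1), (7, 7), (1, 0), (8, 13)], [(6, 1), (7, 7), (1, 0), (8, 13)]),
    ([(6, 1), (7, 7), (1, 0), (9, 2)], [(6, 1), (7, 7), (1, 0), (9, 2), (14, 4)]),
    ([(6, 1), (7, 7), (1, 0), (9, 4)], [(6, 1), (7, 7), (1, 0), (9, 4), (14, 2)]),
    ([(6, 1), (7, 7), (1, 0), (9, 11)], [(6, 1), (7, 7), (1, 0), (9, 11)]),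
    ([(6, 1), (7, 7), (1, 0), (9, 13)], [(6, 1), (7, 7), (1, 0), (9, 13)]),
    ([(6, 1), (7, 7), (1, 0), (10, 1)], [(6, 1), (7, 7), (1, 0), (10, 1), (6, 15)]),
    ([(6, 1), (7, 7), (1, 0), (10, 14)], [(6, 1), (7, 7), (1, 0), (10, 14), (11, 9)]),
    ([(6, 1), (7, 7), (1, 0), (10, 15)], [(6, 1), (7, 7), (1, 0), (10, 15), (11, 8)]),
    ([(6, 1), (7, 7), (1, 0), (11, 1)], [(6, 1), (7, 7), (1, 0), (11, 1), (6, 9)]),
    ([(6, 1), (7, 7), (1, 0), (11, 8)], [(6, 1), (7, 7), (1, 0), (11, 8), (10, 15)]),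
    ([(6, 1), (7, 7), (1, 0), (11, 9)], [(6, 1), (7, 7), (1, 0), (11, 9), (10, 14)]),
    ([(6, 1), (7, 7), (1, 0), (12, 0)], [(6, 1), (7, 7), (1, 0), (12, 0), (0, 14)]),
    ([(6, 1), (7, 7), (1, 0), (12, 14)], [(6, 1), (7, 7), (1, 0), (12, 14), (13, 9)]),
    ([(6, 1), (7, 7), (1, 0), (12, 15)], [(6, 1), (7, 7), (1, 0), (12, 15), (13, 8)]),
    ([(6, 1), (7, 7), (1, 0), (13, 0)], [(6, 1), (7, 7), (1, 0), (13, 0), (0, 8)]),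
    ([(6, 1), (7, 7), (1, 0), (13, 8)], [(6, 1), (7, 7), (1, 0), (13, 8), (12, 15)]),
    ([(6, 1), (7, 7), (1, 0), (13, 9)], [(6, 1), (7, 7), (1, 0), (13, 9), (12, 14)]),
    ([(6, 1), (7, 7), (1, 0), (14, 2)], [(6, 1), (7, 7), (1, 0), (14, 2), (9, 4)]),
    ([(6, 1), (7, 7), (1, 0), (14, 4)], [(6, 1), (7, 7), (1, 0), (14, 4), (9, 2)]),
    ([(6, 1), (7, 7), (1, 0), (14, 10)], [(6, 1), (7, 7), (1, 0), (14, 10)]),
    ([(6, 1), (7, 7), (1, 0), (14, 12)], [(6, 1), (7, 7), (1, 0), (14, 12)]),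
    ([(6, 1), (7, 7), (1, 0), (15, 3)], [(6, 1), (7, 7), (1, 0), (15, 3), (8, 5)]),
    ([(6, 1), (7, 7), (1, 0), (15, 5)], [(6, 1), (7, 7), (1, 0), (15, 5), (8, 3)]),
    ([(6, 1), (7, 7), (1, 0), (15, 10)], [(6, 1), (7, 7), (1, 0), (15, 10)]),
    ([(6, 1), (7, 7), (1, 0), (15, 12)], [(6, 1), (7, 7), (1, 0), (15, 12)]),
    ([(6, 1), (8, 3)], [(6, 1), (8, 3), (15, 5), (10, 15)]),
    ([(6, 1), (8, 5)], [(6, 1), (8, 5), (15, 3), (13, 8)]),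
    ([(6, 1), (8, 11)], [(6, 1), (8, 11), (15, 10), (9, 13)]),
    ([(6, 1), (8, 13)], [(6, 1), (8, 13), (15, 12), (14, 10)]),
    ([(6, 1), (9, 2)], [(6, 1), (9, 2), (14, 4), (12, 15)]),
    ([(6, 1), (9, 4)], [(6, 1), (9, 4), (14, 2), (11, 8)]),
    ([(6, 1), (9, 11)], [(6, 1), (9, 11), (14, 10), (15, 12)]),
    ([(6, 1), (9, 13)], [(6, 1), (9, 13), (14, 12), (8, 11)]),
    ([(6, 1), (10, 1)], [(6, 1), (10, 1), (11, 1), (6, 15), (6, 8)]),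
    ([(6, 1), (10, 14)], [(6, 1), (10, 14), (11, 9), (2, 11)]),
    ([(6, 1), (10, 15)], [(6, 1), (10, 15), (11, 8), (4, 13)]),
    ([(6, 1), (11, 1)], [(6, 1), (11, 1), (10, 1), (6, 9), (6, 14)]),
    ([(6, 1), (11, 8)], [(6, 1), (11, 8), (10, 15), (5, 10)]),
    ([(6, 1), (11, 9)], [(6, 1), (11, 9), (10, 14), (3, 12)]),
    ([(6, 1), (12, 0)], [(6, 1), (12, 0), (13, 0), (0, 14), (0, 9)]),
    ([(6, 1), (12, 14)], [(6, 1), (12, 14), (13, 9), (2, 12)]),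
    ([(6, 1), (12, 15)], [(6, 1), (12, 15), (13, 8), (4, 10)]),
    ([(6, 1), (13, 0)], [(6, 1), (13, 0), (12, 0), (0, 8), (0, 15)]),
    ([(6, 1), (13, 8)], [(6, 1), (13, 8), (12, 15), (5, 13)]),
    ([(6, 1), (13, 9)], [(6, 1), (13, 9), (12, 14), (3, 11)]),
    ([(6, 1), (14, 2)], [(6, 1), (14, 2), (9, 4), (12, 14)]),
    ([(6, 1), (14, 4)], [(6, 1), (14, 4), (9, 2), (11, 9)]),
    ([(6, 1), (14, 10)], [(6, 1), (14, 10), (9, 11), (15, 12)]),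
    ([(6, 1), (14, 12)], [(6, 1), (14, 12), (9, 13), (8, 11)]),
    ([(6, 1), (15, 3)], [(6, 1), (15, 3), (8, 5), (10, 14)]),
    ([(6, 1), (15, 5)], [(6, 1), (15, 5), (8, 3), (13, 9)]),
    ([(6, 1), (15, 10)], [(6, 1), (15, 10), (8, 11), (9, 13)]),
    ([(6, 1), (15, 12)], [(6, 1), (15, 12), (8, 13), (14, 10)])]

/-- every new member of a table entry is the image of an earlier one -/
def validTab (gs : List M0) (tab : List (List V × List V)) : Bool :=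
  tab.all fun p => (List.range p.2.length).all fun i =>
    decide (i < p.1.length) && p.2[i]? == p.1[i]? ||
      gs.any fun s => (p.2.take i).any fun u => p.2[i]? == some (act s u)

theorem valid_one : validTab gOne tabOne = true := by decide +kernel

theorem valid_two : validTab gTwo tabTwo = true := by decide +kernel

/-- the search for invariant totally singular spaces -/
def check (tab : List (List V × List V)) (ok : List (List V)) (W : List V) : ℕ → List V → Bool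
  | 0, _ => false
  | n + 1, l =>
    match tab.find? fun p => p.1 == l with
    | none => false
    | some p =>
      (!tsing p.2) ||
        let S := span p.2
        if 16 ≤ S.length then
          ok.any fun E => E.length == 16 && E.all fun w => S.contains w
        else
          (S.length != 8 || ok.any fun E => E.length == 8 && E.all fun w => S.contains w) &&
          W.all fun w => S.contains w || check tab ok W n (p.2 ++ [w])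

/-- the candidates at the first representative -/
def wOne : List V := [(0, 1), (0, 6), (0, 7), (0, 10), (0, 11), (0, 12), (0, 13), (1, 1), (1, 6), (1, 7), (1, 10), (1, 11), (1, 12), (1, 13), (2, 0), (2, 7), (2, 11), (2, 12), (3, 0), (3, 7), (3, 11), (3, 12), (4, 0), (4, 7), (5, 0), (5, 7), (6, 0), (6, 1), (6, 6), (6, 7), (7, 0), (7, 1), (7, 6), (7, 7), (8, 0), (8, 11), (9, 0), (9, 11), (10, 0), (10, 1), (10, 10), (10, 11), (11, 0), (11, 1), (11, 10), (11, 11), (12, 0), (12, 1), (12, 12), (12, 13), (13, 0), (13, 1), (13, 12), (13, 13), (14, 0), (14, 12), (15, 0), (15, 12)]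

/-- the candidates at the second representative -/
def wTwo : List V := [(0, 1), (0, 6), (0, 7), (0, 8), (0, 14), (1, 0), (1, 1), (1, 6), (1, 7), (2, 2), (2, 11), (2, 12), (3, 4), (3, 11), (3, 12), (4, 3), (4, 10), (4, 13), (5, 5), (5, 10), (5, 13), (6, 0), (6, 6), (6, 7), (6, 9), (6, 15), (7, 0), (7, 1), (7, 6), (7, 7), (8, 3), (8, 5), (8, 11), (8, 13), (9, 2), (9, 4), (9, 11), (9, 13), (10, 1), (10, 14), (10, 15), (11, 1), (11, 8), (11, 9), (12, 0), (12, 14), (12, 15), (13, 0), (13, 8), (13, 9), (14, 2), (14, 4), (14, 10), (14, 12), (15, 3), (15, 5), (15, 10), (15, 12)]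

theorem wOne_eq : ∀ w : V, wCand rOne gOne w = true → w ∈ wOne := by decide +kernel

theorem wTwo_eq : ∀ w : V, wCand rTwo gTwo w = true → w ∈ wTwo := by decide +kernel

theorem check_one : check tabOne ([eThree, eFour] ++ otherOne.map Prod.fst) wOne 4 [rOne] = true := by
  decide +kernel

theorem check_two : check tabTwo (otherTwo.map Prod.fst) wTwo 4 [rTwo] = true := by
  decide +kernel

theorem gens_fix : (gOne.all fun s => act s rOne == rOne && Perm.sign s.1 == 1 && Perm.sign s.2 == 1) = true ∧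
    (gTwo.all fun s => act s rTwo == rTwo && Perm.sign s.1 == 1 && Perm.sign s.2 == 1) = true := by
  decide +kernel

/-- transvections fixing `r` -/
def transv (r : V) (S : List V) (m : M0) : Bool :=
  act m r == r && (S.all fun w => act m w == w || act m w == vadd w r) && m * m == 1

theorem other_one : ∀ (σ : Perm (Fin 3)) (g : Perm (Fin 6)),
    (!(act (σ, g) rOne == rOne) || otherOne.all fun p => !transv rOne p.1 (σ, g) || act (σ, g) p.2 == p.2) = true := by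
  decide +kernel

theorem other_two : ∀ (σ : Perm (Fin 3)) (g : Perm (Fin 6)),
    (!(act (σ, g) rTwo == rTwo) || otherTwo.all fun p => !transv rTwo p.1 (σ, g) || act (σ, g) p.2 == p.2) = true := by
  decide +kernel

theorem other_mem : (otherOne.all fun p => p.1.contains p.2 && p.2 != (0, 0) && p.2 != rOne) = true ∧
    (otherTwo.all fun p => p.1.contains p.2 && p.2 != (0, 0) && p.2 != rTwo) = true := by decide +kernel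

theorem sixteen_of : ∀ (σ : Perm (Fin 3)) (g : Perm (Fin 6)),
    (!(act (σ, g) rOne == rOne) || inSixteen (σ, g) ||
      !(transv rOne eThree (σ, g) || transv rOne eFour (σ, g))) = true := by
  decide +kernel

/-- the list of the group of order sixteen -/
def sixteen : List M0 := eightGroup.flatMap fun g => [(1, g), (swap 1 2, g)]

theorem sixteen_mem : ∀ (σ : Perm (Fin 3)) (g : Perm (Fin 6)),
    (!inSixteen (σ, g) || sixteen.contains (σ, g)) = true := by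
  decide +kernel

theorem sixteen_far : (sixteen.all fun m => (act m pFar == pFar || act m pFar == vadd pFar rOne) &&
    (Perm.sign m.1 != 1 || Perm.sign m.2 != 1 || (eThree.any fun w => act m w != w) || m == 1)) = true := by
  decide +kernel

/-- the triple transposition common to two neighbouring groups of order sixteen -/
def mTriple : M0 := (1, (swap 0 4 * swap 1 2 * swap 3 5))

/-- the involution of the first factor -/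
def mT : M0 := (swap 1 2, 1)

theorem sixteen_inter : (sixteen.all fun m => !inSixteen (cMove⁻¹ * m * cMove) ||
    m == 1 || m == mT || m == mTriple || m == mT * mTriple) = true := by
  decide +kernel

/-- the subgroup generated by a list of commuting involutions -/
def mspan (l : List M0) : List M0 := l.foldl (fun acc w => acc ++ acc.map (fun u => u * w)) [1]

theorem sixteen_gen : ((gOne.take 1).all fun s => sixteen.all fun m =>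
    (mspan [mT, mTriple, s * mTriple * s⁻¹, s * (s * mTriple * s⁻¹) * s⁻¹]).contains m) = true ∧
    sixteen.length = 16 ∧ sixteen.Nodup := by
  decide +kernel

theorem four_inter : ((eFour.filter fun w => eFour.contains (act cMove⁻¹ w)).toFinset).card ≤ 4 := by
  decide +kernel

theorem move_facts : act cMove rOne = rMove ∧ rMove ∈ eFour ∧ rMove ≠ rOne ∧ rMove ≠ (0, 0) ∧
    Perm.sign cMove.1 = 1 ∧ Perm.sign cMove.2 = 1 := by decide +kernel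

theorem far_facts : pFar ∉ eThree ∧ bv rOne pFar = false ∧ qv pFar = false ∧
    (eThree.all fun w => !bv pFar w) = true ∧
    act ((swap 0 1, 1) : M0) rOne = pFar ∧ act ((swap 0 1, 1) : M0) pFar = rOne ∧
    pFar ≠ rOne ∧ pFar ≠ (0, 0) := by decide +kernel

/-- an element moving each singular vector to a representative -/
def orbitWord : List (V × ℕ × Fin 6 × Fin 6 × Fin 6 × Fin 6) :=
  [((1, 0), 0, 1, 1, 0, 2), ((2, 0), 0, 1, 1, 0, 1), ((3, 0), 0, 1, 0, 0, 2), ((4, 0), 0, 1, 1, 0, 0), ((5, 0), 0, 1, 0, 0, 0), ((6, 0), 0, 1, 0, 0, 1), ((7, 0), 0, 0, 0, 2, 0), ((8, 0), 0, 1, 1, 3, 0), ((9, 0), 0, 1, 0, 2, 2), ((10, 0), 0, 1, 0, 2, 1), ((11, 0), 0, 0, 0, 0, 1), ((12, 0), 0, 1, 0, 2, 0), ((13, 0), 0, 0, 0, 0, 2), ((14, 0), 0, 0, 0, 0, 0), ((15, 0), 0, 0, 1, 0, 0), ((0, 1), 2, 1, 1, 0, 2), ((1, 1), 1, 1, 1, 0, 2), ((6, 1), 0, 3, 0, 0,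 2), ((7, 1), 0, 1, 1, 0, 2), ((10, 1), 0, 3, 0, 2, 2), ((11, 1), 0, 1, 1, 2, 2), ((12, 1), 0, 3, 0, 1, 2), ((13, 1), 0, 1, 1, 1, 2), ((0, 2), 2, 1, 1, 0, 1), ((2, 2), 1, 1, 1, 0, 1), ((5, 2), 0, 3, 0, 0, 1), ((7, 2), 0, 1, 1, 0, 1), ((9, 2), 0, 3, 0, 1, 1), ((11, 2), 0, 1, 1, 1, 1), ((12, 2), 0, 3, 0, 2, 1), ((14, 2), 0, 1, 1, 2, 1), ((0, 3), 2, 1, 0, 0, 2), ((3, 3), 1, 1, 0, 0, 2), ((4, 3), 0, 3, 1, 0, 1), ((7, 3), 0, 1, 0, 0, 2), ((8, 3), 0, 3, 1, 2, 2), ((11, 3), 0, 1, 0, 1, 1), ((12, 3), 0, 3, 4, 1, 2), ((15, 3), 0, 1, 4, 0, 1), ((0, 4), 2, 1, 1, 0, 0), ((3, 4), 0, 3, 0, 0, 0), ((4, 4), 1, 1, 1, 0, 0), ((7, 4), 0, 1, 1, 0, 0), ((9, 4), 0, 3, 0, 2, 0), ((10, 4), 0, 3, 0, 1, 0), ((13, 4), 0, 1, 1, 2, 0), ((14, 4), 0, 1, 1, 1, 0), ((0, 5), 2, 1, 0, 0, 0), ((2, 5), 0, 3, 1, 0, 2), ((5, 5), 1, 1, 0, 0, 0), ((7, 5), 0, 1, 0, 0, 0), ((8,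 5), 0, 3, 1, 2, 0), ((10, 5), 0, 3, 4, 1, 0), ((13, 5), 0, 1, 0, 1, 2), ((15, 5), 0, 1, 4, 0, 2), ((0, 6), 2, 1, 0, 0, 1), ((1, 6), 0, 3, 1, 0, 0), ((6, 6), 1, 1, 0, 0, 1), ((7, 6), 0, 1, 0, 0, 1), ((8, 6), 0, 3, 1, 2, 1), ((9, 6), 0, 3, 4, 1, 1), ((14, 6), 0, 1, 0, 1, 0), ((15, 6), 0, 1, 4, 0, 0), ((0, 7), 2, 0, 0, 2, 0), ((1, 7), 0, 0, 3, 2, 2), ((2, 7), 0, 0, 3, 2, 1), ((3, 7), 0, 0, 0, 2, 1), ((4, 7), 0, 0, 3, 2, 0), ((5, 7), 0, 0, 0, 2, 2), ((6, 7), 0, 0, 0, 2, 0), ((7, 7), 1, 0, 0, 2, 0), ((0, 8), 2, 1, 1, 3, 0), ((3, 8), 0, 3, 0, 3, 0), ((5, 8), 0, 3, 0, 3, 1), ((6, 8), 0, 3, 0, 3, 2), ((8, 8), 1, 1, 1, 3, 0), ((11, 8), 0, 1, 1, 3, 0), ((13, 8), 0, 1, 1, 3, 1), ((14, 8), 0, 1, 1, 3, 2), ((0, 9), 2, 1, 0, 2, 2), ((2, 9), 0, 3, 1, 3, 0), ((4, 9), 0, 3, 1, 1, 2), ((6, 9), 0, 3, 4, 0, 2), ((9, 9), 1, 1, 0, 2, 2), ((11, 9), 0, 1, 0,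 2, 2), ((13, 9), 0, 1, 0, 3, 1), ((15, 9), 0, 1, 4, 1, 2), ((0, 10), 2, 1, 0, 2, 1), ((1, 10), 0, 3, 1, 1, 1), ((4, 10), 0, 3, 1, 3, 2), ((5, 10), 0, 3, 4, 0, 1), ((10, 10), 1, 1, 0, 2, 1), ((11, 10), 0, 1, 0, 3, 0), ((14, 10), 0, 1, 0, 2, 1), ((15, 10), 0, 1, 4, 1, 1), ((0, 11), 2, 0, 0, 0, 1), ((1, 11), 0, 0, 3, 1, 2), ((2, 11), 0, 0, 3, 0, 1), ((3, 11), 0, 0, 0, 1, 2), ((8, 11), 0, 0, 3, 3, 2), ((9, 11), 0, 0, 0, 3, 2), ((10, 11), 0, 0, 0, 0, 1), ((11, 11), 1, 0, 0, 0, 1), ((0, 12), 2, 1, 0, 2, 0), ((1, 12), 0, 3, 1, 3, 1), ((2, 12), 0, 3, 1, 1, 0), ((3, 12), 0, 3, 4, 0, 0), ((12, 12), 1, 1, 0, 2, 0), ((13, 12), 0, 1, 0, 2, 0), ((14, 12), 0, 1, 0, 3, 2), ((15, 12), 0, 1, 4, 1, 0), ((0, 13), 2, 0, 0, 0, 2), ((1, 13), 0, 0, 3, 0, 2), ((4, 13), 0, 0, 3, 1, 0), ((5, 13), 0, 0, 0, 1, 0), ((8, 13), 0, 0, 3, 3, 0), ((9, 13), 0, 0, 0, 0,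 2), ((12, 13), 0, 0, 0, 3, 0), ((13, 13), 1, 0, 0, 0, 2), ((0, 14), 2, 0, 0, 0, 0), ((2, 14), 0, 0, 3, 1, 1), ((4, 14), 0, 0, 3, 0, 0), ((6, 14), 0, 0, 0, 1, 1), ((8, 14), 0, 0, 3, 3, 1), ((10, 14), 0, 0, 0, 3, 1), ((12, 14), 0, 0, 0, 0, 0), ((14, 14), 1, 0, 0, 0, 0), ((0, 15), 2, 0, 1, 0, 0), ((3, 15), 0, 0, 1, 1, 2), ((5, 15), 0, 0, 1, 1, 0), ((6, 15), 0, 0, 1, 1, 1), ((9, 15), 0, 0, 1, 0, 2), ((10, 15), 0, 0, 1, 0, 1), ((12, 15), 0, 0, 1, 0, 0), ((15, 15), 1, 0, 1, 0, 0)]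

/-- the element of a word -/
def wordElt (p : ℕ × Fin 6 × Fin 6 × Fin 6 × Fin 6) : M0 :=
  (mX.1 ^ p.1, tr5 p.2.1 * tr4 p.2.2.1 * (tr3 p.2.2.2.1 * tr2 p.2.2.2.2))

theorem orbit_word : (orbitWord.all fun p => act (wordElt p.2) p.1 == rOne || act (wordElt p.2) p.1 == rTwo) = true := by
  decide +kernel

theorem orbit_cover : ∀ v : V, qv v = false → v ≠ (0, 0) → (orbitWord.map Prod.fst).contains v = true := by
  decide +kernel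

end CfsgLib.ThreeSixCent
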