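import Cfsg.Agent.Lib.ThreeSixCent.Model

/-!
Elementary abelian subgroups of `Sym 3 × Sym 6`.
-/

set_option autoImplicit false
set_option linter.style.haveILetI false

namespace CfsgLib.ThreeSixCent

open Equiv (Perm)

theorem four_cycle : orderOf ((Equiv.swap 0 1 * Equiv.swap 1 2 * Equiv.swap 2 3 : Perm (Fin 6))) = 4 :=
  orderOf_eq_prime_pow (p := 2) (n := 1) (by decide +kernel) (by decide +kernel)

/-- no elementary subgroup is a Sylow subgroup -/
theorem not_full {Γ : Type*} [Group Γ] [Finite Γ] (A : Subgroup Γ) (hsq : ∀ a ∈ A, a * a = 1) (k : ℕ)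
    (hA : Nat.card A = 2 ^ k) (hk : ¬ 2 ^ (k + 1) ∣ Nat.card Γ) (c : Γ) (hc : orderOf c = 4) : False := by
  haveI : Fact (Nat.Prime 2) := ⟨Nat.prime_two⟩
  have hP : IsPGroup 2 A := IsPGroup.of_card hA
  obtain ⟨P, hAP⟩ := hP.exists_le_sylow
  have hPA : (P : Subgroup Γ) = A := by
    refine (Subgroup.eq_of_le_of_card_ge hAP ?_).symm
    obtain ⟨j, hj⟩ := IsPGroup.iff_card.mp P.isPGroup'
    have hd := Subgroup.card_subgroup_dvd_card (P : Subgroup Γ)
    rw [hj] at hd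
    rw [hj, hA]
    refine Nat.pow_le_pow_right two_pos ?_
    by_contra h
    exact hk (dvd_trans (pow_dvd_pow 2 (by omega)) hd)
  have hC : IsPGroup 2 (Subgroup.zpowers c) :=
    IsPGroup.of_card (show Nat.card (Subgroup.zpowers c) = 2 ^ 2 by rw [Nat.card_zpowers, hc]; norm_num)
  obtain ⟨R, hR⟩ := hC.exists_le_sylow
  obtain ⟨g, hg⟩ := MulAction.exists_smul_eq Γ R P
  have hmem : g * c * g⁻¹ ∈ (P : Subgroup Γ) := by
    rw [← hg, Sylow.coe_subgroup_smul, Subgroup.mem_pointwise_smul_iff_inv_smul_mem]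
    simpa [MulAut.smul_def, mul_assoc] using hR (Subgroup.mem_zpowers c)
  rw [hPA] at hmem
  have h2 := hsq _ hmem
  have : c * c = 1 := by
    calc c * c = g⁻¹ * (g * c * g⁻¹ * (g * c * g⁻¹)) * g := by group
      _ = 1 := by rw [h2]; group
  have hd := orderOf_dvd_of_pow_eq_one (x := c) (n := 2) (by rw [pow_two, this])
  rw [hc] at hd
  norm_num at hd

/-- elementary subgroups have order at most sixteen -/
theorem card_elem_le (A : Subgroup M0) (hsq : ∀ a ∈ A, a * a = 1) : Nat.card A ≤ 16 := by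
  haveI : Fact (Nat.Prime 2) := ⟨Nat.prime_two⟩
  have hP : IsPGroup 2 A := fun a => ⟨1, by
    rw [pow_one, pow_two]; exact Subtype.ext (hsq a a.2)⟩
  obtain ⟨k, hk⟩ := IsPGroup.iff_card.mp hP
  have hd := Subgroup.card_subgroup_dvd_card A
  have hcard : Nat.card M0 = 4320 := by
    rw [Nat.card_prod, Nat.card_perm, Nat.card_perm]; simp [Nat.factorial]
  rw [hcard, hk] at hd
  have hk5 : k ≤ 5 := by
    by_contra h
    have := dvd_trans (pow_dvd_pow 2 (show 6 ≤ k by omega)) hd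
    norm_num at this
  by_contra hlt
  rw [hk, not_le] at hlt
  have : k = 5 := by
    rcases Nat.lt_or_ge k 5 with h | h
    · have := Nat.pow_le_pow_right two_pos (show k ≤ 4 by omega)
      omega
    · omega
  subst this
  refine not_full A hsq 5 hk (by rw [hcard]; norm_num)
    ((1, Equiv.swap 0 1 * Equiv.swap 1 2 * Equiv.swap 2 3) : M0) ?_
  rw [Prod.orderOf_mk, orderOf_one, four_cycle]
  rfl

/-- with trivial first component at most eight -/
theorem card_elem_le_eight (A : Subgroup M0) (hsq : ∀ a ∈ A, a * a = 1) (h1 : ∀ a ∈ A, a.1 = 1) :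
    Nat.card A ≤ 8 := by
  haveI : Fact (Nat.Prime 2) := ⟨Nat.prime_two⟩
  set B := A.map (MonoidHom.snd (Perm (Fin 3)) (Perm (Fin 6)))
  have hBc : Nat.card B = Nat.card A := by
    refine (Nat.card_congr (Equiv.ofBijective
      (fun a : A => (⟨(a : M0).2, ⟨a, a.2, rfl⟩⟩ : B)) ⟨fun a b h => ?_, ?_⟩)).symm
    · exact Subtype.ext (Prod.ext ((h1 a a.2).trans (h1 b b.2).symm) (congrArg Subtype.val h))
    · rintro ⟨y, a, ha, rfl⟩
      exact ⟨⟨a, ha⟩, rfl⟩
  have hBsq : ∀ b ∈ B, b * b = 1 := by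
    rintro _ ⟨a, ha, rfl⟩
    rw [← map_mul, hsq a ha, map_one]
  have hP : IsPGroup 2 B := fun a => ⟨1, by
    rw [pow_one, pow_two]; exact Subtype.ext (hBsq a a.2)⟩
  obtain ⟨k, hk⟩ := IsPGroup.iff_card.mp hP
  have hd := Subgroup.card_subgroup_dvd_card B
  have hcard : Nat.card (Perm (Fin 6)) = 720 := by
    rw [Nat.card_perm]; simp [Nat.factorial]
  rw [hcard, hk] at hd
  rw [← hBc, hk]
  have hk4 : k ≤ 4 := by
    by_contra h
    have := dvd_trans (pow_dvd_pow 2 (show 5 ≤ k by omega)) hd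
    norm_num at this
  by_contra hlt
  rw [not_le] at hlt
  have : k = 4 := by
    rcases Nat.lt_or_ge k 4 with h | h
    · have := Nat.pow_le_pow_right two_pos (show k ≤ 3 by omega)
      omega
    · omega
  subst this
  exact not_full B hBsq 4 hk (by rw [hcard]; norm_num) _ four_cycle

theorem perm_three : (∀ σ : Perm (Fin 3), σ * σ = 1 → σ * (Equiv.swap 0 1 * Equiv.swap 1 2 * σ *
    (Equiv.swap 0 1 * Equiv.swap 1 2)⁻¹) = Equiv.swap 0 1 * Equiv.swap 1 2 * σ *
    (Equiv.swap 0 1 * Equiv.swap 1 2)⁻¹ * σ → σ = 1) ∧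
    (∀ σ τ : Perm (Fin 3), σ * σ = 1 → τ * τ = 1 → σ * τ = τ * σ → σ ≠ 1 → τ ≠ 1 → σ = τ) := by
  decide +kernel

end CfsgLib.ThreeSixCent
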