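import Cfsg.Agent.Lib.ThreeSixCent.Coord
import Cfsg.Agent.Lib.ThreeSixCent.Pair
import Cfsg.Agent.Lib.ThreeSixCent.ModelPair

/-!
In the coordinatised case no other conjugate of `z` lies in `Q`.
-/

set_option autoImplicit false
set_option linter.unusedSectionVars false
set_option linter.style.haveILetI false
set_option maxRecDepth 4000

open Cfsg CfsgLib.Extraspecial
open Equiv (Perm)

namespace CfsgLib.ThreeSixCent

theorem vadd_self (u : V) : vadd u u = (0, 0) := by
  simp only [vadd, wadd_self]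

theorem length_foldl_span (l : List V) : ∀ acc : List V,
    (l.foldl (fun acc w => acc ++ acc.map (vadd w)) acc).length = acc.length * 2 ^ l.length := by
  induction l with
  | nil => simp
  | cons a l ih =>
    intro acc
    rw [List.foldl_cons, ih, List.length_append, List.length_map, List.length_cons, pow_succ]
    ring

theorem length_span (l : List V) : (span l).length = 2 ^ l.length := by
  rw [span, length_foldl_span]; simp

theorem mem_foldl_span {P : V → Prop} (hadd : ∀ a b, P a → P b → P (vadd a b)) (l : List V) :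
    ∀ acc : List V, (∀ w ∈ acc, P w) → (∀ w ∈ l, P w) →
      ∀ w ∈ l.foldl (fun acc w => acc ++ acc.map (vadd w)) acc, P w := by
  induction l with
  | nil => exact fun acc h _ => h
  | cons a l ih =>
    intro acc h hl
    refine ih _ ?_ fun w hw => hl w (List.mem_cons_of_mem _ hw)
    intro w hw
    rcases List.mem_append.1 hw with hw | hw
    · exact h w hw
    · obtain ⟨u, hu, rfl⟩ := List.mem_map.1 hw
      exact hadd _ _ (hl a List.mem_cons_self) (h u hu)

/-- an invariant totally singular space -/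
structure Space (gs : List M0) (P : V → Prop) : Prop where
  zero : P (0, 0)
  add : ∀ a b, P a → P b → P (vadd a b)
  inv : ∀ s ∈ gs, ∀ w, P w → P (act s w)
  sing : ∀ a b, P a → P b → qv a = false ∧ bv a b = false
  card : Nat.card {w // P w} = 8 ∨ Nat.card {w // P w} = 16

theorem Space.eq_of {gs : List M0} {P : V → Prop} (hS : Space gs P) {E : List V} (hnd : E.Nodup)
    (hE : ∀ w ∈ E, P w) (hc : Nat.card {w // P w} ≤ E.length) (w : V) : P w ↔ w ∈ E := by
  classical
  refine ⟨fun hw => ?_, hE w⟩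
  have h1 : E.toFinset ⊆ Finset.univ.filter P := fun u hu => by
    simpa using hE u (List.mem_toFinset.1 hu)
  have h2 := Finset.eq_of_subset_of_card_le h1 (by
    rw [List.toFinset_card_of_nodup hnd]
    refine le_trans (le_of_eq ?_) hc
    rw [Nat.card_eq_fintype_card, Fintype.card_subtype])
  exact List.mem_toFinset.1 (h2 ▸ Finset.mem_filter.2 ⟨Finset.mem_univ _, hw⟩)

/-- the search is exhaustive -/
theorem check_sound {tab : List (List V × List V)} {ok : List (List V)} {W : List V} {gs : List M0}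
    {r : V} (hv : validTab gs tab = true) (hok : ∀ E ∈ ok, E.Nodup) {P : V → Prop} (hS : Space gs P)
    (htab : ∀ p ∈ tab, r ∈ span p.2 ∧ (0, 0) ∈ span p.2)
    (hW : ∀ w, P w → w ∈ W ∨ w = (0, 0) ∨ w = r) :
    ∀ n l, check tab ok W n l = true → (∀ w ∈ l, P w) → ∃ E ∈ ok, ∀ w, P w ↔ w ∈ E := by
  intro n
  induction n with
  | zero => intro l h; simp [check] at h
  | succ n ih =>
    intro l h hl
    unfold check at h
    split at h
    · simp at h
    next p hp =>
    have hp1 : p.1 = l := by simpa using List.find?_some hp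
    have hpt := List.mem_of_find?_eq_some hp
    have hp2 : ∀ (i : ℕ) (hi : i < p.2.length), P p.2[i] := by
      intro i
      induction i using Nat.strong_induction_on with
      | _ i ihi =>
        intro hi
        have := List.all_eq_true.1 (List.all_eq_true.1 hv p hpt) i (List.mem_range.2 hi)
        rw [Bool.or_eq_true, Bool.and_eq_true, decide_eq_true_iff, beq_iff_eq] at this
        rcases this with ⟨hi1, e⟩ | e
        · rw [List.getElem?_eq_getElem hi, List.getElem?_eq_getElem hi1, Option.some_inj] at e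
          rw [e]
          exact hl _ (hp1 ▸ List.getElem_mem hi1)
        · obtain ⟨s, hs, e⟩ := List.any_eq_true.1 e
          obtain ⟨u, hu, e⟩ := List.any_eq_true.1 e
          rw [beq_iff_eq, List.getElem?_eq_getElem hi, Option.some_inj] at e
          obtain ⟨j, hj, rfl⟩ := List.mem_iff_getElem.1 hu
          rw [List.length_take] at hj
          rw [e, List.getElem_take]
          exact hS.inv s hs _ (ihi j (by omega) (by omega))
    have hp2' : ∀ w ∈ p.2, P w := fun w hw => by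
      obtain ⟨i, hi, rfl⟩ := List.mem_iff_getElem.1 hw
      exact hp2 i hi
    have hts : tsing p.2 = true := by
      simp only [tsing, List.all_eq_true, Bool.and_eq_true, Bool.not_eq_true']
      exact fun a ha => ⟨(hS.sing a a (hp2' a ha) (hp2' a ha)).1,
        fun b hb => (hS.sing a b (hp2' a ha) (hp2' b hb)).2⟩
    have hspan : ∀ w ∈ span p.2, P w :=
      mem_foldl_span hS.add p.2 _ (fun w hw => by rw [List.mem_singleton.1 hw]; exact hS.zero) hp2'
    rw [hts, Bool.not_true, Bool.false_or] at h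
    simp only at h
    have hex : ∀ m, (ok.any fun E => E.length == m && E.all fun w => (span p.2).contains w) = true →
        Nat.card {w // P w} ≤ m → ∃ E ∈ ok, ∀ w, P w ↔ w ∈ E := by
      intro m hm hc
      obtain ⟨E, hE, e⟩ := List.any_eq_true.1 hm
      rw [Bool.and_eq_true, beq_iff_eq, List.all_eq_true] at e
      exact ⟨E, hE, hS.eq_of (hok E hE) (fun w hw => hspan w (List.contains_iff_mem.1 (e.2 w hw)))
        (e.1 ▸ hc)⟩
    split at h
    · exact hex 16 h (by rcases hS.card with e | e <;> omega)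
    next h16 =>
    rw [Bool.and_eq_true, List.all_eq_true] at h
    obtain ⟨h8, hw⟩ := h
    by_cases hall : ∀ w, P w → w ∈ span p.2
    · have hle : Nat.card {w // P w} ≤ (span p.2).length := by
        classical
        rw [Nat.card_eq_fintype_card, Fintype.card_subtype]
        refine le_trans (Finset.card_le_card (fun w hw => ?_)) (List.toFinset_card_le _)
        exact List.mem_toFinset.2 (hall w (Finset.mem_filter.1 hw).2)
      have hlen : (span p.2).length = 8 := by
        rw [length_span] at h16 hle ⊢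
        have h8' : 8 ≤ 2 ^ p.2.length := by rcases hS.card with e | e <;> omega
        have h3 : p.2.length < 4 := by
          by_contra hc
          have := Nat.pow_le_pow_right (show 0 < 2 by norm_num) (show 4 ≤ p.2.length by omega)
          omega
        have h2 : p.2.length = 3 := by
          by_contra hc
          have := Nat.pow_le_pow_right (show 0 < 2 by norm_num) (show p.2.length ≤ 2 by omega)
          omega
        rw [h2]
        norm_num
      rw [hlen] at h8 hle
      exact hex 8 (by simpa using h8) hle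
    · push Not at hall
      obtain ⟨w, hw1, hw2⟩ := hall
      rcases hW w hw1 with hwW | rfl | rfl
      · rcases Bool.or_eq_true_iff.1 (hw w hwW) with e | e
        · exact absurd (List.contains_iff_mem.1 e) hw2
        · exact ih _ e fun u hu => by
            rcases List.mem_append.1 hu with hu | hu
            · exact hp2' u hu
            · rwa [List.mem_singleton.1 hu]
      · exact absurd (htab p hpt).2 hw2
      · exact absurd (htab p hpt).1 hw2

theorem tab_facts : (tabOne.all fun p => (span p.2).contains rOne && (span p.2).contains (0, 0)) = true ∧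
    (tabTwo.all fun p => (span p.2).contains rTwo && (span p.2).contains (0, 0)) = true ∧
    (([eThree, eFour] ++ otherOne.map Prod.fst).all fun E => decide E.Nodup) = true ∧
    ((otherTwo.map Prod.fst).all fun E => decide E.Nodup) = true ∧
    eThree.length = 8 ∧ eFour.length = 16 ∧ eThree.Nodup ∧ eFour.Nodup := by decide +kernel

theorem pre_signs : Perm.sign mX.1 = 1 ∧ Perm.sign (Equiv.swap (0 : Fin 3) 1 * Equiv.swap 1 2) = 1 ∧
    ((Equiv.swap (0 : Fin 3) 1, 1) : M0) = mX * mT := by decide +kernel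

theorem word_sign (p : ℕ × Fin 6 × Fin 6 × Fin 6 × Fin 6) :
    Perm.sign (wordElt p).1 = 1 ∧ Perm.sign (wordElt p).2 = 1 := by
  obtain ⟨a, b, c, d, e⟩ := p
  constructor
  · show Perm.sign (mX.1 ^ a) = 1
    rw [map_pow, pre_signs.1, one_pow]
  · show Perm.sign (tr5 b * tr4 c * (tr3 d * tr2 e)) = 1
    simp [(tr_spec b).2.2.2.2.1, (tr_spec c).2.2.2.2.2.1, (tr_spec d).2.2.2.2.2.2.1,
      (tr_spec e).2.2.2.2.2.2.2]

variable {G : Type*} [Group G] [Finite G] {z : G} {Q : Subgroup G} {π : ↥(Cz z) →* M0} {ψ : V → T Q}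

/-- the vectors of the intersection -/
def InE (Q : Subgroup G) (ψ : V → T Q) (g : G) (w : V) : Prop := ∃ e ∈ Ep Q g, cl Q e = ψ w

namespace Pre

variable (H : Pre z Q π) (C : Coords z Q π ψ)
include H C

theorem psi_zero : ψ (0, 0) = 1 := by
  have h := C.add (0, 0) (0, 0)
  rw [vadd_self] at h
  exact mul_eq_left.1 h.symm

theorem psi_bv (u w : V) : bv u w = bT z Q (ψ u) (ψ w) := by
  rw [bv, ← C.quad, ← C.quad, ← C.quad, C.add, H.qT_mul]
  cases qT z Q (ψ u) <;> cases qT z Q (ψ w) <;> cases bT z Q (ψ u) (ψ w) <;> rfl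

theorem qv_false {e : G} (he : e ∈ Q) (h : e * e = 1) {w : V} (hw : cl Q e = ψ w) : qv w = false := by
  rw [← C.quad, ← hw, Bool.eq_false_iff, Ne, H.qT_cl he, h]
  exact fun e' => H.zne e'.symm

theorem bv_false {a b : G} (ha : a ∈ Q) (hb : b ∈ Q) {u w : V} (hu : cl Q a = ψ u) (hw : cl Q b = ψ w) :
    bv u w = false ↔ a * b = b * a := by
  rw [H.psi_bv C, ← hu, ← hw, Bool.eq_false_iff, Ne, H.bT_cl ha hb, not_not]

theorem ac_psi {c e : G} (hc : c ∈ Cz z) (he : e ∈ Q) {w : V} (hw : cl Q e = ψ w) :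
    cl Q (c * e * c⁻¹) = ψ (act (img z π c) w) := by
  rw [← H.ac_cl hc he, hw, C.equiv c hc]

omit C in
/-- the conjugate depends on the centre only -/
theorem Qc_eq {g g' : G} (h : g * z * g⁻¹ = g' * z * g'⁻¹) : Qc Q g = Qc Q g' := by
  have hc : g'⁻¹ * g ∈ Cz z := by
    rw [mem_Cz]
    calc g'⁻¹ * g * z = g'⁻¹ * (g * z * g⁻¹) * g := by group
      _ = _ := by rw [h]; group
  ext x
  rw [mem_Qc, mem_Qc]
  constructor
  · intro hx
    convert H.conjQ hc hx using 1; group
  · intro hx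
    convert H.conjQ ((Cz z).inv_mem hc) hx using 1; group

omit C in
theorem Ep_conj {c : G} (hc : c ∈ Cz z) (g : G) :
    Ep Q (c * g) = (Ep Q g).map (MulAut.conj c).toMonoidHom := by
  ext x
  constructor
  · rintro ⟨h1, h2⟩
    replace h2 := mem_Qc.1 h2
    refine ⟨c⁻¹ * x * c, ⟨by simpa using H.conjQ ((Cz z).inv_mem hc) h1, mem_Qc.2 ?_⟩,
      by simp [mul_assoc]⟩
    simpa [mul_assoc] using h2
  · rintro ⟨y, ⟨h1, h2⟩, rfl⟩
    replace h2 := mem_Qc.1 h2
    refine ⟨H.conjQ hc h1, mem_Qc.2 ?_⟩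
    simpa [mul_assoc] using h2

omit C in
theorem card_Ep_conj {c : G} (hc : c ∈ Cz z) (g : G) :
    Nat.card ↥(Ep Q (c * g)) = Nat.card ↥(Ep Q g) := by
  rw [H.Ep_conj hc, Subgroup.card_map_of_injective (MulAut.conj c).injective]

variable {g : G} (hmem : g * z * g⁻¹ ∈ Q) (hne : g * z * g⁻¹ ≠ z)
include hmem hne

theorem pair_card : Nat.card {w // InE Q ψ g w} * 2 = Nat.card ↥(Ep Q g) := by
  rw [mul_comm, ← H.card_clEp hmem hne]
  congr 1
  exact Nat.card_congr (Equiv.subtypeEquiv (Equiv.ofBijective ψ C.bij) fun w => Iff.rfl)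

theorem pair_cards : Nat.card ↥(Ep Q g) = 16 ∨ Nat.card ↥(Ep Q g) = 32 := by
  have h1 := card_elem_le (Apg Q π g) fun m hm => H.Ap_sq hmem hne hm
  have h2 := H.card_Ep_le hmem hne
  have h3 := H.card_Ap_mul hmem hne
  have h4 : 16 ≤ Nat.card ↥(Ep Q g) := by nlinarith
  interval_cases Nat.card ↥(Ep Q g) <;> omega

theorem pair_space {r : V} (hr : cl Q (g * z * g⁻¹) = ψ r) {gs : List M0}
    (hgs : (gs.all fun s => act s r == r && Perm.sign s.1 == 1 && Perm.sign s.2 == 1) = true) :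
    Space gs (InE Q ψ g) where
  zero := ⟨1, one_mem _, by rw [cl_one, H.psi_zero C]⟩
  add := by
    rintro a b ⟨e, he, hea⟩ ⟨f, hf, hfb⟩
    exact ⟨e * f, (Ep Q g).mul_mem he hf, by rw [cl_mul he.1 hf.1, C.add, hea, hfb]⟩
  inv := by
    rintro s hs w ⟨e, he, hew⟩
    have h := List.all_eq_true.1 hgs s hs
    simp only [Bool.and_eq_true, beq_iff_eq] at h
    obtain ⟨c, hc, hcs⟩ := H.lift' h.1.2 h.2
    obtain ⟨c', hc', hci, hcv⟩ := H.fix_lift hc hmem (H.cl_v_ne hmem hne)
      (by rw [hr, C.equiv c hc, hcs, h.1.1])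
    exact ⟨c' * e * c'⁻¹, H.conj_Ep hmem hne hc' hcv he, by rw [H.ac_psi C hc' he.1 hew, hci, hcs]⟩
  sing := by
    rintro a b ⟨e, he, hea⟩ ⟨f, hf, hfb⟩
    exact ⟨H.qv_false C he.1 (H.Ep_sq hmem hne he) hea,
      (H.bv_false C he.1 hf.1 hea hfb).2 (H.Ep_comm hmem hne he hf)⟩
  card := by
    have h1 := H.pair_card C hmem hne
    rcases H.pair_cards C hmem hne with e | e <;> omega

theorem pair_transv {r : V} (hr : cl Q (g * z * g⁻¹) = ψ r) {E : List V}
    (hE : ∀ w, InE Q ψ g w ↔ w ∈ E) {m : M0} (hm : m ∈ Apg Q π g) : transv r E m = true := by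
  obtain ⟨b, hb, rfl⟩ := (H.mem_Ap hmem hne).1 hm
  simp only [transv, Bool.and_eq_true, List.all_eq_true, Bool.or_eq_true, beq_iff_eq]
  refine ⟨⟨?_, fun w hw => ?_⟩, H.Ap_sq hmem hne hm⟩
  · refine C.bij.1 ?_
    rw [← C.equiv b hb.2, ← hr, H.ac_cl hb.2 hmem]
    congr 1
    exact mul_inv_eq_iff_eq_mul.2 ((H.st.conj g).z_comm hb.1)
  · obtain ⟨e, he, hew⟩ := (hE w).2 hw
    rcases H.ac_cases hmem hne hb he with h | h <;> rw [hew, C.equiv b hb.2] at h
    · exact Or.inl (C.bij.1 h)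
    · exact Or.inr (C.bij.1 (h.trans (by rw [C.add, hr])))

theorem pair_other {r : V} (hr : cl Q (g * z * g⁻¹) = ψ r) {l : List (List V × V)}
    (hl : ∀ (σ : Perm (Fin 3)) (h : Perm (Fin 6)),
      (!(act (σ, h) r == r) || l.all fun p => !transv r p.1 (σ, h) || act (σ, h) p.2 == p.2) = true)
    (hm : (l.all fun p => p.1.contains p.2 && p.2 != (0, 0) && p.2 != r) = true)
    {E : List V} (hEl : E ∈ l.map Prod.fst) (hE : ∀ w, InE Q ψ g w ↔ w ∈ E) : False := by
  obtain ⟨p, hp, rfl⟩ := List.mem_map.1 hEl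
  have hm' := List.all_eq_true.1 hm p hp
  simp only [Bool.and_eq_true, bne_iff_ne] at hm'
  obtain ⟨e, he, heu⟩ := (hE p.2).2 (List.contains_iff_mem.1 hm'.1.1)
  have key : ∀ b ∈ Bp z Q g, ac Q b (cl Q e) = cl Q e := by
    intro b hb
    have hmA := (H.mem_Ap hmem hne).2 ⟨b, hb, rfl⟩
    have ht := H.pair_transv C hmem hne hr hE hmA
    have hfix : act (img z π b) r = r := by
      have := ht; simp only [transv, Bool.and_eq_true, beq_iff_eq] at this; exact this.1.1
    have := hl (img z π b).1 (img z π b).2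
    simp only [Prod.mk.eta, Bool.or_eq_true, Bool.not_eq_true', beq_eq_false_iff_ne, hfix,
      ne_eq, not_true, false_or, List.all_eq_true] at this
    have h3 := this p hp
    simp only [ht, Bool.true_eq_false, false_or, beq_iff_eq] at h3
    rw [heu, C.equiv b hb.2, h3]
  rcases H.fixed_cases hmem hne he key with h | h <;> rw [heu] at h
  · rw [← H.psi_zero C] at h; exact hm'.1.2 (C.bij.1 h)
  · rw [hr] at h; exact hm'.2 (C.bij.1 h)

theorem pair_W {r : V} (hr : cl Q (g * z * g⁻¹) = ψ r) {gs : List M0}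
    (S : Space gs (InE Q ψ g)) (w : V) (hw : InE Q ψ g w) :
    wCand r gs w = true ∨ w = (0, 0) ∨ w = r := by
  by_cases h0 : w = (0, 0)
  · exact Or.inr (Or.inl h0)
  by_cases h1 : w = r
  · exact Or.inr (Or.inr h1)
  have hrE : InE Q ψ g r := ⟨_, H.v_Ep hmem hne, hr⟩
  refine Or.inl ?_
  simp only [wCand, Bool.and_eq_true, Bool.not_eq_true', bne_iff_ne, List.all_eq_true]
  exact ⟨⟨⟨⟨(S.sing w w hw hw).1, (S.sing r w hrE hw).2⟩, h0⟩, h1⟩,
    fun s hs => (S.sing w _ hw (S.inv s hs w hw)).2⟩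

theorem pair_one (hr : cl Q (g * z * g⁻¹) = ψ rOne) :
    ((∀ w, InE Q ψ g w ↔ w ∈ eThree) ∨ ∀ w, InE Q ψ g w ↔ w ∈ eFour) ∧
      ∀ m ∈ Apg Q π g, inSixteen m = true := by
  have S := H.pair_space C hmem hne hr gens_fix.1
  have hrE : ∀ w ∈ [rOne], InE Q ψ g w := fun w hw => by
    rw [List.mem_singleton.1 hw]; exact ⟨_, H.v_Ep hmem hne, hr⟩
  obtain ⟨E, hE, hiff⟩ := check_sound (r := rOne) valid_one
    (fun E hE => of_decide_eq_true (List.all_eq_true.1 tab_facts.2.2.1 E hE)) S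
    (fun p hp => by simpa using List.all_eq_true.1 tab_facts.1 p hp)
    (fun w hw => (H.pair_W C hmem hne hr S w hw).imp_left (wOne_eq w)) 4 [rOne] check_one hrE
  have hE' : E = eThree ∨ E = eFour := by
    rcases List.mem_append.1 hE with h | h
    · simpa using h
    · exact (H.pair_other C hmem hne hr other_one other_mem.1 h hiff).elim
  refine ⟨?_, fun m hm => ?_⟩
  · rcases hE' with rfl | rfl
    · exact Or.inl hiff
    · exact Or.inr hiff
  · have ht := H.pair_transv C hmem hne hr hiff hm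
    have hfix : act m rOne = rOne := by
      have := ht; simp only [transv, Bool.and_eq_true, beq_iff_eq] at this; exact this.1.1
    have := sixteen_of m.1 m.2
    rcases hE' with rfl | rfl <;> simpa [hfix, ht] using this

theorem pair_two (hr : cl Q (g * z * g⁻¹) = ψ rTwo) : False := by
  have S := H.pair_space C hmem hne hr gens_fix.2
  have hrE : ∀ w ∈ [rTwo], InE Q ψ g w := fun w hw => by
    rw [List.mem_singleton.1 hw]; exact ⟨_, H.v_Ep hmem hne, hr⟩
  obtain ⟨E, hE, hiff⟩ := check_sound (r := rTwo) valid_two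
    (fun E hE => of_decide_eq_true (List.all_eq_true.1 tab_facts.2.2.2.1 E hE)) S
    (fun p hp => by simpa using List.all_eq_true.1 tab_facts.2.1 p hp)
    (fun w hw => (H.pair_W C hmem hne hr S w hw).imp_left (wTwo_eq w)) 4 [rTwo] check_two hrE
  exact H.pair_other C hmem hne hr other_two other_mem.2 hE hiff

/-- every other conjugate moves to the first representative -/
theorem pair_move : ∃ c ∈ Cz z, (c * g) * z * (c * g)⁻¹ ∈ Q ∧ (c * g) * z * (c * g)⁻¹ ≠ z ∧
    cl Q ((c * g) * z * (c * g)⁻¹) = ψ rOne := by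
  obtain ⟨w, hw⟩ := C.bij.2 (cl Q (g * z * g⁻¹))
  have hw0 : w ≠ (0, 0) := fun e => H.cl_v_ne hmem hne (by rw [← hw, e, H.psi_zero C])
  have hq : qv w = false := H.qv_false C hmem (H.Ep_sq hmem hne (H.v_Ep hmem hne)) hw.symm
  obtain ⟨p, hp, hpw⟩ := List.mem_map.1 (List.contains_iff_mem.1 (orbit_cover w hq hw0))
  obtain ⟨c, hc, hci⟩ := H.lift' (word_sign p.2).1 (word_sign p.2).2
  have e1 : (c * g) * z * (c * g)⁻¹ = c * (g * z * g⁻¹) * c⁻¹ := by group
  have hmem' : (c * g) * z * (c * g)⁻¹ ∈ Q := e1 ▸ H.conjQ hc hmem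
  have hne' : (c * g) * z * (c * g)⁻¹ ≠ z := fun e => hne (by
    rw [e1] at e
    calc g * z * g⁻¹ = c⁻¹ * (c * (g * z * g⁻¹) * c⁻¹) * c := by group
      _ = c⁻¹ * (z * c) := by rw [e]; group
      _ = z := by rw [← mem_Cz.1 hc]; group)
  refine ⟨c, hc, hmem', hne', ?_⟩
  have hcl : cl Q ((c * g) * z * (c * g)⁻¹) = ψ (act (wordElt p.2) p.1) := by
    rw [e1, H.ac_psi C hc hmem hw.symm, hci, hpw]
  have ho := List.all_eq_true.1 orbit_word p hp
  simp only [Bool.or_eq_true, beq_iff_eq] at ho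
  rcases ho with e | e <;> rw [e] at hcl
  · exact hcl
  · exact (H.pair_two C hmem' hne' hcl).elim

end Pre

namespace Pre

variable (H : Pre z Q π) (C : Coords z Q π ψ)
include H C

theorem pair_card_const {g g' : G} (hmem : g * z * g⁻¹ ∈ Q) (hne : g * z * g⁻¹ ≠ z)
    (hmem' : g' * z * g'⁻¹ ∈ Q) (hne' : g' * z * g'⁻¹ ≠ z) :
    Nat.card ↥(Ep Q g) = Nat.card ↥(Ep Q g') := by
  obtain ⟨c, hc, hm, hn, hr⟩ := H.pair_move C hmem hne
  obtain ⟨c', hc', hm', hn', hr'⟩ := H.pair_move C hmem' hne'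
  rw [← H.card_Ep_conj hc, ← H.card_Ep_conj hc' (g := g')]
  rcases (H.cl_eq_iff hm hm').1 (hr.trans hr'.symm) with e | e
  · rw [Ep, Ep, H.Qc_eq e]
  · have h1 : cl Q (c' * g' * z * (c' * g')⁻¹) ≠ 1 := H.cl_v_ne hm' hn'
    obtain ⟨q, hq, hqv⟩ := H.st.exists_move hm' (fun h => h1 (by rw [h, cl_one]))
      (fun h => h1 (by rw [h, H.cl_z]))
    have e2 : c * g * z * (c * g)⁻¹ = (q * (c' * g')) * z * (q * (c' * g'))⁻¹ := by
      rw [e, ← hqv]; group
    rw [Ep, H.Qc_eq e2, ← Ep, H.card_Ep_conj (H.QC hq)]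

theorem no_four {g : G} (hmem : g * z * g⁻¹ ∈ Q) (hne : g * z * g⁻¹ ≠ z)
    (hr : cl Q (g * z * g⁻¹) = ψ rOne) (hE : ∀ w, InE Q ψ g w ↔ w ∈ eFour) : False := by
  classical
  obtain ⟨f1, f2, f3, f4, f5, f6⟩ := move_facts
  obtain ⟨c, hc, hci⟩ := H.lift' f5 f6
  set v := g * z * g⁻¹ with hv
  have hS := (H.pair_one C hmem hne hr).2
  have hcard : Nat.card ↥(Ep Q g) = 32 := by
    have h := H.pair_card C hmem hne
    have h2 : Nat.card {w // InE Q ψ g w} = 16 := by
      rw [Nat.card_congr (Equiv.subtypeEquivRight hE), Nat.card_eq_fintype_card]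
      decide +kernel
    omega
  have hAp : Nat.card ↥(Apg Q π g) = 8 := by
    have := H.card_Ap_mul hmem hne; rw [hcard] at this; omega
  set w := c * v * c⁻¹ with hwd
  have hwQ : w ∈ Q := H.conjQ hc hmem
  have hclw : cl Q w = ψ rMove := by rw [hwd, H.ac_psi C hc hmem hr, hci, f1]
  have hwE : w ∈ Ep Q g := by
    obtain ⟨e, he, hew⟩ := (hE rMove).2 f2
    rcases (H.cl_eq_iff hwQ he.1).1 (hclw.trans hew.symm) with e1 | e1 <;> rw [e1]
    · exact he
    · exact (Ep Q g).mul_mem (H.z_Ep hmem hne) he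
  have hwz : w ≠ z := fun e => f4 (C.bij.1 (by rw [← hclw, e, H.cl_z, H.psi_zero C]))
  have hwv : w ≠ v := fun e => f3 (C.bij.1 (by rw [← hclw, e, hr]))
  have hw' : (c * g) * z * (c * g)⁻¹ = w := by rw [hwd, hv]; group
  have hmem' : (c * g) * z * (c * g)⁻¹ ∈ Q := hw' ▸ hwQ
  have hne' : (c * g) * z * (c * g)⁻¹ ≠ z := hw' ▸ hwz
  set k := g⁻¹ * (c * g) with hk
  have hkz : k * z * k⁻¹ = g⁻¹ * w * g := by rw [hk, ← hw']; group
  have hkm : k * z * k⁻¹ ∈ Q := by rw [hkz]; exact mem_Qc.1 hwE.2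
  have hkn : k * z * k⁻¹ ≠ z := fun e => hwv (by
    rw [hkz] at e
    calc w = g * (g⁻¹ * w * g) * g⁻¹ := by group
      _ = v := by rw [e, hv])
  set D := Qc Q g ⊓ Qc Q (c * g) with hD
  have hDmap : D = (Ep Q k).map (MulAut.conj g).toMonoidHom := by
    ext x
    constructor
    · rintro ⟨h1, h2⟩
      replace h1 := mem_Qc.1 h1
      replace h2 := mem_Qc.1 h2
      exact ⟨g⁻¹ * x * g, ⟨h1, mem_Qc.2 (by simpa [hk, mul_assoc] using h2)⟩, by simp [mul_assoc]⟩
    · rintro ⟨y, ⟨h1, h2⟩, rfl⟩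
      replace h2 := mem_Qc.1 h2
      exact ⟨mem_Qc.2 (by simpa [mul_assoc] using h1), mem_Qc.2 (by simpa [hk, mul_assoc] using h2)⟩
  have hDcard : Nat.card D = 32 := by
    rw [hDmap, Subgroup.card_map_of_injective (MulAut.conj g).injective,
      H.pair_card_const C hkm hkn hmem hne, hcard]
  have hDC : D ≤ Cz z := by
    intro x hx
    rcases (H.st.conj g).comm_cases hx.1 (H.zQc hmem hne) with e | e
    · exact mem_Cz.2 (mul_inv_eq_iff_eq_mul.1 e)
    · rcases (H.st.conj (c * g)).comm_cases hx.2 (H.zQc hmem' hne') with e' | e'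
      · exact mem_Cz.2 (mul_inv_eq_iff_eq_mul.1 e')
      · exact absurd (mul_right_cancel (e'.symm.trans e)) (hw' ▸ hwv)
  let f : ↥D →* M0 := π.comp (Subgroup.inclusion hDC)
  have himg : ∀ x : D, f x = img z π x := fun x => by
    rw [img, dif_pos (hDC x.2)]; rfl
  -- the kernel is small
  have hker : Nat.card f.ker ≤ 8 := by
    have hmemE : ∀ x : f.ker, ((x : ↥D) : G) ∈ Ep Q g ∧
        c⁻¹ * ((x : ↥D) : G) * c ∈ Ep Q g := by
      intro x
      have hxQ : ((x : ↥D) : G) ∈ Q := by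
        rw [← H.img_eq_one (hDC x.1.2), ← himg]; exact x.2
      have h2 := mem_Qc.1 x.1.2.2
      exact ⟨⟨hxQ, x.1.2.1⟩, by simpa using H.conjQ ((Cz z).inv_mem hc) hxQ,
        mem_Qc.2 (by simpa [mul_assoc] using h2)⟩
    let F : Finset V := (eFour.filter fun u => eFour.contains (act cMove⁻¹ u)).toFinset
    have hcl : ∀ x : f.ker, ∃ u : F, cl Q ((x : ↥D) : G) = ψ u.1 := by
      intro x
      obtain ⟨u, hu⟩ := C.bij.2 (cl Q ((x : ↥D) : G))
      refine ⟨⟨u, ?_⟩, hu.symm⟩
      obtain ⟨h1, h2⟩ := hmemE x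
      have h3 : InE Q ψ g u := ⟨_, h1, hu.symm⟩
      have h4 : InE Q ψ g (act cMove⁻¹ u) := ⟨_, h2, by
        have := H.ac_psi C ((Cz z).inv_mem hc) h1.1 hu.symm
        rw [inv_inv, H.img_inv hc, hci] at this
        exact this⟩
      rw [List.mem_toFinset, List.mem_filter]
      exact ⟨(hE _).1 h3, List.contains_iff_mem.2 ((hE _).1 h4)⟩
    choose u hu using hcl
    refine le_trans (Nat.card_le_card_of_injective
      (β := F × Bool) (fun x => (u x, decide (((x : ↥D) : G) = rep Q (ψ (u x).1)))) ?_) ?_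
    · intro x y h
      simp only [Prod.mk.injEq, decide_eq_decide] at h
      obtain ⟨h1, h2⟩ := h
      refine Subtype.ext (Subtype.ext ?_)
      have hx := hu x
      have hy := hu y
      rw [← h1] at hy h2
      set t := ψ (u x).1
      have ex := (H.cl_eq_iff (hmemE x).1.1 (rep_mem Q t)).1 (by rw [cl_rep]; exact hx)
      have ey := (H.cl_eq_iff (hmemE y).1.1 (rep_mem Q t)).1 (by rw [cl_rep]; exact hy)
      by_cases hxt : ((x : ↥D) : G) = rep Q t
      · rw [hxt, h2.1 hxt]
      · rw [ex.resolve_left hxt, ey.resolve_left fun e => hxt (h2.2 e)]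
    · rw [Nat.card_prod, Nat.card_eq_fintype_card, Fintype.card_coe, Nat.card_eq_fintype_card,
        Fintype.card_bool]
      have h4 : F.card ≤ 4 := four_inter
      show F.card * 2 ≤ 8
      omega
  have hr4 : 4 ≤ Nat.card f.range := by
    have h := f.ker.card_mul_index
    rw [Subgroup.index_ker, hDcard] at h
    nlinarith
  -- and the image lies in a group of order four
  have hrange : ∀ m ∈ f.range, m ∈ Apg Q π g ∧
      (m = 1 ∨ m = mT ∨ m = mTriple ∨ m = mT * mTriple) := by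
    rintro _ ⟨x, rfl⟩
    rw [himg]
    have hA : img z π x ∈ Apg Q π g := (H.mem_Ap hmem hne).2 ⟨x, ⟨x.2.1, hDC x.2⟩, rfl⟩
    refine ⟨hA, ?_⟩
    have hB : c⁻¹ * (x : G) * c ∈ Bp z Q g :=
      ⟨mem_Qc.2 (by simpa [mul_assoc] using mem_Qc.1 x.2.2),
        (Cz z).mul_mem ((Cz z).mul_mem ((Cz z).inv_mem hc) (hDC x.2)) hc⟩
    have hA2 : cMove⁻¹ * img z π x * cMove ∈ Apg Q π g := (H.mem_Ap hmem hne).2 ⟨_, hB, by
      rw [H.img_mul ((Cz z).mul_mem ((Cz z).inv_mem hc) (hDC x.2)) hc,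
        H.img_mul ((Cz z).inv_mem hc) (hDC x.2), H.img_inv hc, hci]⟩
    have h1 : img z π x ∈ sixteen := by
      have := sixteen_mem (img z π x).1 (img z π x).2
      simpa [hS _ hA] using this
    have h2 := List.all_eq_true.1 sixteen_inter _ h1
    simpa [hS _ hA2, or_assoc] using h2
  have hall : ({1, mT, mTriple, mT * mTriple} : Finset M0) ⊆
      Finset.univ.filter (· ∈ Apg Q π g) := by
    classical
    have h1 : Finset.univ.filter (· ∈ f.range) ⊆ ({1, mT, mTriple, mT * mTriple} : Finset M0) :=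
      fun m hm => by simpa using (hrange m (Finset.mem_filter.1 hm).2).2
    have h2 := Finset.eq_of_subset_of_card_le h1 (by
      refine le_trans (le_trans Finset.card_le_four hr4) ?_
      rw [Nat.card_eq_fintype_card, Fintype.card_subtype])
    rw [← h2]
    exact fun m hm => Finset.mem_filter.2 ⟨Finset.mem_univ _, (hrange m (Finset.mem_filter.1 hm).2).1⟩
  have hT : mT ∈ Apg Q π g := (Finset.mem_filter.1 (hall (by simp))).2
  have hT3 : mTriple ∈ Apg Q π g := (Finset.mem_filter.1 (hall (by simp))).2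
  obtain ⟨s, hs, hs1⟩ : ∃ s : M0, s ∈ gOne ∧ gOne.take 1 = [s] := ⟨_, List.mem_cons_self, rfl⟩
  have hinv : ∀ m ∈ Apg Q π g, s * m * s⁻¹ ∈ Apg Q π g := by
    intro m hm
    have h := List.all_eq_true.1 gens_fix.1 s hs
    simp only [Bool.and_eq_true, beq_iff_eq] at h
    obtain ⟨d, hd, hds⟩ := H.lift' h.1.2 h.2
    obtain ⟨d', hd', hdi, hdv⟩ := H.fix_lift hd hmem (H.cl_v_ne hmem hne)
      (by rw [hr, C.equiv d hd, hds, h.1.1])
    have := H.conj_Ap hmem hne hd' hdv hm
    rwa [hdi, hds] at this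
  have hsub : ∀ m ∈ sixteen, m ∈ Apg Q π g := by
    intro m hm
    have hg := List.all_eq_true.1 sixteen_gen.1 s (by rw [hs1]; exact List.mem_singleton_self s)
    have := List.contains_iff_mem.1 (List.all_eq_true.1 hg m hm)
    have key : ∀ (l acc : List M0), (∀ a ∈ acc, a ∈ Apg Q π g) → (∀ a ∈ l, a ∈ Apg Q π g) →
        ∀ a ∈ l.foldl (fun acc w => acc ++ acc.map (fun u => u * w)) acc, a ∈ Apg Q π g := by
      intro l
      induction l with
      | nil => exact fun acc h _ => h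
      | cons b l ih =>
        intro acc h hl
        refine ih _ ?_ fun a ha => hl a (List.mem_cons_of_mem _ ha)
        intro a ha
        rcases List.mem_append.1 ha with ha | ha
        · exact h a ha
        · obtain ⟨u, hu, rfl⟩ := List.mem_map.1 ha
          exact (Apg Q π g).mul_mem (h u hu) (hl b List.mem_cons_self)
    refine key _ [1] (fun a ha => by rw [List.mem_singleton.1 ha]; exact one_mem _) ?_ m this
    have h3 := hinv _ hT3
    simpa [hT, hT3, h3] using hinv _ h3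
  have : 16 ≤ Nat.card ↥(Apg Q π g) := by
    classical
    rw [Nat.card_eq_fintype_card, ← Fintype.card_coe sixteen.toFinset |>.trans
      ((List.toFinset_card_of_nodup sixteen_gen.2.2).trans sixteen_gen.2.1)]
    exact Fintype.card_le_of_injective (fun m => ⟨m.1, hsub _ (List.mem_toFinset.1 m.2)⟩)
      fun a b h => Subtype.ext (congrArg Subtype.val h :)
  omega

theorem no_three {g : G} (hmem : g * z * g⁻¹ ∈ Q) (hne : g * z * g⁻¹ ≠ z)
    (hr : cl Q (g * z * g⁻¹) = ψ rOne) (hv' : g⁻¹ * z * g = g * z * g⁻¹)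
    (hE : ∀ w, InE Q ψ g w ↔ w ∈ eThree) : False := by
  classical
  obtain ⟨g1, g2, g3, g4, g5, g6, g7, g8⟩ := far_facts
  set v := g * z * g⁻¹ with hv
  have hS := (H.pair_one C hmem hne hr).2
  have hcard : Nat.card ↥(Ep Q g) = 16 := by
    have h := H.pair_card C hmem hne
    have h2 : Nat.card {w // InE Q ψ g w} = 8 := by
      rw [Nat.card_congr (Equiv.subtypeEquivRight hE), Nat.card_eq_fintype_card]
      decide +kernel
    omega
  have hAp : Nat.card ↥(Apg Q π g) = 16 := by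
    have := H.card_Ap_mul hmem hne; rw [hcard] at this; omega
  have hsix : ∀ m ∈ Apg Q π g, m ∈ sixteen := fun m hm => by
    have := sixteen_mem m.1 m.2
    simpa [hS m hm] using this
  have hT : mT ∈ Apg Q π g := by
    classical
    have h1 : Finset.univ.filter (· ∈ Apg Q π g) ⊆ sixteen.toFinset := fun m hm =>
      List.mem_toFinset.2 (hsix m (Finset.mem_filter.1 hm).2)
    have h2 := Finset.eq_of_subset_of_card_le h1 (by
      rw [List.toFinset_card_of_nodup sixteen_gen.2.2, sixteen_gen.2.1, ← hAp,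
        Nat.card_eq_fintype_card, Fintype.card_subtype])
    have h3 : mT ∈ sixteen.toFinset := by decide +kernel
    rw [← h2] at h3
    exact (Finset.mem_filter.1 h3).2
  obtain ⟨c, hc, hci⟩ : ∃ c ∈ Cz z, img z π c = ((Equiv.swap 0 1, 1) : M0) := by
    refine H.lift ?_
    rw [pre_signs.2.2]
    refine π.range.mul_mem (H.big _ pre_signs.1 (by simp [mX])) ?_
    obtain ⟨b, hb, hbT⟩ := (H.mem_Ap hmem hne).1 hT
    exact hbT ▸ H.img_mem_range b
  set y := c * v * c⁻¹ with hy
  have hyQ : y ∈ Q := H.conjQ hc hmem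
  have hcly : cl Q y = ψ pFar := by rw [hy, H.ac_psi C hc hmem hr, hci, g5]
  have hyv : y * v = v * y := by
    refine (H.bv_false C hmem hyQ hr hcly).1 g2 |>.symm
  have hcy : c * y * c⁻¹ = v ∨ c * y * c⁻¹ = z * v := by
    rw [← H.cl_eq_iff (H.conjQ hc hyQ) hmem, H.ac_psi C hc hyQ hcly, hci, g6, hr]
  -- the stabiliser of the far vector in the conjugate is not abelian
  set S := Bp z Q g ⊓ Subgroup.centralizer ({y} : Set G) with hSd
  have hS64 : 64 ≤ Nat.card S := by
    have horb : ∀ b ∈ Bp z Q g, b * y * b⁻¹ ∈ ({y, z * y, y * v, z * (y * v)} : Set G) := by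
      intro b hb
      have hm := (H.mem_Ap hmem hne).2 ⟨b, hb, rfl⟩
      have h2 := List.all_eq_true.1 sixteen_far _ (hsix _ hm)
      simp only [Bool.and_eq_true, Bool.or_eq_true, beq_iff_eq] at h2
      have hcl2 : cl Q (b * y * b⁻¹) = ψ (act (img z π b) pFar) := H.ac_psi C hb.2 hyQ hcly
      rcases h2.1 with e | e <;> rw [e] at hcl2
      · rw [← hcly, H.cl_eq_iff (H.conjQ hb.2 hyQ) hyQ] at hcl2
        rcases hcl2 with e1 | e1 <;> rw [e1] <;> simp
      · rw [C.add, ← hcly, ← hr, ← cl_mul hyQ hmem,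
          H.cl_eq_iff (H.conjQ hb.2 hyQ) (Q.mul_mem hyQ hmem)] at hcl2
        rcases hcl2 with e1 | e1 <;> rw [e1] <;> simp
    have hindex : (S.subgroupOf (Bp z Q g)).index ≤ 4 := by
      rw [Subgroup.index]
      refine le_trans (Nat.card_le_card_of_injective
        (β := ↥({y, z * y, y * v, z * (y * v)} : Set G))
        (Quotient.lift (fun b : ↥(Bp z Q g) => ⟨(b : G) * y * (b : G)⁻¹, horb b b.2⟩) ?_) ?_) ?_
      · intro a b hab
        rw [← Quotient.eq_iff_equiv, Quotient.eq, QuotientGroup.leftRel_apply] at hab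
        obtain ⟨-, h0⟩ := hab
        have h : (a : G)⁻¹ * b * y = y * ((a : G)⁻¹ * b) :=
          Subgroup.mem_centralizer_singleton_iff.1 h0
        refine Subtype.ext ?_
        show (a : G) * y * (a : G)⁻¹ = (b : G) * y * (b : G)⁻¹
        calc (a : G) * y * (a : G)⁻¹ = (a : G) * (y * ((a : G)⁻¹ * b)) * (b : G)⁻¹ := by group
          _ = _ := by rw [← h]; group
      · intro p q hpq
        induction p using Quotient.inductionOn
        induction q using Quotient.inductionOn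
        rename_i a b
        simp only [Quotient.lift_mk, Subtype.mk.injEq] at hpq
        refine Quotient.sound ?_
        rw [← Quotient.eq_iff_equiv, Quotient.eq, QuotientGroup.leftRel_apply, Subgroup.mem_subgroupOf]
        refine ⟨(a⁻¹ * b).2, Subgroup.mem_centralizer_singleton_iff.2 ?_⟩
        show (a : G)⁻¹ * b * y = y * ((a : G)⁻¹ * b)
        calc (a : G)⁻¹ * b * y = (a : G)⁻¹ * ((b : G) * y * (b : G)⁻¹) * b := by group
          _ = _ := by rw [← hpq]; group
      · rw [Nat.card_coe_set_eq]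
        refine le_trans (Set.ncard_insert_le _ _) (Nat.succ_le_succ ?_)
        refine le_trans (Set.ncard_insert_le _ _) (Nat.succ_le_succ ?_)
        exact le_trans (Set.ncard_insert_le _ _) (by simp)
    have h := (S.subgroupOf (Bp z Q g)).card_mul_index
    rw [Nat.card_congr (Subgroup.subgroupOfEquivOfLe (inf_le_left : S ≤ Bp z Q g)).toEquiv,
      H.card_Bp hmem hne] at h
    nlinarith
  obtain ⟨a, ha, b, hb, hab⟩ : ∃ a ∈ S, ∃ b ∈ S, a * b ≠ b * a := by
    by_contra h
    push Not at h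
    have hle : S.map (MulAut.conj g⁻¹).toMonoidHom ≤ Q := by
      rintro _ ⟨x, hx, rfl⟩
      simpa [mul_assoc] using mem_Qc.1 hx.1.1
    have := H.card_abelian_le hle (by
      rintro _ ⟨p, hp, rfl⟩ _ ⟨q, hq, rfl⟩
      rw [← map_mul, ← map_mul, h p hp q hq])
    rw [Subgroup.card_map_of_injective (MulAut.conj g⁻¹).injective] at this
    omega
  have habv : a * b * a⁻¹ = v * b :=
    ((H.st.conj g).comm_cases ha.1.1 hb.1.1).resolve_left fun e => hab (mul_inv_eq_iff_eq_mul.1 e)
  -- transport by the swap and by the conjugating element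
  have hQc' : Qc Q g⁻¹ = Qc Q g := H.Qc_eq (by rw [inv_inv]; exact hv')
  have hgv : g⁻¹ * v * g = z := by rw [hv]; group
  have comm_v : ∀ x ∈ S, (g⁻¹ * (c * x * c⁻¹) * g) ∈ Cz z := by
    intro x hx
    have hxy : x * y = y * x := Subgroup.mem_centralizer_singleton_iff.1 hx.2
    have hx' : c * x * c⁻¹ ∈ Cz z := (Cz z).mul_mem ((Cz z).mul_mem hc hx.1.2) ((Cz z).inv_mem hc)
    have hvx : Commute (c * x * c⁻¹) v := by
      have h1 : Commute (c * x * c⁻¹) (c * y * c⁻¹) := (Commute.conj_iff c).2 hxy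
      rcases hcy with e | e <;> rw [e] at h1
      · exact h1
      · have := (show Commute (c * x * c⁻¹) z from mem_Cz.1 hx').mul_right h1
        rwa [← mul_assoc, H.z2, one_mul] at this
    rw [mem_Cz]
    calc g⁻¹ * (c * x * c⁻¹) * g * z = g⁻¹ * ((c * x * c⁻¹) * v) * g := by rw [hv]; group
      _ = _ := by rw [hvx.eq, hv]; group
  set a' := g⁻¹ * (c * a * c⁻¹) * g with ha'
  set b' := g⁻¹ * (c * b * c⁻¹) * g with hb'
  set β := g⁻¹ * y * g with hβ
  have hβC : β ∈ Cz z := by
    rw [mem_Cz]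
    calc β * z = g⁻¹ * (y * v) * g := by rw [hβ, hv]; group
      _ = _ := by rw [hyv, hβ, hv]; group
  have hcomm : a' * b' * a'⁻¹ = β * b' := by
    rw [ha', hb', hβ, hy]
    calc _ = g⁻¹ * (c * (a * b * a⁻¹) * c⁻¹) * g := by group
      _ = _ := by rw [habv]; group
  have himg : img z π a' * img z π b' * (img z π a')⁻¹ = img z π β * img z π b' := by
    rw [← H.img_conj (comm_v a ha) (comm_v b hb), ← H.img_mul hβC (comm_v b hb), hcomm]
  have hs1 : Perm.sign (img z π β).1 = 1 := by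
    have := congrArg (fun m : M0 => Perm.sign m.1) himg
    simp only [Prod.fst_mul, Prod.fst_inv, map_mul, map_inv, mul_inv_cancel_comm] at this
    exact mul_eq_right.mp this.symm
  have hs2 : Perm.sign (img z π β).2 = 1 := by
    have := congrArg (fun m : M0 => Perm.sign m.2) himg
    simp only [Prod.snd_mul, Prod.snd_inv, map_mul, map_inv, mul_inv_cancel_comm] at this
    exact mul_eq_right.mp this.symm
  have hβQc : β ∈ Qc Q g := by
    rw [← hQc', mem_Qc, hβ]
    simpa [mul_assoc] using hyQ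
  have hβA : img z π β ∈ Apg Q π g := (H.mem_Ap hmem hne).2 ⟨β, ⟨hβQc, hβC⟩, rfl⟩
  have hfix : ∀ w ∈ eThree, act (img z π β) w = w := by
    intro w hw
    obtain ⟨e, he, hew⟩ := (hE w).2 hw
    have he' : g * e * g⁻¹ ∈ Ep Q g := by
      refine ⟨?_, mem_Qc.2 (by simpa [mul_assoc] using he.1)⟩
      have := mem_Qc.1 (hQc' ▸ he.2)
      simpa [mul_assoc] using this
    obtain ⟨u, hu⟩ := C.bij.2 (cl Q (g * e * g⁻¹))
    have h2 : Commute y (g * e * g⁻¹) := (H.bv_false C hyQ he'.1 hcly hu.symm).1 (by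
      have := List.all_eq_true.1 g4 u ((hE u).1 ⟨_, he', hu.symm⟩)
      simpa using this)
    have h3 : β * e * β⁻¹ = e := by
      rw [mul_inv_eq_iff_eq_mul, hβ]
      calc g⁻¹ * y * g * e = g⁻¹ * (y * (g * e * g⁻¹)) * g := by group
        _ = _ := by rw [h2.eq]; group
    refine C.bij.1 ?_
    rw [← H.ac_psi C hβC he.1 hew, h3, hew]
  have h1 : img z π β = 1 := by
    have h2 := List.all_eq_true.1 sixteen_far _ (hsix _ hβA)
    simp only [Bool.and_eq_true, Bool.or_eq_true, bne_iff_ne, beq_iff_eq, List.any_eq_true,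
      hs1, hs2, ne_eq, not_true, false_or] at h2
    rcases h2.2 with ⟨w, hw, hw'⟩ | h
    · exact absurd (hfix w hw) hw'
    · exact h
  have hβQ : β ∈ Q := (H.img_eq_one hβC).1 h1
  have hyE : y ∈ Ep Q g := ⟨hyQ, mem_Qc.2 hβQ⟩
  exact g1 ((hE pFar).1 ⟨y, hyE, hcly⟩)

/-- there is no other conjugate in `Q` -/
theorem coords_no_pair {g : G} (hmem : g * z * g⁻¹ ∈ Q) (hne : g * z * g⁻¹ ≠ z) : False := by
  obtain ⟨c, hc, hm1, hn1, hr1⟩ := H.pair_move C hmem hne
  set g1 := c * g with hg1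
  have hzc := mem_Qc.1 (H.zQc hm1 hn1)
  have hm2 : g1⁻¹ * z * g1⁻¹⁻¹ ∈ Q := by rw [inv_inv]; exact hzc
  have hn2 : g1⁻¹ * z * g1⁻¹⁻¹ ≠ z := fun e => hn1 (by
    rw [inv_inv] at e
    calc g1 * z * g1⁻¹ = g1 * (g1⁻¹ * z * g1) * g1⁻¹ := by rw [e]
      _ = z := by group)
  obtain ⟨d, hd, hm3, hn3, hr3⟩ := H.pair_move C hm2 hn2
  have h1 := H.cl_v_ne hm1 hn1
  obtain ⟨d', hd', e⟩ : ∃ d' ∈ Cz z, d' * (g1⁻¹ * z * g1) * d'⁻¹ = g1 * z * g1⁻¹ := by
    have e0 : d * g1⁻¹ * z * (d * g1⁻¹)⁻¹ = d * (g1⁻¹ * z * g1) * d⁻¹ := by group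
    rcases (H.cl_eq_iff hm3 hm1).1 (hr3.trans hr1.symm) with e | e <;> rw [e0] at e
    · exact ⟨d, hd, e⟩
    · obtain ⟨q, hq, hqv⟩ := H.st.exists_move hm1 (fun h => h1 (by rw [h, cl_one]))
        (fun h => h1 (by rw [h, H.cl_z]))
      refine ⟨q * d, (Cz z).mul_mem (H.QC hq) hd, ?_⟩
      calc q * d * (g1⁻¹ * z * g1) * (q * d)⁻¹ = q * (d * (g1⁻¹ * z * g1) * d⁻¹) * q⁻¹ := by group
        _ = (q * z) * (g1 * z * g1⁻¹) * q⁻¹ := by rw [e]; group
        _ = z * (q * (g1 * z * g1⁻¹) * q⁻¹) := by rw [H.st.z_comm hq]; group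
        _ = _ := by rw [hqv, ← mul_assoc, H.z2, one_mul]
  set k := g1 * d'⁻¹ with hk
  have hkz : k * z * k⁻¹ = g1 * z * g1⁻¹ := by
    calc k * z * k⁻¹ = g1 * (d'⁻¹ * z) * d' * g1⁻¹ := by rw [hk]; group
      _ = _ := by rw [show d'⁻¹ * z = z * d'⁻¹ from mem_Cz.1 ((Cz z).inv_mem hd')]; group
  have hkm : k * z * k⁻¹ ∈ Q := hkz ▸ hm1
  have hkn : k * z * k⁻¹ ≠ z := hkz ▸ hn1
  have hkr : cl Q (k * z * k⁻¹) = ψ rOne := by rw [hkz]; exact hr1
  rcases (H.pair_one C hkm hkn hkr).1 with h | h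
  · refine H.no_three C hkm hkn hkr ?_ h
    rw [hkz, ← e, hk]; group
  · exact H.no_four C hkm hkn hkr h

end Pre

end CfsgLib.ThreeSixCent
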