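import Mathlib

/-!
The module `2 ⊗ 4` of `Sym 3 × Sym 6` over two elements, in coordinates.
-/

set_option autoImplicit false

open Equiv

namespace CfsgLib.ThreeSixCent

/-- The acting group. -/
abbrev M0 : Type := Equiv.Perm (Fin 3) × Equiv.Perm (Fin 6)

/-- The natural module of the symmetric group of degree six, as the numbers below sixteen. -/
abbrev W : Type := Fin 16

/-- the tensor product with the natural module of the symmetric group of degree three -/
abbrev V : Type := W × W

/-- addition -/
def wadd (u w : W) : W := Fin.ofNat 16 (u.1 ^^^ w.1)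

/-- addition -/
def vadd (u v : V) : V := (wadd u.1 v.1, wadd u.2 v.2)

/-- a multiple -/
def sel (c : Bool) (u : W) : W := bif c then u else 0

/-- the class of a point -/
def pv (j : Fin 6) : W :=
  match j.1 with
  | 0 => 1
  | 1 => 2
  | 2 => 4
  | 3 => 8
  | 4 => 0
  | _ => 15

/-- the class of a pair of points -/
def edge (i j : Fin 6) : W := wadd (pv i) (pv j)

/-- The symmetric group of degree six on its module of dimension four. -/
def actW (g : Equiv.Perm (Fin 6)) (w : W) : W :=
  wadd (wadd (sel (w.1.testBit 0) (edge (g 0) (g 4))) (sel (w.1.testBit 1) (edge (g 1) (g 4))))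
    (wadd (sel (w.1.testBit 2) (edge (g 2) (g 4))) (sel (w.1.testBit 3) (edge (g 3) (g 4))))

/-- The symmetric group of degree three on pairs. -/
def mix (p : Equiv.Perm (Fin 3)) (v : V) : V :=
  let i := (p 0).1 + 1
  let j := (p 1).1 + 1
  (wadd (sel (i.testBit 0) v.1) (sel (j.testBit 0) v.2),
   wadd (sel (i.testBit 1) v.1) (sel (j.testBit 1) v.2))

/-- The action. -/
def act (m : M0) (v : V) : V := mix m.1 (actW m.2 v.1, actW m.2 v.2)

/-- the number of bits below four -/
def pop (u : W) : ℕ :=
  (u.1.testBit 0).toNat + (u.1.testBit 1).toNat + (u.1.testBit 2).toNat + (u.1.testBit 3).toNat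

/-- the symplectic form -/
def bw (u w : W) : Bool := (pop u * pop w + pop (Fin.ofNat 16 (u.1 &&& w.1))) % 2 == 1

/-- the quadratic form -/
def qv (v : V) : Bool := bw v.1 v.2

/-- the bilinear form -/
def bv (u v : V) : Bool := xor (qv (vadd u v)) (xor (qv u) (qv v))

theorem wadd_table : ∀ u w : W, wadd u w = wadd w u ∧ wadd u 0 = u ∧ wadd u u = 0 ∧
    ∀ x : W, wadd (wadd u w) x = wadd u (wadd w x) := by decide +kernel

theorem wadd_comm (u w : W) : wadd u w = wadd w u := (wadd_table u w).1

theorem wadd_zero (u : W) : wadd u 0 = u := (wadd_table u 0).2.1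

theorem zero_wadd (u : W) : wadd 0 u = u := by rw [wadd_comm, wadd_zero]

theorem wadd_self (u : W) : wadd u u = 0 := (wadd_table u u).2.2.1

theorem wadd_assoc (u w x : W) : wadd (wadd u w) x = wadd u (wadd w x) := (wadd_table u w).2.2.2 x

instance : Std.Commutative wadd := ⟨wadd_comm⟩

instance : Std.Associative wadd := ⟨wadd_assoc⟩

theorem sel_wadd : ∀ (c : Bool) (u w : W), sel c (wadd u w) = wadd (sel c u) (sel c w) := by
  decide +kernel

theorem sel_xor : ∀ (c d : Bool) (u : W), sel (xor c d) u = wadd (sel c u) (sel d u) := by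
  decide +kernel

theorem bit_wadd : ∀ (u w : W) (i : Fin 4),
    (wadd u w).1.testBit i.1 = xor (u.1.testBit i.1) (w.1.testBit i.1) := by decide +kernel

theorem actW_add (g : Equiv.Perm (Fin 6)) (u w : W) : actW g (wadd u w) = wadd (actW g u) (actW g w) := by
  have h0 := bit_wadd u w 0
  have h1 := bit_wadd u w 1
  have h2 := bit_wadd u w 2
  have h3 := bit_wadd u w 3
  simp only [Fin.val_zero, Fin.val_one, Fin.val_two, show ((3 : Fin 4) : ℕ) = 3 from rfl] at h0 h1 h2 h3
  simp only [actW, h0, h1, h2, h3, sel_xor]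
  ac_rfl

theorem actW_zero (g : Equiv.Perm (Fin 6)) : actW g 0 = 0 := by
  simp [actW, sel, wadd_zero]

theorem actW_sel (g : Equiv.Perm (Fin 6)) (c : Bool) (u : W) : actW g (sel c u) = sel c (actW g u) := by
  cases c <;> simp [sel, actW_zero]

theorem actW_edge : ∀ (g : Equiv.Perm (Fin 6)) (i j : Fin 6),
    actW g (edge i j) = edge (g i) (g j) := by decide +kernel

theorem actW_one : ∀ w : W, actW 1 w = w := by decide +kernel

theorem actW_mul (g h : Equiv.Perm (Fin 6)) (w : W) : actW (g * h) w = actW g (actW h w) := by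
  simp only [actW, Equiv.Perm.mul_apply]
  rw [show ∀ a b : W, wadd a b = wadd a b from fun _ _ => rfl]
  change _ = actW g _
  simp only [actW_add, actW_sel, actW_edge]

theorem mix_mul : ∀ (p q : Equiv.Perm (Fin 3)) (v : V), mix (p * q) v = mix p (mix q v) := by
  decide +kernel

theorem mix_one : ∀ v : V, mix 1 v = v := by decide +kernel

theorem mix_add : ∀ (p : Equiv.Perm (Fin 3)) (u v : V), mix p (vadd u v) = vadd (mix p u) (mix p v) := by
  intro p u v
  simp only [mix, vadd, sel_wadd]
  congr 1 <;> ac_rfl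

theorem act_mix (g : Equiv.Perm (Fin 6)) (p : Equiv.Perm (Fin 3)) (u w : W) :
    mix p (actW g u, actW g w) = (actW g (mix p (u, w)).1, actW g (mix p (u, w)).2) := by
  simp only [mix, actW_add, actW_sel]

theorem act_mul (m n : M0) (v : V) : act (m * n) v = act m (act n v) := by
  simp only [act, Prod.fst_mul, Prod.snd_mul, mix_mul, actW_mul]
  conv_rhs => rw [← act_mix]

theorem act_one (v : V) : act 1 v = v := by
  simp only [act, Prod.fst_one, Prod.snd_one, mix_one, actW_one]

theorem act_add (m : M0) (u v : V) : act m (vadd u v) = vadd (act m u) (act m v) := by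
  simp only [act, vadd, actW_add]
  exact mix_add m.1 (_, _) (_, _)

def mX : M0 := (swap 0 1 * swap 1 2, 1)

def mA : M0 := (1, swap 0 1 * swap 1 2)

def mB : M0 := (1, swap 3 4 * swap 4 5)

def mP : M0 := (1, swap 0 3 * (swap 1 4 * swap 4 2 * swap 2 5))

def mR : M0 := (1, swap 0 3 * swap 1 2)

/-- a basis from eigenvectors -/
def bas (i : Fin 8) : V :=
  let e : V := (5, 3)
  let f := match i.1 / 2 with
    | 0 => e
    | 1 => act mP e
    | 2 => act mP (act mP e)
    | _ => act mP (act mP (act mP e))
  if i.1 % 2 = 0 then f else act mX f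

theorem bas_eigen : act mA (bas 0) = act mX (bas 0) ∧ act mB (bas 0) = bas 0 ∧
    qv (bas 0) = true := by decide +kernel

theorem mP_spec : mP * mA * mP⁻¹ = mB ∧ mP * mB * mP⁻¹ = mA⁻¹ ∧ mP ^ 4 = 1 ∧
    mR * mP * mR = mP⁻¹ ∧ mR * mR = 1 ∧ (mR * mA) ^ 3 = 1 := by decide +kernel

/-- a combination of the basis -/
def comb (c : Fin 8 → Bool) : V :=
  (List.finRange 8).foldl (fun acc i => bif c i then vadd acc (bas i) else acc) (0, 0)

theorem comb_surj : ∀ v : V, ∃ k : Fin 256, comb (fun i => k.1.testBit i.1) = v := by decide +kernel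

end CfsgLib.ThreeSixCent
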