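import Cfsg.Agent.Lib.Extraspecial.Setting
import Cfsg.Agent.Lib.ThreeSixCent.Model

/-!
An involution whose centraliser is an extraspecial group of order `2 ^ 9` extended by a group between
`Sym 3 × Alt 6`-like groups and `Sym 3 × Sym 6`.
-/

set_option autoImplicit false
set_option linter.unusedSectionVars false
set_option linter.style.haveILetI false

open Cfsg CfsgLib.Extraspecial

namespace CfsgLib.ThreeSixCent

variable {G : Type*} [Group G]

/-- the centraliser -/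
abbrev Cz (z : G) : Subgroup G := Subgroup.centralizer ({z} : Set G)

/-- The hypotheses: `π` identifies the centraliser modulo `Q` with a subgroup of `Sym 3 × Sym 6`. -/
structure Pre [Finite G] (z : G) (Q : Subgroup G) (π : ↥(Cz z) →* M0) : Prop where
  st : Setting Q z
  card : Nat.card Q = 512
  ker : π.ker = Q.subgroupOf (Cz z)
  big : ∀ m : M0, Equiv.Perm.sign m.1 = 1 → Equiv.Perm.sign m.2 = 1 → m ∈ π.range
  odd : ∃ m ∈ π.range, Equiv.Perm.sign m.1 = -1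

open scoped Classical in
/-- the image of an element of the centraliser -/
noncomputable def img (z : G) (π : ↥(Cz z) →* M0) (x : G) : M0 :=
  if h : x ∈ Cz z then π ⟨x, h⟩ else 1

/-- the quotient of `Q` by its centre -/
abbrev T (Q : Subgroup G) : Type _ := ↥Q ⧸ Subgroup.center ↥Q

open scoped Classical in
/-- the class of an element -/
noncomputable def cl (Q : Subgroup G) (q : G) : T Q :=
  if h : q ∈ Q then QuotientGroup.mk ⟨q, h⟩ else 1

/-- a representative -/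
noncomputable def rep (Q : Subgroup G) (t : T Q) : G := (t.out : Q)

/-- the action of the centraliser -/
noncomputable def ac (Q : Subgroup G) (x : G) (t : T Q) : T Q := cl Q (x * rep Q t * x⁻¹)

theorem rep_mem (Q : Subgroup G) (t : T Q) : rep Q t ∈ Q := (t.out).2

theorem cl_rep (Q : Subgroup G) (t : T Q) : cl Q (rep Q t) = t := by
  rw [cl, dif_pos (rep_mem Q t)]
  exact t.out_eq

theorem cl_mul {Q : Subgroup G} {a b : G} (ha : a ∈ Q) (hb : b ∈ Q) :
    cl Q (a * b) = cl Q a * cl Q b := by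
  rw [cl, cl, cl, dif_pos (Q.mul_mem ha hb), dif_pos ha, dif_pos hb]
  rfl

theorem cl_one (Q : Subgroup G) : cl Q 1 = 1 := by
  rw [cl, dif_pos Q.one_mem]
  rfl

theorem mem_Cz {z x : G} : x ∈ Cz z ↔ x * z = z * x := Subgroup.mem_centralizer_singleton_iff

namespace Pre

variable [Finite G] {z : G} {Q : Subgroup G} {π : ↥(Cz z) →* M0} (H : Pre z Q π)
include H

theorem zQ : z ∈ Q := H.st.z_mem

theorem QC : Q ≤ Cz z := H.st.le_centralizer_z

theorem zC : z ∈ Cz z := mem_Cz.mpr rfl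

theorem z2 : z * z = 1 := H.st.zz

theorem zne : z ≠ 1 := H.st.ne_one

theorem conjQ {c q : G} (hc : c ∈ Cz z) (hq : q ∈ Q) : c * q * c⁻¹ ∈ Q :=
  (Subgroup.mem_normalizer_iff.mp (H.st.cz hc) q).mp hq

theorem img_mul {a b : G} (ha : a ∈ Cz z) (hb : b ∈ Cz z) :
    img z π (a * b) = img z π a * img z π b := by
  rw [img, img, img, dif_pos ((Cz z).mul_mem ha hb), dif_pos ha, dif_pos hb, ← map_mul]
  rfl

theorem img_one : img z π 1 = 1 := by
  rw [img, dif_pos (Cz z).one_mem]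
  exact map_one π

theorem img_inv {a : G} (ha : a ∈ Cz z) : img z π a⁻¹ = (img z π a)⁻¹ := by
  rw [img, img, dif_pos ((Cz z).inv_mem ha), dif_pos ha, ← map_inv]
  rfl

theorem img_pow {a : G} (ha : a ∈ Cz z) (n : ℕ) : img z π (a ^ n) = (img z π a) ^ n := by
  rw [img, img, dif_pos ((Cz z).pow_mem ha n), dif_pos ha, ← map_pow]
  rfl

theorem img_conj {a b : G} (ha : a ∈ Cz z) (hb : b ∈ Cz z) :
    img z π (a * b * a⁻¹) = img z π a * img z π b * (img z π a)⁻¹ := by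
  rw [H.img_mul ((Cz z).mul_mem ha hb) ((Cz z).inv_mem ha), H.img_mul ha hb, H.img_inv ha]

theorem img_eq_one {a : G} (ha : a ∈ Cz z) : img z π a = 1 ↔ a ∈ Q := by
  rw [img, dif_pos ha, ← MonoidHom.mem_ker, H.ker, Subgroup.mem_subgroupOf]

theorem img_Q {a : G} (ha : a ∈ Q) : img z π a = 1 := (H.img_eq_one (H.QC ha)).2 ha

theorem img_mem_range (a : G) : img z π a ∈ π.range := by
  unfold img
  split
  · exact ⟨_, rfl⟩
  · exact one_mem _

theorem lift {m : M0} (hm : m ∈ π.range) : ∃ c ∈ Cz z, img z π c = m := by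
  obtain ⟨⟨c, hc⟩, rfl⟩ := hm
  exact ⟨c, hc, by rw [img, dif_pos hc]⟩

theorem lift' {m : M0} (h1 : Equiv.Perm.sign m.1 = 1) (h2 : Equiv.Perm.sign m.2 = 1) :
    ∃ c ∈ Cz z, img z π c = m := H.lift (H.big m h1 h2)

theorem cl_eq_one {q : G} (hq : q ∈ Q) : cl Q q = 1 ↔ q = 1 ∨ q = z := by
  rw [cl, dif_pos hq, QuotientGroup.eq_one_iff]
  refine ⟨H.st.center_mem hq, ?_⟩
  rintro (rfl | rfl)
  · exact one_mem _
  · exact Subgroup.mem_center_iff.mpr fun a => Subtype.ext (H.st.z_comm a.2)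

theorem cl_z : cl Q z = 1 := (H.cl_eq_one H.zQ).2 (Or.inr rfl)

theorem T_sq (t : T Q) : t * t = 1 := by
  obtain ⟨q, hq, rfl⟩ : ∃ q ∈ Q, cl Q q = t := ⟨_, rep_mem Q t, cl_rep Q t⟩
  rw [← cl_mul hq hq, H.cl_eq_one (Q.mul_mem hq hq)]
  exact H.st.sq_cases hq

theorem T_inv (t : T Q) : t⁻¹ = t := inv_eq_of_mul_eq_one_right (H.T_sq t)

theorem T_comm (s t : T Q) : s * t = t * s := by
  calc s * t = (s * t)⁻¹ := (H.T_inv _).symm
    _ = t⁻¹ * s⁻¹ := mul_inv_rev _ _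
    _ = t * s := by rw [H.T_inv, H.T_inv]

theorem T_mul_eq_one {s t : T Q} : s * t = 1 ↔ s = t := by
  constructor
  · intro h; rw [eq_inv_of_mul_eq_one_left h, H.T_inv]
  · rintro rfl; exact H.T_sq s

theorem cl_eq_iff {a b : G} (ha : a ∈ Q) (hb : b ∈ Q) : cl Q a = cl Q b ↔ a = b ∨ a = z * b := by
  rw [← H.T_mul_eq_one, ← cl_mul ha hb, H.cl_eq_one (Q.mul_mem ha hb)]
  rcases H.st.sq_cases hb with e | e
  · constructor
    · rintro (h | h)
      · left; rw [eq_inv_of_mul_eq_one_left h, inv_eq_of_mul_eq_one_right e]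
      · right; rw [← h, mul_assoc, e, mul_one]
    · rintro (rfl | rfl)
      · exact Or.inl e
      · exact Or.inr (by rw [mul_assoc, e, mul_one])
  · constructor
    · rintro (h | h)
      · right
        have : b⁻¹ = z * b := by
          rw [inv_eq_iff_mul_eq_one, ← mul_assoc, H.st.z_comm hb, mul_assoc, e, H.z2]
        rw [eq_inv_of_mul_eq_one_left h, this]
      · left
        exact mul_right_cancel (h.trans e.symm)
    · rintro (rfl | rfl)
      · exact Or.inr e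
      · exact Or.inl (by rw [mul_assoc, e, H.z2])

theorem ac_cl {x q : G} (hx : x ∈ Cz z) (hq : q ∈ Q) : ac Q x (cl Q q) = cl Q (x * q * x⁻¹) := by
  rw [ac]
  have hr := rep_mem Q (cl Q q)
  rw [H.cl_eq_iff (H.conjQ hx hr) (H.conjQ hx hq)]
  rcases (H.cl_eq_iff hr hq).1 (cl_rep Q _) with e | e <;> rw [e]
  · exact Or.inl rfl
  · right
    calc x * (z * q) * x⁻¹ = x * z * (q * x⁻¹) := by group
      _ = z * x * (q * x⁻¹) := by rw [mem_Cz.1 hx]
      _ = z * (x * q * x⁻¹) := by group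

theorem ac_mul {x : G} (hx : x ∈ Cz z) (s t : T Q) : ac Q x (s * t) = ac Q x s * ac Q x t := by
  obtain ⟨a, ha, rfl⟩ : ∃ q ∈ Q, cl Q q = s := ⟨_, rep_mem Q s, cl_rep Q s⟩
  obtain ⟨b, hb, rfl⟩ : ∃ q ∈ Q, cl Q q = t := ⟨_, rep_mem Q t, cl_rep Q t⟩
  rw [← cl_mul ha hb, H.ac_cl hx (Q.mul_mem ha hb), H.ac_cl hx ha, H.ac_cl hx hb,
    ← cl_mul (H.conjQ hx ha) (H.conjQ hx hb)]
  congr 1; group

theorem ac_one_t {x : G} (hx : x ∈ Cz z) : ac Q x (1 : T Q) = 1 := by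
  rw [← cl_one Q, H.ac_cl hx Q.one_mem, mul_one, mul_inv_cancel, cl_one]

theorem ac_comp {x y : G} (hx : x ∈ Cz z) (hy : y ∈ Cz z) (t : T Q) :
    ac Q (x * y) t = ac Q x (ac Q y t) := by
  obtain ⟨q, hq, rfl⟩ : ∃ q ∈ Q, cl Q q = t := ⟨_, rep_mem Q t, cl_rep Q t⟩
  rw [H.ac_cl ((Cz z).mul_mem hx hy) hq, H.ac_cl hy hq, H.ac_cl hx (H.conjQ hy hq)]
  congr 1; group

theorem ac_Q {x : G} (hx : x ∈ Q) (t : T Q) : ac Q x t = t := by
  obtain ⟨q, hq, rfl⟩ : ∃ q ∈ Q, cl Q q = t := ⟨_, rep_mem Q t, cl_rep Q t⟩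
  rw [H.ac_cl (H.QC hx) hq, H.cl_eq_iff (H.conjQ (H.QC hx) hq) hq]
  exact H.st.comm_cases hx hq

theorem ac_img {x y : G} (hx : x ∈ Cz z) (hy : y ∈ Cz z) (h : img z π x = img z π y) (t : T Q) :
    ac Q x t = ac Q y t := by
  have hm : y⁻¹ * x ∈ Q := by
    rw [← H.img_eq_one ((Cz z).mul_mem ((Cz z).inv_mem hy) hx), H.img_mul ((Cz z).inv_mem hy) hx,
      H.img_inv hy, h, inv_mul_cancel]
  conv_lhs => rw [show x = y * (y⁻¹ * x) by group]
  rw [H.ac_comp hy (H.QC hm), H.ac_Q hm]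

theorem ac_inv {x : G} (hx : x ∈ Cz z) (t : T Q) : ac Q x⁻¹ (ac Q x t) = t := by
  rw [← H.ac_comp ((Cz z).inv_mem hx) hx, inv_mul_cancel, H.ac_Q Q.one_mem]

theorem ac_inj {x : G} (hx : x ∈ Cz z) {s t : T Q} (h : ac Q x s = ac Q x t) : s = t := by
  rw [← H.ac_inv hx s, h, H.ac_inv hx]

theorem card_T : Nat.card (T Q) = 256 := by
  have h := Subgroup.card_eq_card_quotient_mul_card_subgroup (Subgroup.center ↥Q)
  rw [H.card, H.st.ex.2] at h
  change 512 = Nat.card (T Q) * 2 at h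
  omega

end Pre

end CfsgLib.ThreeSixCent
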