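import Cfsg.Agent.Lib.Extraspecial.SingularAction
import Cfsg.Agent.Lib.Extraspecial.Pair
import Cfsg.Agent.Lib.ThreeSixCent.Setup

/-!
Abelian subgroups of `Q`, and automorphisms trivial modulo the centre.
-/

set_option autoImplicit false
set_option linter.unusedSectionVars false
set_option linter.style.haveILetI false

open Cfsg CfsgLib.Extraspecial
open scoped commutatorElement

namespace CfsgLib.ThreeSixCent

variable {G : Type*} [Group G] [Finite G] {z : G} {Q : Subgroup G} {π : ↥(Cz z) →* M0}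

namespace Pre

variable (H : Pre z Q π)
include H

theorem zdata : Symm.Zdata Q z :=
  Symm.zdata_of H.st.ex H.zQ H.zne (fun _ hq => (H.st.z_comm hq).symm)

/-- abelian subgroups of `Q` have order at most `32` -/
theorem card_abelian_le {B : Subgroup G} (hB : B ≤ Q) (hc : ∀ a ∈ B, ∀ b ∈ B, a * b = b * a) :
    Nat.card B ≤ 32 := by
  classical
  have := Fintype.ofFinite G
  suffices key : ∀ n, ∀ D : Subgroup G, D ≤ B ⊔ Subgroup.zpowers z → z ∈ D → Nat.card D = n →
      Nat.card ↥(Q ⊓ Subgroup.centralizer (D : Set G)) * n ≤ 1024 by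
    set B' := B ⊔ Subgroup.zpowers z with hB'
    have hB'Q : B' ≤ Q := sup_le hB (Subgroup.zpowers_le.mpr H.zQ)
    have hB'c : ∀ a ∈ B', ∀ b ∈ B', a * b = b * a := by
      have h1 : B' ≤ Subgroup.centralizer (B : Set G) := by
        refine sup_le (fun a ha => Subgroup.mem_centralizer_iff.mpr fun b hb => hc b hb a ha) ?_
        exact Subgroup.zpowers_le.mpr (Subgroup.mem_centralizer_iff.mpr fun b hb => H.st.z_comm (hB hb))
      intro a ha b hb
      have h2 : B' ≤ Subgroup.centralizer ({a} : Set G) := by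
        refine sup_le (fun c hc' => Subgroup.mem_centralizer_singleton_iff.mpr
          (Subgroup.mem_centralizer_iff.mp (h1 ha) c hc')) ?_
        exact Subgroup.zpowers_le.mpr (Subgroup.mem_centralizer_singleton_iff.mpr
          (H.st.z_comm (hB'Q ha)).symm)
      exact (Subgroup.mem_centralizer_singleton_iff.mp (h2 hb)).symm
    have h := key _ B' le_rfl (Subgroup.mem_sup_right (Subgroup.mem_zpowers z)) rfl
    have hle : B' ≤ Q ⊓ Subgroup.centralizer (B' : Set G) :=
      le_inf hB'Q fun a ha => Subgroup.mem_centralizer_iff.mpr fun b hb => hB'c b hb a ha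
    have h2 := Subgroup.card_le_of_le hle
    have h3 := Subgroup.card_le_of_le (le_sup_left : B ≤ B')
    nlinarith
  intro n
  induction n using Nat.strong_induction_on with
  | _ n ih =>
  intro D hD hzD hn
  have hDQ : D ≤ Q := hD.trans (sup_le hB (Subgroup.zpowers_le.mpr H.zQ))
  by_cases hn2 : n ≤ 2
  · have := Subgroup.card_le_of_le (inf_le_left : Q ⊓ Subgroup.centralizer (D : Set G) ≤ Q)
    rw [H.card] at this
    calc _ ≤ 512 * 2 := Nat.mul_le_mul this hn2
      _ = 1024 := rfl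
  -- a maximal subgroup containing the centre
  haveI : Fact (Nat.Prime 2) := ⟨Nat.prime_two⟩
  have hP : IsPGroup 2 ↥D := (IsPGroup.of_card (show Nat.card ↥Q = 2 ^ 9 by rw [H.card]; norm_num)).to_le hDQ
  obtain ⟨k, hk⟩ := IsPGroup.iff_card.mp hP
  rw [hn] at hk
  obtain ⟨k, rfl⟩ : ∃ j, k = j + 2 := ⟨k - 2, by
    rcases k with _ | _ | k <;> simp_all⟩
  obtain ⟨E, hEc, hzE, hEle⟩ : ∃ E : Subgroup ↥D, Nat.card E = 2 ^ (k + 1) ∧ (⟨z, hzD⟩ : D) ∈ E ∧ True := by
    obtain ⟨E, hEc, hEle⟩ := Sylow.exists_subgroup_card_pow_prime_le 2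
      (G := ↥D) (n := 1) (m := k + 1) (by rw [hn, hk]; exact ⟨2, by ring⟩)
      (Subgroup.zpowers ⟨z, hzD⟩) (by rw [Nat.card_zpowers, Subgroup.orderOf_mk, H.st.ordz, pow_one])
      (by omega)
    exact ⟨E, hEc, hEle (Subgroup.mem_zpowers _), trivial⟩
  set D' := E.map D.subtype with hD'
  have hD'le : D' ≤ D := Subgroup.map_subtype_le _
  have hD'c : Nat.card D' = 2 ^ (k + 1) := by
    rw [hD', Subgroup.card_map_of_injective D.subtype_injective, hEc]
  have h1 := ih (2 ^ (k + 1)) (by rw [hk]; exact Nat.pow_lt_pow_right one_lt_two (by omega)) D'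
    (hD'le.trans hD) ⟨_, hzE, rfl⟩ hD'c
  obtain ⟨b, hbD, hbD'⟩ : ∃ b ∈ D, b ∉ D' := by
    by_contra h
    push Not at h
    have := Subgroup.card_le_of_le (show D ≤ D' from h)
    rw [hn, hD'c, hk] at this
    exact absurd this (not_le.mpr (Nat.pow_lt_pow_right one_lt_two (by omega)))
  have hne : ∃ q ∈ Q ⊓ Subgroup.centralizer (D' : Set G), q * b ≠ b * q := by
    by_contra h
    push Not at h
    have hin := Symm.double_centralizer H.zdata (fun q hq => H.st.z_comm hq)
      ((D' : Set G).toFinset.toList) (fun x hx => hDQ (hD'le (by simpa using hx))) b (hDQ hbD)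
      (fun q hq hfix => mul_inv_eq_iff_eq_mul.mpr (h q ⟨hq, Subgroup.mem_centralizer_iff.mpr fun x hx =>
        (mul_inv_eq_iff_eq_mul.mp (hfix x (by simpa using hx))).symm⟩))
    refine hbD' ((Subgroup.closure_le D').mpr ?_ hin)
    rintro x (rfl | hx)
    · exact ⟨_, hzE, rfl⟩
    · simpa using hx
  set C1 := Q ⊓ Subgroup.centralizer (D' : Set G) with hC1
  set C2 := Q ⊓ Subgroup.centralizer (D : Set G) with hC2
  have hle : C2 ≤ C1 := inf_le_inf_left Q (Subgroup.centralizer_le (by exact hD'le))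
  have hlt : 2 * Nat.card C2 ≤ Nat.card C1 := by
    obtain ⟨q, hq, hqb⟩ := hne
    obtain ⟨d, hd⟩ := Subgroup.card_dvd_of_le hle
    have hne' : C2 ≠ C1 := fun e => hqb
      ((Subgroup.mem_centralizer_iff.mp (e.ge hq).2 b hbD).symm)
    have hd2 : 2 ≤ d := by
      rcases d with _ | _ | d
      · simp at hd
      · exact absurd (Subgroup.eq_of_le_of_card_ge hle (by rw [hd]; simp)) hne'
      · omega
    rw [hd, mul_comm 2]
    exact Nat.mul_le_mul_left _ hd2
  calc Nat.card C2 * n = (2 * Nat.card C2) * 2 ^ (k + 1) := by rw [hk]; ring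
    _ ≤ Nat.card C1 * 2 ^ (k + 1) := Nat.mul_le_mul_right _ hlt
    _ ≤ 1024 := h1

/-- an element acting trivially on `Q/Z` lies in `Q` -/
theorem faithful {c : G} (hc : c ∈ Cz z) (h : ∀ t, ac Q c t = t) : c ∈ Q := by
  haveI := Fact.mk Nat.prime_two
  have hval : ∀ q : Q, (q : G)⁻¹ * (c * q * c⁻¹) = 1 ∨ (q : G)⁻¹ * (c * q * c⁻¹) = z := by
    intro q
    have e := h (cl Q q)
    rw [H.ac_cl hc q.2, H.cl_eq_iff (H.conjQ hc q.2) q.2] at e
    rcases e with e | e <;> rw [e]
    · exact Or.inl (inv_mul_cancel _)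
    · right
      rw [← H.st.z_comm q.2, inv_mul_cancel_left]
  have hmem : ∀ q : Q, (q : G)⁻¹ * (c * q * c⁻¹) ∈ Q := fun q =>
    Q.mul_mem (Q.inv_mem q.2) (H.conjQ hc q.2)
  have hcen : ∀ q : Q, (⟨_, hmem q⟩ : Q) ∈ Subgroup.center Q := fun q =>
    Subgroup.mem_center_iff.mpr fun a => Subtype.ext (by
      show (a : G) * ((q : G)⁻¹ * (c * q * c⁻¹)) = (q : G)⁻¹ * (c * q * c⁻¹) * (a : G)
      rcases hval q with e | e <;> rw [e]
      · simp
      · exact H.st.z_comm a.2)
  let χ : Q →* Q := MonoidHom.mk' (fun q => ⟨_, hmem q⟩) (by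
    intro a b
    refine Subtype.ext ?_
    show ((a : G) * b)⁻¹ * (c * (a * b) * c⁻¹) = (a : G)⁻¹ * (c * a * c⁻¹) * ((b : G)⁻¹ * (c * b * c⁻¹))
    have e := congrArg Subtype.val (Subgroup.mem_center_iff.mp (hcen a) b⁻¹)
    simp only [Subgroup.coe_mul, Subgroup.coe_inv] at e
    rw [show ((a : G) * b)⁻¹ * (c * (a * b) * c⁻¹) =
      ((b : G)⁻¹ * ((a : G)⁻¹ * (c * a * c⁻¹))) * (c * b * c⁻¹) by group, e]
    group)
  obtain ⟨g, hg⟩ := exists_comm_eq_hom _ Q H.st.ex rfl χ hcen (fun w hw => Subtype.ext (by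
    show (w : G)⁻¹ * (c * w * c⁻¹) = 1
    rcases H.st.center_mem w.2 hw with e | e <;> rw [e]
    · group
    · rw [mem_Cz.1 hc]; group))
  set d := (g : G)⁻¹ * c with hd
  have hdc : d ∈ Subgroup.centralizer (Q : Set G) := by
    rw [Subgroup.mem_centralizer_iff]
    intro q hq
    have e : q⁻¹ * (c * q * c⁻¹) = (g : G) * q * (g : G)⁻¹ * q⁻¹ := by
      have e := congrArg Subtype.val (hg ⟨q, hq⟩)
      simpa [χ, commutatorElement_def, mul_assoc] using e
    have e2 : c * q * c⁻¹ = (g : G) * q * (g : G)⁻¹ := by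
      have h1 : (g : G) * q * (g : G)⁻¹ * q⁻¹ * q = q * ((g : G) * q * (g : G)⁻¹ * q⁻¹) := by
        have := congrArg Subtype.val (Subgroup.mem_center_iff.mp (hcen ⟨q, hq⟩) ⟨q, hq⟩)
        simp only [Subgroup.coe_mul] at this
        rw [e] at this
        exact this.symm
      calc c * q * c⁻¹ = q * (q⁻¹ * (c * q * c⁻¹)) := by group
        _ = q * ((g : G) * q * (g : G)⁻¹ * q⁻¹) := by rw [e]
        _ = _ := by rw [← h1]; group
    rw [hd]
    calc q * ((g : G)⁻¹ * c) = (g : G)⁻¹ * ((g : G) * q * (g : G)⁻¹) * c := by group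
      _ = (g : G)⁻¹ * (c * q * c⁻¹) * c := by rw [e2]
      _ = (g : G)⁻¹ * c * q := by group
  rw [H.st.cQ] at hdc
  have : c = (g : G) * d := by rw [hd]; group
  rw [this]
  exact Q.mul_mem g.2 (Subgroup.zpowers_le.mpr H.zQ hdc)

end Pre

end CfsgLib.ThreeSixCent
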