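import Cfsg.Agent.Lib.ThreeSixCent.OutCoordsBase

/-!
The coordinatised case when `z` is weakly closed in `Q`.
-/

set_option autoImplicit false
set_option linter.unusedSectionVars false
set_option linter.style.haveILetI false
set_option maxRecDepth 4000

open Cfsg CfsgLib.Extraspecial
open Equiv (Perm)

namespace CfsgLib.ThreeSixCent

theorem rep_split : ∀ r ∈ repList, (r.2 = 1 → r = mS) ∧ (r.1 = 1 → Perm.sign r.2 = 1 → r = mD) := by
  decide +kernel

theorem eta_pow : mX ^ 4 = mX ∧ eThreeS ^ 4 = eThreeS ∧ eThreeT ^ 4 = eThreeT ∧ mX ^ 3 = 1 ∧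
    eThreeS ^ 3 = 1 ∧ mD.1 = 1 ∧ mR3 ≠ 1 := by decide +kernel

variable {G : Type*} [Group G] [Finite G] {z : G} {Q : Subgroup G} {π : ↥(Cz z) →* M0} {ψ : V → T Q}
  {g : G}

/-- the facts about a class with fixed vectors equal to commutators -/
def tblOk (m : M0) (rg : List (V × V)) : Bool :=
  fixRange m rg && rgOk m rg && perpOk (rg.map Prod.fst) rg && rg.all fun p => !qv p.1

theorem Om.conj (H : Pre z Q π) {m c : M0} (hm : Om z Q π m) (h1 : Perm.sign c.1 = 1)
    (h2 : Perm.sign c.2 = 1) : Om z Q π (c * m * c⁻¹) := by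
  obtain ⟨h, Ph, rfl⟩ := hm
  obtain ⟨d, hd, hdi⟩ := H.lift' h1 h2
  obtain ⟨P', e, -⟩ := Ph.right H hd
  exact ⟨_, P', by rw [e, H.img_conj hd (Ph.vC H), hdi]⟩

theorem Pre.pow_four (H : Pre z Q π) {x : G} (hx : x ∈ Q) : x ^ 4 = 1 := by
  rw [show x ^ 4 = (x * x) * (x * x) by rw [← pow_two, ← pow_two, ← pow_mul]]
  rcases H.st.sq_cases hx with e | e <;> rw [e]
  · exact one_mul _
  · exact H.z2

theorem Om.sq (H : Pre z Q π) {m : M0} (hm : Om z Q π m) : m * m = 1 ∧ m ≠ 1 := by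
  obtain ⟨h, Ph, rfl⟩ := hm
  exact ⟨Ph.mv_sq H, Ph.mv_ne H⟩

namespace Pt

variable (H : Pre z Q π) (C : Coords z Q π ψ) (P : Pt z Q g)
include H C P

section tables

variable {m : M0} (hm : img z π (vv z g) = m) {rg : List (V × V)}
include hm

theorem elem_fix (htb : tblOk m rg = true)
    (h0 : ∀ p ∈ Q, ac Q (vv z g) (cl Q p) = cl Q p → vv z g * p * (vv z g)⁻¹ = p)
    {p : G} (hp : p ∈ Q) (h : ac Q (vv z g) (cl Q p) = cl Q p) :
    p * p = 1 ∧ p ∈ Aq z Q g ∧ ∃ q ∈ Q, (p = dlt z g q ∨ p = z * dlt z g q) := by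
  simp only [tblOk, Bool.and_eq_true] at htb
  obtain ⟨⟨⟨hfr, hrg⟩, -⟩, hq⟩ := htb
  obtain ⟨w, hw, hwf⟩ := P.coord_fix H C hm h
  have hwr := fixRange_spec hfr hwf
  obtain ⟨q, hqQ, hqq, -⟩ := P.tab_cases H C hm hrg hp hw.symm hwr
  refine ⟨(H.st.sq_cases hp).resolve_right fun e => ?_,
    (P.mem_Aq H).2 ⟨hp, (mul_inv_eq_iff_eq_mul.1 (h0 p hp h)).symm⟩, q, hqQ, hqq⟩
  obtain ⟨pp, hpp, rfl⟩ := List.mem_map.1 hwr
  have h1 := List.all_eq_true.1 hq pp hpp
  rw [Bool.not_eq_true', ← C.quad, hw] at h1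
  exact absurd ((H.qT_cl hp).2 e) (by rw [h1]; decide)

omit hm in
theorem Aq_fix {p : G} (hp : p ∈ Aq z Q g) : ac Q (vv z g) (cl Q p) = cl Q p := by
  rw [H.ac_cl (P.vC H) hp.1, show vv z g * p * (vv z g)⁻¹ = p from
    mul_inv_eq_iff_eq_mul.2 ((P.mem_Aq H).1 hp).2.symm]

theorem Aq_comm (htb : tblOk m rg = true) {a b : G} (ha : a ∈ Aq z Q g) (hb : b ∈ Aq z Q g) :
    a * b = b * a := by
  simp only [tblOk, Bool.and_eq_true] at htb
  obtain ⟨w, hw, hwf⟩ := P.coord_fix H C hm (P.Aq_fix H C ha)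
  exact P.tab_comm H C hm htb.1.1.2 ha.1 hb.1 hw.symm (fixRange_spec htb.1.1.1 hwf) (P.Aq_fix H C hb)

/-- at most three non-trivial elements of the kernel -/
theorem no_four_kernel (htb : tblOk m rg = true)
    (h0 : ∀ p ∈ Q, ac Q (vv z g) (cl Q p) = cl Q p → vv z g * p * (vv z g)⁻¹ = p)
    {a b c d : G} (ha : a ∈ Aq z Q g) (hb : b ∈ Aq z Q g) (hc : c ∈ Aq z Q g) (hd : d ∈ Aq z Q g)
    (fa : phi z π g a = 1) (fb : phi z π g b = 1) (fc : phi z π g c = 1) (fd : phi z π g d = 1)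
    (hne : a ≠ 1 ∧ b ≠ 1 ∧ c ≠ 1 ∧ d ≠ 1) (hab : a ≠ b) (hac : a ≠ c) (had : a ≠ d) (hbc : b ≠ c)
    (hbd : b ≠ d) (hcd : c ≠ d) : False := by
  have key1 : ∀ n ∈ Aq z Q g, phi z π g n = 1 → n ≠ 1 →
      n * n = 1 ∧ ∃ q ∈ Q, n = z * dlt z g q := by
    intro n hn fn n1
    obtain ⟨hn2, -, q, hq, e⟩ := P.elem_fix H C hm htb h0 hn.1 (P.Aq_fix H C hn)
    refine ⟨hn2, q, hq, e.resolve_left ?_⟩
    rintro rfl
    exact n1 ((P.key H (π := π) hq hn2).2.1 fn)
  have hcm : ∀ {x y : G}, x ∈ Aq z Q g → y ∈ Aq z Q g → x * y = y * x := fun hx hy =>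
    P.Aq_comm H C hm htb hx hy
  -- the defining element of one anticommutes with the other
  have anti : ∀ x ∈ Aq z Q g, ∀ q ∈ Q, x = z * dlt z g q → x * x = 1 → phi z π g x = 1 →
      ∀ y ∈ Aq z Q g, phi z π g y = 1 → y ≠ 1 → x ≠ y → q * y * q⁻¹ = z * y := by
    intro x hx q hq e hx2 fx y hy fy y1 hxy
    obtain ⟨hy2, q', hq', e'⟩ := key1 y hy fy y1
    refine (H.st.comm_cases hq hy.1).resolve_left fun hcq => ?_
    have hd1 : dlt z g q = z * x := by rw [e, ← mul_assoc, H.z2, one_mul]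
    have hd2 : dlt z g q' = z * y := by rw [e', ← mul_assoc, H.z2, one_mul]
    have hd3 : dlt z g (q * q') = x * y := by
      calc dlt z g (q * q') = dlt z g q * (q * dlt z g q' * q⁻¹) := by simp only [dlt, vv]; group
        _ = z * x * ((q * z) * y * q⁻¹) := by rw [hd1, hd2]; group
        _ = z * x * (z * (q * y * q⁻¹)) := by rw [H.st.z_comm hq]; group
        _ = z * (x * z) * y := by rw [hcq]; group
        _ = _ := by rw [H.st.z_comm hx.1, ← mul_assoc z, H.z2, one_mul]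
    have hsq : dlt z g (q * q') * dlt z g (q * q') = 1 := by
      rw [hd3, (show Commute x y from hcm hx hy).symm.mul_mul_mul_comm, hx2, hy2, one_mul]
    have h1 := (P.key H (π := π) (Q.mul_mem hq hq') hsq).2.1 (by
      rw [hd3, P.phi_mul H ((P.mem_Aq H).1 hx).2 ((P.mem_Aq H).1 hy).2, fx, fy, one_mul])
    rw [hd3] at h1
    exact hxy ((eq_inv_of_mul_eq_one_left h1).trans (inv_eq_of_mul_eq_one_right hy2))
  have triple : ∀ x ∈ Aq z Q g, ∀ y ∈ Aq z Q g, ∀ w ∈ Aq z Q g, phi z π g x = 1 → phi z π g y = 1 →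
      phi z π g w = 1 → x ≠ 1 → y ≠ 1 → w ≠ 1 → x ≠ y → x ≠ w → y ≠ w → x = y * w := by
    intro x hx y hy w hw fx fy fw x1 y1 w1 hxy hxw hyw
    by_contra hne'
    obtain ⟨hx2, q, hq, e⟩ := key1 x hx fx x1
    obtain ⟨hw2, -⟩ := key1 w hw fw w1
    have ey := anti x hx q hq e hx2 fx y hy fy y1 hxy
    have ew := anti x hx q hq e hx2 fx w hw fw w1 hxw
    have eyw := anti x hx q hq e hx2 fx (y * w) ((Aq z Q g).mul_mem hy hw)
      (by rw [P.phi_mul H ((P.mem_Aq H).1 hy).2 ((P.mem_Aq H).1 hw).2, fy, fw, one_mul])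
      (fun h => hyw ((eq_inv_of_mul_eq_one_left h).trans (inv_eq_of_mul_eq_one_right hw2))) hne'
    refine H.zne (mul_eq_right.1 (eyw.symm.trans ?_))
    calc q * (y * w) * q⁻¹ = (q * y * q⁻¹) * (q * w * q⁻¹) := by group
      _ = z * (y * z) * w := by rw [ey, ew]; group
      _ = _ := by rw [H.st.z_comm hy.1, ← mul_assoc z, H.z2, one_mul]
  have e1 := triple a ha b hb c hc fa fb fc hne.1 hne.2.1 hne.2.2.1 hab hac hbc
  have e2 := triple a ha b hb d hd fa fb fd hne.1 hne.2.1 hne.2.2.2 hab had hbd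
  exact hcd (mul_left_cancel (e1.symm.trans e2))

omit hm in
/-- conjugating the kernel by a lift -/
theorem phi_conj {c a : G} (hc : c ∈ Cz z) (hcv : c * vv z g = vv z g * c) (ha : a ∈ Aq z Q g) :
    c * a * c⁻¹ ∈ Aq z Q g ∧
      phi z π g (c * a * c⁻¹) = phi z π g c * phi z π g a * (phi z π g c)⁻¹ := by
  have h1 : Commute c (vv z g) := hcv
  have h2 : Commute a (vv z g) := ((P.mem_Aq H).1 ha).2
  refine ⟨(P.mem_Aq H).2 ⟨H.conjQ hc ha.1, ((h1.mul_left h2).mul_left h1.inv_left).eq⟩, ?_⟩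
  rw [← P.phi_inv H hcv, ← P.phi_mul H hcv h2.eq,
    ← P.phi_mul H (h1.mul_left h2).eq h1.inv_left.eq]

end tables

theorem no_S (hm : img z π (vv z g) = mS) : False := by
  have htb : tblOk mS rgS = true := rg_facts.1
  have hp := htb
  simp only [tblOk, Bool.and_eq_true] at hp
  obtain ⟨⟨⟨hfr, hrg⟩, hperp⟩, -⟩ := hp
  obtain ⟨hcm, hpow, hs1, hs2, -, -⟩ := etaOk_spec eta_facts.1
  have hodd : Odd 5 := by decide
  have h0 := P.no_anti H C hm hfr hrg hodd eta_facts.1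
  have hfx : ∀ w ∈ rgS.map Prod.fst, act mS w = w := fun w hw => by
    obtain ⟨p, hp, rfl⟩ := List.mem_map.1 hw
    exact (rgOk_spec hrg hp).2
  obtain ⟨c, hc, hci, hcv⟩ := P.exists_lift H C hm hfx hperp hrg h0 hs1 hs2 hcm hodd hpow
  -- the kernel is trivial
  have hker : ∀ a ∈ Aq z Q g, phi z π g a = 1 → a = 1 := by
    intro a ha fa
    by_contra a1
    have hitk : ∀ k : ℕ, c ^ k * a * (c ^ k)⁻¹ ∈ Aq z Q g ∧ phi z π g (c ^ k * a * (c ^ k)⁻¹) = 1 := by
      intro k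
      have hk : c ^ k * vv z g = vv z g * c ^ k := ((show Commute c (vv z g) from hcv).pow_left k).eq
      obtain ⟨h1, h2⟩ := P.phi_conj H C ((Cz z).pow_mem hc k) hk ha (π := π)
      exact ⟨h1, by rw [h2, fa, mul_one, mul_inv_cancel]⟩
    obtain ⟨w, hw, hwf⟩ := P.coord_fix H C hm (P.Aq_fix H C ha)
    have hwr := fixRange_spec hfr hwf
    have hw0 : w ≠ (0, 0) := fun e => by
      rw [e, Pt.coord_zero H C] at hw
      rcases (H.cl_eq_one ha.1).1 hw.symm with h | h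
      · exact a1 h
      · exact P.mu_ne H (π := π) ((congrArg (phi z π g) h).symm.trans fa)
    have hnd := List.all_eq_true.1 eta_facts.2.1 w hwr
    simp only [Bool.or_eq_true, beq_iff_eq, hw0, false_or, decide_eq_true_eq] at hnd
    have hcl : ∀ k, cl Q (c ^ k * a * (c ^ k)⁻¹) = ψ (act (eFive ^ k) w) := fun k => by
      rw [← H.ac_cl ((Cz z).pow_mem hc k) ha.1, ← hw, C.equiv _ ((Cz z).pow_mem hc k), H.img_pow hc, hci]
    have hne : ∀ i j : ℕ, act (eFive ^ i) w ≠ act (eFive ^ j) w →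
        c ^ i * a * (c ^ i)⁻¹ ≠ c ^ j * a * (c ^ j)⁻¹ := fun i j h e =>
      h (C.bij.1 (by rw [← hcl, e, hcl]))
    have hn1 : ∀ k : ℕ, c ^ k * a * (c ^ k)⁻¹ ≠ 1 := fun k e => a1 (by simpa using e)
    simp only [List.nodup_cons, List.mem_cons, List.mem_nil_iff, or_false, not_or] at hnd
    obtain ⟨⟨n01, n02, n03⟩, ⟨n12, n13⟩, n23, -⟩ := hnd
    have q0 : act (eFive ^ 0) w = w := by rw [pow_zero, act_one]
    have q1 : act (eFive ^ 1) w = act eFive w := by rw [pow_one]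
    exact P.no_four_kernel H C hm htb h0 (hitk 0).1 (hitk 1).1 (hitk 2).1 (hitk 3).1 (hitk 0).2
      (hitk 1).2 (hitk 2).2 (hitk 3).2 ⟨hn1 0, hn1 1, hn1 2, hn1 3⟩
      (hne 0 1 (by rw [q0, q1]; exact n01)) (hne 0 2 (by rw [q0]; exact n02))
      (hne 0 3 (by rw [q0]; exact n03)) (hne 1 2 (by rw [q1]; exact n12))
      (hne 1 3 (by rw [q1]; exact n13)) (hne 2 3 n23)
  let f : ↥(Aq z Q g) →* M0 := MonoidHom.mk' (fun a => phi z π g a) fun a b =>
    P.phi_mul H ((P.mem_Aq H).1 a.2).2 ((P.mem_Aq H).1 b.2).2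
  have hinj : Function.Injective f := (injective_iff_map_eq_one f).2 fun a ha =>
    Subtype.ext (hker a a.2 ha)
  have hsq : ∀ x ∈ f.range, x * x = 1 := by
    rintro _ ⟨a, rfl⟩
    exact P.phi_sq H a.2 (P.elem_fix H C hm htb h0 a.2.1 (P.Aq_fix H C a.2)).1
  have h16 := card_elem_le f.range hsq
  rw [← Nat.card_congr (MonoidHom.ofInjective hinj).toEquiv] at h16
  have h32 : 32 ≤ Nat.card ↥(Aq z Q g) := by
    have hlen : (rgS.map Prod.fst).toFinset.card = 16 := by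
      rw [List.toFinset_card_of_nodup rg_card.1, List.length_map, rg_card.2.1]
    have h := Nat.card_le_card_of_injective (α := ↥(rgS.map Prod.fst).toFinset × Bool)
      (β := ↥(Aq z Q g)) (fun p => ⟨(bif p.2 then z else 1) * rep Q (ψ p.1.1), by
        have hfix : ac Q (vv z g) (cl Q (rep Q (ψ p.1.1))) = cl Q (rep Q (ψ p.1.1)) := by
          rw [cl_rep, P.ac_psi_v H C hm, hfx _ (List.mem_toFinset.1 p.1.2)]
        have hA := (P.elem_fix H C hm htb h0 (rep_mem Q _) hfix).2.1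
        obtain ⟨u, b⟩ := p
        cases b
        · simpa using hA
        · exact (Aq z Q g).mul_mem (P.z_A H) hA⟩) (by
        rintro ⟨u, b⟩ ⟨u', b'⟩ h
        simp only [Subtype.mk.injEq] at h
        have e := congrArg (cl Q) h
        have hu : u = u' := by
          apply Subtype.ext
          apply C.bij.1
          cases b <;> cases b' <;> simpa [cl_mul H.zQ, rep_mem, H.cl_z, cl_rep] using e
        subst hu
        have := mul_right_cancel h
        cases b <;> cases b' <;> simp [H.zne, Ne.symm H.zne] at this ⊢)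
    rw [Nat.card_prod, Nat.card_eq_fintype_card, Fintype.card_coe, hlen,
      show Nat.card Bool = 2 by simp] at h
    exact h
  omega

end Pt

variable (H : Pre z Q π) (C : Coords z Q π ψ)
include H C

theorem om_snd {m : M0} (hm : Om z Q π m) : m.2 ≠ 1 := by
  intro h2
  obtain ⟨c, hc1, hc2, hr⟩ := class_cases (hm.sq H).1 (hm.sq H).2
  have e : (c * m * c⁻¹).2 = 1 := by simp [h2]
  obtain ⟨h, Ph, hh⟩ := hm.conj H hc1 hc2
  rw [(rep_split _ hr).1 e] at hh
  exact Ph.no_S H C hh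

namespace Pt

variable (P : Pt z Q g)
include P

/-- the centraliser has index at most two in the elements with fixed classes -/
theorem card_half {W : Subgroup G} (hW : ∀ p ∈ W, p ∈ Q ∧ ac Q (vv z g) (cl Q p) = cl Q p) :
    Nat.card W ≤ 2 * Nat.card ↥(Aq z Q g) := by
  classical
  by_cases hall : ∀ p ∈ W, p ∈ Aq z Q g
  · refine le_trans (Nat.card_le_card_of_injective (β := ↥(Aq z Q g)) (fun p => ⟨p.1, hall p p.2⟩)
      fun a b h => Subtype.ext (congrArg Subtype.val h :)) (Nat.le_mul_of_pos_left _ (by norm_num))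
  · push Not at hall
    obtain ⟨p0, hp0, hp0A⟩ := hall
    have hanti : ∀ p ∈ W, p ∉ Aq z Q g → vv z g * p * (vv z g)⁻¹ = z * p := fun p hp hpA =>
      (P.two_cases H C (hW p hp).1 (hW p hp).2).resolve_left fun e =>
        hpA ((P.mem_Aq H).2 ⟨(hW p hp).1, (mul_inv_eq_iff_eq_mul.1 e).symm⟩)
    have hprod : ∀ p ∈ W, p ∉ Aq z Q g → p * p0 ∈ Aq z Q g := fun p hp hpA =>
      (P.mem_Aq H).2 ⟨Q.mul_mem (hW p hp).1 (hW p0 hp0).1, (mul_inv_eq_iff_eq_mul.1 (by
        calc vv z g * (p * p0) * (vv z g)⁻¹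
            = (vv z g * p * (vv z g)⁻¹) * (vv z g * p0 * (vv z g)⁻¹) := by group
          _ = z * (p * z) * p0 := by rw [hanti p hp hpA, hanti p0 hp0 hp0A]; group
          _ = _ := by rw [H.st.z_comm (hW p hp).1, ← mul_assoc z, H.z2, one_mul])).symm⟩
    rw [mul_comm, show (2 : ℕ) = Nat.card Bool by simp, ← Nat.card_prod]
    refine Nat.card_le_card_of_injective (β := ↥(Aq z Q g) × Bool)
      (fun p => if h : p.1 ∈ Aq z Q g then (⟨p.1, h⟩, true) else (⟨p.1 * p0, hprod p p.2 h⟩, false)) ?_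
    intro a b h
    apply Subtype.ext
    by_cases ha : a.1 ∈ Aq z Q g <;> by_cases hb : b.1 ∈ Aq z Q g <;>
      simp only [ha, hb, dif_pos, dif_neg, not_false_iff, Prod.mk.injEq, Subtype.mk.injEq] at h
    · exact h.1
    · exact absurd h.2 (by decide)
    · exact absurd h.2 (by decide)
    · exact mul_right_cancel h.1

/-- the elements with fixed classes -/
theorem exists_fixed {m : M0} (hm : img z π (vv z g) = m) {fx : List V} (hnd : fx.Nodup)
    (hfx : ∀ w ∈ fx, act m w = w) :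
    ∃ W : Subgroup G, (∀ p ∈ W, p ∈ Q ∧ ac Q (vv z g) (cl Q p) = cl Q p) ∧
      2 * fx.length ≤ Nat.card W := by
  classical
  refine ⟨{ carrier := {p | p ∈ Q ∧ ac Q (vv z g) (cl Q p) = cl Q p}
            one_mem' := ⟨Q.one_mem, by rw [cl_one, H.ac_one_t (P.vC H)]⟩
            mul_mem' := fun ha hb => ⟨Q.mul_mem ha.1 hb.1, by
              rw [cl_mul ha.1 hb.1, H.ac_mul (P.vC H), ha.2, hb.2]⟩
            inv_mem' := fun {a} ha => ⟨Q.inv_mem ha.1, by
              have : cl Q a⁻¹ = cl Q a := by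
                rw [← H.T_mul_eq_one, ← cl_mul (Q.inv_mem ha.1) ha.1, inv_mul_cancel, cl_one]
              rw [this, ha.2]⟩ }, fun p hp => hp, ?_⟩
  rw [mul_comm, show (2 : ℕ) = Nat.card Bool by simp, ← List.toFinset_card_of_nodup hnd,
    ← Fintype.card_coe, ← Nat.card_eq_fintype_card, ← Nat.card_prod]
  refine Nat.card_le_card_of_injective
    (fun p => ⟨(bif p.2 then z else 1) * rep Q (ψ p.1.1), ?_⟩) ?_
  · obtain ⟨u, b⟩ := p
    have hu := hfx u.1 (List.mem_toFinset.1 u.2)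
    cases b
    · exact ⟨by simpa using rep_mem Q _, by simp [cl_rep, P.ac_psi_v H C hm, hu]⟩
    · exact ⟨Q.mul_mem H.zQ (rep_mem Q _),
        by simp [cl_mul H.zQ, rep_mem, H.cl_z, cl_rep, P.ac_psi_v H C hm, hu]⟩
  · rintro ⟨u, b⟩ ⟨u', b'⟩ h
    simp only [Subtype.mk.injEq] at h
    have e := congrArg (cl Q) h
    have hu : u = u' := by
      apply Subtype.ext
      apply C.bij.1
      cases b <;> cases b' <;> simpa [cl_mul H.zQ, rep_mem, H.cl_z, cl_rep] using e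
    subst hu
    have := mul_right_cancel h
    cases b <;> cases b' <;> simp [H.zne, Ne.symm H.zne] at this ⊢

/-- with an element changing sign, the image of a commutator class is a conjugate's -/
theorem tab_om {m : M0} (hm : img z π (vv z g) = m) {rg : List (V × V)} (hrg : rgOk m rg = true)
    {q0 : G} (h0 : q0 ∈ Q) (hq0 : vv z g * q0 * (vv z g)⁻¹ = z * q0) {e : G} (he : e ∈ Q)
    (he2 : e * e = 1) {w : V} (hw : cl Q e = ψ w) (hwr : w ∈ rg.map Prod.fst) :
    e ∈ Aq z Q g ∧ (e ≠ 1 → Om z Q π (phi z π g e)) := by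
  obtain ⟨q, hq, -, hcl⟩ := P.tab_cases H C hm hrg he hw hwr
  obtain ⟨q', hq', rfl⟩ := P.dlt_all H h0 hq0 hq he hcl
  obtain ⟨hA, h1, h2⟩ := P.key H (π := π) hq' he2
  exact ⟨hA, fun hne => h2 fun e => hne (h1 e)⟩

theorem no_c {m : M0} {rg : List (V × V)} (hm : img z π (vv z g) = m)
    (htb : (fixRange m rg && rgOk m rg && rg.any fun p => qv p.1) = true)
    (hnd : (rg.map Prod.fst).Nodup) (hlen : rg.length = 16) : False := by
  simp only [Bool.and_eq_true] at htb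
  obtain ⟨⟨hfr, hrg⟩, hany⟩ := htb
  obtain ⟨pp, hpp, hq⟩ := List.any_eq_true.1 hany
  have anti_of : ∀ e ∈ Q, e * e = z → ac Q (vv z g) (cl Q e) = cl Q e →
      vv z g * e * (vv z g)⁻¹ = z * e := by
    intro e he he2 hfix
    obtain ⟨w, hw, hwf⟩ := P.coord_fix H C hm hfix
    obtain ⟨q, hqQ, hqq, -⟩ := P.tab_cases H C hm hrg he hw.symm (fixRange_spec hfr hwf)
    have hd : dlt z g q * dlt z g q = z := by
      have hkQ := P.dlt_mem H hqQ
      rcases hqq with h | h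
      · rw [← h]; exact he2
      · rw [← H.sq_congr hkQ (Or.inr h)]; exact he2
    have hinv : (dlt z g q)⁻¹ = z * dlt z g q := by
      rw [inv_eq_iff_mul_eq_one, ← mul_assoc, H.st.z_comm (P.dlt_mem H hqQ), mul_assoc, hd, H.z2]
    rcases hqq with h | h <;> rw [h]
    · rw [P.dlt_conj H, hinv]
    · calc vv z g * (z * dlt z g q) * (vv z g)⁻¹
          = (vv z g * z) * dlt z g q * (vv z g)⁻¹ := by group
        _ = z * (vv z g * dlt z g q * (vv z g)⁻¹) := by rw [mem_Cz.1 (P.vC H)]; group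
        _ = _ := by rw [P.dlt_conj H, hinv]
  have hk : cl Q (rep Q (ψ pp.1)) = ψ pp.1 := cl_rep Q _
  have hkfix : ac Q (vv z g) (cl Q (rep Q (ψ pp.1))) = cl Q (rep Q (ψ pp.1)) := by
    rw [hk, P.ac_psi_v H C hm, (rgOk_spec hrg hpp).2]
  have hq0 := anti_of _ (rep_mem Q _) ((H.qT_cl (rep_mem Q _)).1 (by rw [hk, C.quad]; exact hq)) hkfix
  have hsq : ∀ a ∈ Aq z Q g, a * a = 1 := fun a ha =>
    (H.st.sq_cases ha.1).resolve_right fun e => by
      have h := anti_of a ha.1 e (P.Aq_fix H C ha)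
      rw [show vv z g * a * (vv z g)⁻¹ = a from
        mul_inv_eq_iff_eq_mul.2 ((P.mem_Aq H).1 ha).2.symm] at h
      exact H.zne (mul_eq_right.1 h.symm)
  have hom : ∀ a ∈ Aq z Q g, a ≠ 1 → Om z Q π (phi z π g a) := by
    intro a ha
    obtain ⟨w, hw, hwf⟩ := P.coord_fix H C hm (P.Aq_fix H C ha)
    exact (P.tab_om H C hm hrg (rep_mem Q _) hq0 ha.1 (hsq a ha) hw.symm (fixRange_spec hfr hwf)).2
  let f : ↥(Aq z Q g) →* M0 := MonoidHom.mk' (fun a => ((1 : Perm (Fin 3)), (phi z π g a).2))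
    fun a b => by
      rw [Subgroup.coe_mul, P.phi_mul H ((P.mem_Aq H).1 a.2).2 ((P.mem_Aq H).1 b.2).2]
      exact Prod.ext (one_mul _).symm rfl
  have hinj : Function.Injective f := (injective_iff_map_eq_one f).2 fun a ha => by
    by_contra hne
    exact om_snd H C (hom a a.2 fun e => hne (Subtype.ext e)) (congrArg Prod.snd ha :)
  have h8 := card_elem_le_eight f.range (by
    rintro _ ⟨a, rfl⟩
    rw [← map_mul, show a * a = 1 from Subtype.ext (hsq a a.2), map_one])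
    (by rintro _ ⟨a, rfl⟩; rfl)
  rw [← Nat.card_congr (MonoidHom.ofInjective hinj).toEquiv] at h8
  obtain ⟨W, hW, hWc⟩ := P.exists_fixed H C hm hnd (fun w hw => by
    obtain ⟨p, hp, rfl⟩ := List.mem_map.1 hw
    exact (rgOk_spec hrg hp).2)
  have := P.card_half H C hW
  rw [List.length_map, hlen] at hWc
  omega

theorem lift_exact {m η : M0} {c : G} (hc : c ∈ Cz z) (hci : img z π c = η)
    (hcv : c * vv z g = vv z g * c) (h4 : η ^ 4 = η) (h3 : η ^ 3 = 1) :
    c ^ 4 ∈ Cz z ∧ img z π (c ^ 4) = η ∧ c ^ 4 * vv z g = vv z g * c ^ 4 ∧ (c ^ 4) ^ 3 = 1 := by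
  refine ⟨(Cz z).pow_mem hc 4, by rw [H.img_pow hc, hci, h4],
    ((show Commute c (vv z g) from hcv).pow_left 4).eq, ?_⟩
  have hm : c ^ 3 ∈ Q := by rw [← H.img_eq_one ((Cz z).pow_mem hc 3), H.img_pow hc, hci, h3]
  rw [← pow_mul, mul_comm, pow_mul]
  exact H.pow_four hm

theorem phi_pow {c : G} (hcv : c * vv z g = vv z g * c) (n : ℕ) :
    phi z π g (c ^ n) = phi z π g c ^ n := by
  induction n with
  | zero => rw [pow_zero, pow_zero, P.phi_one H]
  | succ n ih => rw [pow_succ, pow_succ, P.phi_mul H ((show Commute c (vv z g) from hcv).pow_left n).eq hcv, ih]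

/-- the image of a lift of order three is non-trivial -/
theorem lift_ne {c : G} (hc : c ∈ Cz z) (hcv : c * vv z g = vv z g * c) (h3 : c ^ 3 = 1)
    (hi : img z π c ≠ 1) : phi z π g c ≠ 1 := by
  intro h
  have hmem : g * c * g⁻¹ ∈ Q := (H.img_eq_one (P.gC H hcv)).1 h
  have h4 := H.pow_four hmem
  rw [conj_pow, pow_succ, h3, one_mul, mul_inv_eq_one, mul_eq_left] at h4
  exact hi (by rw [h4, H.img_one])

theorem phi_comm_mu {c : G} (hc : c ∈ Cz z) (hcv : c * vv z g = vv z g * c) :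
    phi z π g c * img z π (uu z g) = img z π (uu z g) * phi z π g c := by
  rw [← Pt.phi_z H g, ← P.phi_mul H hcv ((P.mem_Aq H).1 (P.z_A H)).2,
    ← P.phi_mul H ((P.mem_Aq H).1 (P.z_A H)).2 hcv, mem_Cz.1 hc]

theorem no_T_aux (hm : img z π (vv z g) = mT6) (hu : img z π (uu z g) = mD)
    {a b : G} (ha : a ∈ Aq z Q g) (hb : b ∈ Aq z Q g) (hab : a * b ≠ b * a) : False := by
  classical
  obtain ⟨hfxb, hrg, hperp, hrb⟩ := t_facts
  have hfx : ∀ w ∈ fxT, act mT6 w = w := fun w hw => beq_iff_eq.1 (List.all_eq_true.1 hfxb w hw)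
  by_cases hex : ∀ p ∈ Q, ac Q (vv z g) (cl Q p) = cl Q p → vv z g * p * (vv z g)⁻¹ = p
  · -- two elements of order three centralise the conjugate
    obtain ⟨t1, t2, t3, t4, t5, t6, t7, t8, t9, t10⟩ := t_eta
    obtain ⟨c1, hc1, hi1, hv1⟩ := P.exists_lift H C hm hfx hperp hrg hex mX_sign.1
      (by rw [mX_sign.2.2.2.2.2.1, map_one]) t1 (n := 3) (by decide) t3
    obtain ⟨c2, hc2, hi2, hv2⟩ := P.exists_lift H C hm hfx hperp hrg hex t7 t8 t2 (n := 3) (by decide) t4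
    obtain ⟨d1C, d1i, d1v, d13⟩ := P.lift_exact H C (m := mT6) hc1 hi1 hv1 eta_pow.1 t3
    obtain ⟨d2C, d2i, d2v, d23⟩ := P.lift_exact H C (m := mT6) hc2 hi2 hv2 eta_pow.2.2.1 t4
    set d1 := c1 ^ 4
    set d2 := c2 ^ 4
    have hy : ∀ d ∈ Cz z, d * vv z g = vv z g * d → d ^ 3 = 1 → img z π d ≠ 1 →
        (phi z π g d).2 = 1 ∧ ((phi z π g d).1 = mX.1 ∨ (phi z π g d).1 = mX.1 * mX.1) := by
      intro d hd hdv hd3 hdi
      have hc := P.phi_comm_mu H C hd hdv (π := π)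
      rw [hu] at hc
      have hp : phi z π g d ^ 3 = 1 := by rw [← P.phi_pow H C hdv, hd3, P.phi_one H]
      rw [pow_succ, pow_two] at hp
      have h2 := d_no_three.1 _ (congrArg Prod.snd hc) (congrArg Prod.snd hp)
      refine ⟨h2, (d_no_three.2 _ (congrArg Prod.fst hp)).resolve_left fun e => ?_⟩
      exact P.lift_ne H C hd hdv hd3 hdi (Prod.ext e h2)
    obtain ⟨a2, a1⟩ := hy d1 d1C d1v d13 (by rw [d1i]; exact t5)
    obtain ⟨b2, b1⟩ := hy d2 d2C d2v d23 (by rw [d2i]; exact t6)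
    have hX3 : mX.1 * mX.1 * mX.1 = 1 := congrArg Prod.fst mX_pow.1
    have hd2v : d2 * d2 * vv z g = vv z g * (d2 * d2) := ((show Commute d2 (vv z g) from d2v).mul_left d2v).eq
    obtain ⟨d, hd, hdv, hdp, hdi⟩ : ∃ d ∈ Cz z, d * vv z g = vv z g * d ∧ phi z π g d = 1 ∧
        (img z π d) ^ 4 ≠ 1 := by
      by_cases he : (phi z π g d1).1 * (phi z π g d2).1 = 1
      · refine ⟨d1 * d2, (Cz z).mul_mem d1C d2C, ((show Commute d1 (vv z g) from d1v).mul_left d2v).eq,
          ?_, by rw [H.img_mul d1C d2C, d1i, d2i]; exact t9⟩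
        rw [P.phi_mul H d1v d2v]
        exact Prod.ext he (by rw [Prod.snd_mul, a2, b2, one_mul]; rfl)
      · refine ⟨d1 * (d2 * d2), (Cz z).mul_mem d1C ((Cz z).mul_mem d2C d2C),
          ((show Commute d1 (vv z g) from d1v).mul_left hd2v).eq, ?_,
          by rw [H.img_mul d1C ((Cz z).mul_mem d2C d2C), H.img_mul d2C d2C, d1i, d2i]; exact t10⟩
        rw [P.phi_mul H d1v hd2v, P.phi_mul H d2v d2v]
        refine Prod.ext ?_ (by rw [Prod.snd_mul, Prod.snd_mul, a2, b2, one_mul, one_mul]; rfl)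
        rw [Prod.fst_mul, Prod.fst_mul]
        rcases a1 with e | e <;> rcases b1 with f | f <;> rw [e, f] at he ⊢
        · rw [← mul_assoc]; exact hX3
        · exact absurd (by rw [← mul_assoc]; exact hX3) he
        · exact absurd hX3 he
        · calc mX.1 * mX.1 * (mX.1 * mX.1 * (mX.1 * mX.1))
              = (mX.1 * mX.1 * mX.1) * (mX.1 * mX.1 * mX.1) := by group
            _ = 1 := by rw [hX3, one_mul]
    have hmem : g * d * g⁻¹ ∈ Q := (H.img_eq_one (P.gC H hdv)).1 hdp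
    have h4 := H.pow_four hmem
    rw [conj_pow, mul_inv_eq_one, mul_eq_left] at h4
    exact hdi (by rw [← H.img_pow hd, h4, H.img_one])
  · -- the map is injective on the preimage of the commutators
    push Not at hex
    obtain ⟨q0, hq0Q, hq0f, hq0n⟩ := hex
    have hq0 := (P.two_cases H C hq0Q hq0f).resolve_left hq0n
    set e : ↥(rgT6.map Prod.fst).toFinset × Bool → G :=
      fun p => (bif p.2 then z else 1) * rep Q (ψ p.1.1) with he
    have heQ : ∀ p, e p ∈ Q := fun p => by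
      obtain ⟨u, b⟩ := p
      cases b
      · simpa [he] using rep_mem Q _
      · exact Q.mul_mem H.zQ (rep_mem Q _)
    have hecl : ∀ p, cl Q (e p) = ψ p.1.1 := fun p => by
      obtain ⟨u, b⟩ := p
      cases b <;> simp [he, cl_mul H.zQ, rep_mem, H.cl_z, cl_rep]
    have hinj : Function.Injective e := by
      rintro ⟨u, b⟩ ⟨u', b'⟩ h
      have hu : u = u' := Subtype.ext (C.bij.1 (by
        have := congrArg (cl Q) h
        rwa [hecl, hecl] at this))
      subst hu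
      have := mul_right_cancel h
      cases b <;> cases b' <;> simp [H.zne, Ne.symm H.zne] at this ⊢
    have hq : ∀ w ∈ rgT6.map Prod.fst, qv w = false ∧
        ∀ w' ∈ rgT6.map Prod.fst, vadd w w' ∈ rgT6.map Prod.fst := by
      intro w hw
      obtain ⟨p, hp, rfl⟩ := List.mem_map.1 hw
      have h := List.all_eq_true.1 hrb p hp
      simp only [Bool.and_eq_true, Bool.not_eq_true', List.all_eq_true] at h
      refine ⟨h.1, fun w' hw' => ?_⟩
      obtain ⟨p', hp', rfl⟩ := List.mem_map.1 hw'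
      exact List.contains_iff_mem.1 (h.2 p' hp').1
    have hsq : ∀ x ∈ Q, ∀ w ∈ rgT6.map Prod.fst, cl Q x = ψ w → x * x = 1 := fun x hx w hw hcl =>
      (H.st.sq_cases hx).resolve_right fun h => by
        have := (H.qT_cl hx).2 h
        rw [hcl, C.quad, (hq w hw).1] at this
        exact absurd this (by decide)
    have hmem : ∀ p : ↥(rgT6.map Prod.fst).toFinset × Bool, p.1.1 ∈ rgT6.map Prod.fst :=
      fun p => List.mem_toFinset.1 p.1.2
    have heA : ∀ p, e p ∈ Aq z Q g := fun p =>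
      (P.tab_om H C hm hrg hq0Q hq0 (heQ p) (hsq _ (heQ p) _ (hmem p) (hecl p)) (hecl p) (hmem p)).1
    set A := (phi z π g a).2 with hA
    set B := (phi z π g b).2 with hB
    have hab2 : A * B ≠ B * A := by
      intro h
      have h1 := congrArg Prod.snd (P.anti_phi H (π := π) ha hb hab).1
      simp only [Prod.snd_mul, Prod.snd_inv, ← hA, ← hB, h, mul_inv_cancel_right, hu] at h1
      exact absurd (mul_eq_right.1 h1.symm) (by decide +kernel)
    have hcentre : ∀ k ∈ Aq z Q g, (phi z π g k).2 * mD.2 = mD.2 * (phi z π g k).2 := fun k hk => by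
      have := congrArg Prod.snd (P.phi_comm H (π := π) hk)
      simpa [hu] using this
    have hd := List.all_eq_true.1 (List.all_eq_true.1 d_centre A (dCent_spec _ (hcentre a ha))) B
      (dCent_spec _ (hcentre b hb))
    simp only [Bool.or_eq_true, beq_iff_eq, hab2, false_or, decide_eq_true_eq] at hd
    set L := dCent.filter fun y => y * y == 1 && y * A == A * y && y * B == B * y
    have himg : ∀ p, (phi z π g (e p)).2 ∈ L.toFinset := by
      intro p
      rw [List.mem_toFinset, List.mem_filter]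
      refine ⟨dCent_spec _ (hcentre _ (heA p)), ?_⟩
      have c1 : ∀ k ∈ Aq z Q g, (phi z π g (e p)).2 * (phi z π g k).2 = (phi z π g k).2 * (phi z π g (e p)).2 := by
        intro k hk
        have hcom := P.tab_comm H C hm hrg (heQ p) hk.1 (hecl p) (hmem p) (P.Aq_fix H C hk)
        have := congrArg (fun x => (phi z π g x).2) hcom
        simpa [P.phi_mul H ((P.mem_Aq H).1 (heA p)).2 ((P.mem_Aq H).1 hk).2,
          P.phi_mul H ((P.mem_Aq H).1 hk).2 ((P.mem_Aq H).1 (heA p)).2] using this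
      have hs := congrArg Prod.snd (P.phi_sq H (π := π) (heA p) (hsq _ (heQ p) _ (hmem p) (hecl p)))
      simp only [Bool.and_eq_true, beq_iff_eq]
      exact ⟨⟨hs, hA ▸ c1 a ha⟩, hB ▸ c1 b hb⟩
    obtain ⟨p, -, p', -, hpp, hpeq⟩ := Finset.exists_ne_map_eq_of_card_lt_of_maps_to
      (s := (Finset.univ : Finset (↥(rgT6.map Prod.fst).toFinset × Bool))) (t := L.toFinset)
      (f := fun p => (phi z π g (e p)).2) (by
        rw [Finset.card_univ, Fintype.card_prod, Fintype.card_coe,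
          List.toFinset_card_of_nodup rg_card.2.2.2.2.2.2.2.2.1, List.length_map,
          rg_card.2.2.2.2.2.2.2.2.2, Fintype.card_bool]
        have := List.toFinset_card_le L
        omega) (fun p _ => himg p)
    have hys : e p * e p' ∈ Q := Q.mul_mem (heQ p) (heQ p')
    have hyw : cl Q (e p * e p') = ψ (vadd p.1.1 p'.1.1) := by
      rw [cl_mul (heQ p) (heQ p'), hecl, hecl, C.add]
    have hywm := (hq _ (hmem p)).2 _ (hmem p')
    have s' := hsq _ (heQ p') _ (hmem p') (hecl p')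
    have hy1 : e p * e p' ≠ 1 := fun h => hpp (hinj
      ((eq_inv_of_mul_eq_one_left h).trans (inv_eq_of_mul_eq_one_right s')))
    refine om_snd H C ((P.tab_om H C hm hrg hq0Q hq0 hys (hsq _ hys _ hywm hyw) hyw hywm).2 hy1) ?_
    rw [P.phi_mul H ((P.mem_Aq H).1 (heA p)).2 ((P.mem_Aq H).1 (heA p')).2, Prod.snd_mul, ← hpeq]
    exact congrArg Prod.snd (P.phi_sq H (heA p) (hsq _ (heQ p) _ (hmem p) (hecl p)))

theorem no_T (hm : img z π (vv z g) = mT6) : False := by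
  classical
  have hfx : ∀ w ∈ fxT, act mT6 w = w := fun w hw =>
    beq_iff_eq.1 (List.all_eq_true.1 t_facts.1 w hw)
  obtain ⟨W, hW, hWc⟩ := P.exists_fixed H C hm rg_card.2.2.2.2.2.2.1 hfx
  rw [rg_card.2.2.2.2.2.2.2.1] at hWc
  have hhalf := P.card_half H C hW
  obtain ⟨a, ha, b, hb, hab⟩ : ∃ a ∈ Aq z Q g, ∃ b ∈ Aq z Q g, a * b ≠ b * a := by
    by_contra h
    push Not at h
    have := H.card_abelian_le (B := Aq z Q g) inf_le_left h
    omega
  obtain ⟨hu1, hus⟩ := (P.anti_phi H (π := π) ha hb hab).2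
  obtain ⟨c, hc1, hc2, hr⟩ := class_cases (P.mu_sq H (π := π)) (P.mu_ne H)
  have hD : c * img z π (uu z g) * c⁻¹ = mD :=
    (rep_split _ hr).2 (by simp [hu1]) (by simp [map_mul, hus])
  obtain ⟨d, hd, hdi⟩ := H.lift' hc1 hc2
  obtain ⟨P', ev, eu⟩ := P.left H hd
  have hA : Aq z Q (d * g) = Aq z Q g := by rw [Aq, ev]
  exact P'.no_T_aux H C (by rw [ev, hm]) (by rw [eu, H.img_conj hd P.uC, hdi, hD])
    (hA.symm ▸ ha) (hA.symm ▸ hb) hab

end Pt

/-- only three classes remain -/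
theorem om_cases {m : M0} (hm : Om z Q π m) :
    ∃ c : M0, Perm.sign c.1 = 1 ∧ Perm.sign c.2 = 1 ∧ c * m * c⁻¹ ∈ [mD, mR3, mSR] := by
  obtain ⟨c, hc1, hc2, hr⟩ := class_cases (hm.sq H).1 (hm.sq H).2
  obtain ⟨h, Ph, hh⟩ := hm.conj H hc1 hc2
  refine ⟨c, hc1, hc2, ?_⟩
  have r := rg_card
  simp only [repList, List.mem_cons, List.mem_nil_iff, or_false] at hr ⊢
  rcases hr with e | e | e | e | e | e | e
  · exact (Ph.no_S H C (hh.trans e)).elim
  · exact (Ph.no_T H C (hh.trans e)).elim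
  · exact (Ph.no_c H C (hh.trans e) c_facts.1 r.2.2.1 r.2.2.2.1).elim
  · exact (Ph.no_c H C (hh.trans e) c_facts.2 r.2.2.2.2.1 r.2.2.2.2.2.1).elim
  all_goals simp [e]

theorem three_facts {m : M0} (h : m ∈ [mD, mR3, mSR]) :
    ∃ (rg : List (V × V)) (η : M0), tblOk m rg = true ∧ etaOk m η 3 (rg.map Prod.fst) = true ∧
      probeOk η (rg.map Prod.fst) = true ∧ η ^ 4 = η ∧ η ^ 3 = 1 := by
  obtain ⟨-, -, e3, e4, e5⟩ := eta_facts
  simp only [Bool.and_eq_true] at e3 e4 e5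
  simp only [List.mem_cons, List.mem_nil_iff, or_false] at h
  rcases h with rfl | rfl | rfl
  · exact ⟨rgD, mX, rg_facts.2.1, e3.1, e3.2, eta_pow.1, eta_pow.2.2.2.1⟩
  · exact ⟨rgR3, mX, rg_facts.2.2.1, e4.1, e4.2, eta_pow.1, eta_pow.2.2.2.1⟩
  · exact ⟨rgSR, eThreeS, rg_facts.2.2.2, e5.1, e5.2, eta_pow.2.1, eta_pow.2.2.2.2.1⟩

namespace Pt

variable (P : Pt z Q g)
include P

/-- in the remaining classes an element of order three moves the induced group -/
theorem partner {m : M0} (hm : img z π (vv z g) = m) (hmem : m ∈ [mD, mR3, mSR]) :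
    ∃ y : M0, y * img z π (uu z g) = img z π (uu z g) * y ∧ y * y * y = 1 ∧ y.2 ≠ 1 ∧
      ∃ a ∈ Aq z Q g, ∃ b ∈ Aq z Q g, phi z π g b = y * phi z π g a * y⁻¹ ∧
        (phi z π g b).2 ≠ (phi z π g a).2 ∧ phi z π g a * phi z π g a = 1 ∧
        phi z π g a * phi z π g b = phi z π g b * phi z π g a ∧
        ∀ x ∈ Aq z Q g, ∃ q ∈ Q, (x = dlt z g q ∨ x = z * dlt z g q) ∧
          dlt z g q * dlt z g q = 1 := by
  obtain ⟨rg, η, htb, hη, hpr, hη4, hη3⟩ := three_facts H C hmem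
  have hp := htb
  simp only [tblOk, Bool.and_eq_true] at hp
  obtain ⟨⟨⟨hfr, hrg⟩, hperp⟩, -⟩ := hp
  obtain ⟨hcm, hpow, hs1, hs2, hη1, -⟩ := etaOk_spec hη
  have hodd : Odd 3 := by decide
  have h0 := P.no_anti H C hm hfr hrg hodd hη
  have hfx : ∀ w ∈ rg.map Prod.fst, act m w = w := fun w hw => by
    obtain ⟨p, hp, rfl⟩ := List.mem_map.1 hw
    exact (rgOk_spec hrg hp).2
  obtain ⟨c0, hc0, hci0, hcv0⟩ := P.exists_lift H C hm hfx hperp hrg h0 hs1 hs2 hcm hodd hpow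
  obtain ⟨hc, hci, hcv, hc3⟩ := P.lift_exact H C (m := m) hc0 hci0 hcv0 hη4 hη3
  set c := c0 ^ 4
  set y := phi z π g c with hy
  have hy3 : y * y * y = 1 := by
    have : y ^ 3 = 1 := by rw [hy, ← P.phi_pow H C hcv, hc3, P.phi_one H]
    rwa [pow_succ, pow_two] at this
  have hcom : ∀ a ∈ Aq z Q g, phi z π g a * phi z π g (c * a * c⁻¹) =
      phi z π g (c * a * c⁻¹) * phi z π g a := fun a ha => by
    have hb := (P.phi_conj H C hc hcv ha (π := π)).1
    rw [← P.phi_mul H ((P.mem_Aq H).1 ha).2 ((P.mem_Aq H).1 hb).2,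
      P.Aq_comm H C hm htb ha hb, P.phi_mul H ((P.mem_Aq H).1 hb).2 ((P.mem_Aq H).1 ha).2]
  have hA2 : ∀ a ∈ Aq z Q g, a * a = 1 := fun a ha =>
    (P.elem_fix H C hm htb h0 ha.1 (P.Aq_fix H C ha)).1
  -- some element is moved
  obtain ⟨a, ha, hmove⟩ : ∃ a ∈ Aq z Q g, phi z π g (c * a * c⁻¹) ≠ phi z π g a := by
    by_contra hno
    push Not at hno
    simp only [probeOk, Bool.and_eq_true, Bool.not_eq_true', beq_iff_eq, decide_eq_true_eq] at hpr
    obtain ⟨⟨hlen, hnd⟩, hnz⟩ := hpr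
    have hN : ∀ w ∈ probes η (rg.map Prod.fst), ∃ n ∈ Aq z Q g, phi z π g n = 1 ∧ n ≠ 1 ∧
        cl Q n = ψ w := by
      intro w hw
      have hw0 : w ≠ (0, 0) := fun e => by
        rw [e] at hw
        exact absurd (List.contains_iff_mem.2 hw) (by rw [hnz]; decide)
      obtain ⟨u, hu, rfl⟩ := List.mem_map.1 hw
      have hu' : u ∈ rg.map Prod.fst := (List.mem_filter.1 (List.mem_of_mem_take hu)).1
      have hfa : ac Q (vv z g) (cl Q (rep Q (ψ u))) = cl Q (rep Q (ψ u)) := by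
        rw [cl_rep, P.ac_psi_v H C hm, hfx u hu']
      obtain ⟨s, hA, -⟩ := P.elem_fix H C hm htb h0 (rep_mem Q _) hfa
      obtain ⟨hB, -⟩ := P.phi_conj H C hc hcv hA (π := π)
      have hcl : cl Q (rep Q (ψ u) * (c * rep Q (ψ u) * c⁻¹)) = ψ (vadd u (act η u)) := by
        rw [cl_mul hA.1 hB.1, ← H.ac_cl hc hA.1, cl_rep, C.equiv c hc, hci, C.add]
      refine ⟨_, (Aq z Q g).mul_mem hA hB, ?_, fun e => hw0 (C.bij.1 ?_), hcl⟩
      · rw [P.phi_mul H ((P.mem_Aq H).1 hA).2 ((P.mem_Aq H).1 hB).2, hno _ hA, P.phi_sq H hA s]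
      · rw [← hcl, e, cl_one, Pt.coord_zero H C]
    generalize probes η (rg.map Prod.fst) = l at hlen hnd hN
    match l, hlen with
    | [w1, w2, w3, w4], _ =>
      obtain ⟨n1, a1, f1, e1, k1⟩ := hN w1 (by simp)
      obtain ⟨n2, a2, f2, e2, k2⟩ := hN w2 (by simp)
      obtain ⟨n3, a3, f3, e3, k3⟩ := hN w3 (by simp)
      obtain ⟨n4, a4, f4, e4, k4⟩ := hN w4 (by simp)
      simp only [List.nodup_cons, List.mem_cons, List.mem_nil_iff, or_false, not_or] at hnd
      obtain ⟨⟨d12, d13, d14⟩, ⟨d23, d24⟩, d34, -⟩ := hnd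
      have hd : ∀ {x x' : G} {u u' : V}, cl Q x = ψ u → cl Q x' = ψ u' → u ≠ u' → x ≠ x' :=
        fun hx hx' hne e => hne (C.bij.1 (by rw [← hx, e, hx']))
      exact P.no_four_kernel H C hm htb h0 a1 a2 a3 a4 f1 f2 f3 f4 ⟨e1, e2, e3, e4⟩
        (hd k1 k2 d12) (hd k1 k3 d13) (hd k1 k4 d14) (hd k2 k3 d23) (hd k2 k4 d24) (hd k3 k4 d34)
  obtain ⟨hbA, hb⟩ := P.phi_conj H C hc hcv ha (π := π)
  have hbc : (phi z π g (c * a * c⁻¹)).2 ≠ (phi z π g a).2 := by
    intro e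
    refine hmove (Prod.ext ?_ e)
    have e1 := congrArg Prod.fst (hcom a ha)
    have s1 := congrArg Prod.fst (P.phi_sq H (π := π) ha (hA2 a ha))
    have s2 := congrArg Prod.fst (P.phi_sq H (π := π) hbA (hA2 _ hbA))
    have hb1 : (phi z π g (c * a * c⁻¹)).1 = y.1 * (phi z π g a).1 * y.1⁻¹ := congrArg Prod.fst hb
    by_cases h : (phi z π g a).1 = 1
    · rw [hb1, h, mul_one, mul_inv_cancel]
    · refine (inv_three _ _ s1 s2 e1 h ?_).symm
      rw [hb1]
      exact fun h' => h (by simpa [mul_inv_eq_one] using h')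
  refine ⟨y, P.phi_comm_mu H C hc hcv, hy3, fun e => hbc ?_, a, ha, _, hbA, hb, hbc,
    P.phi_sq H ha (hA2 a ha), hcom a ha, fun x hx => ?_⟩
  · have := congrArg Prod.snd hb
    simpa [show (phi z π g c).2 = 1 from e] using this
  · obtain ⟨hx2, -, q, hq, e⟩ := P.elem_fix H C hm htb h0 hx.1 (P.Aq_fix H C hx)
    refine ⟨q, hq, e, ?_⟩
    rcases e with e | e
    · rw [← e]; exact hx2
    · rw [← H.sq_congr (P.dlt_mem H hq) (Or.inr e)]; exact hx2

end Pt

/-- every remaining class has three transpositions in the second factor -/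
theorem om_tri {m : M0} (hm : Om z Q π m) : tri m.2 = true := by
  obtain ⟨c, hc1, hc2, hr⟩ := om_cases H C hm
  obtain ⟨h, Ph, hh⟩ := hm.conj H hc1 hc2
  simp only [List.mem_cons, List.mem_nil_iff, or_false] at hr
  rcases hr with e | e
  swap
  · refine tri_conj (c := c.2) ?_
    rcases e with e | e
    · rw [show c.2 * m.2 * c.2⁻¹ = mR3.2 from congrArg Prod.snd e]; exact tri_reps.1
    · rw [show c.2 * m.2 * c.2⁻¹ = mSR.2 from congrArg Prod.snd e]; exact tri_reps.2.1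
  exfalso
  rw [e] at hh
  -- the partner's first conjugate lies in the same class
  have Pi := Ph.symm H
  have huv : uu z h⁻¹ = vv z h := by simp [uu, vv]
  obtain ⟨d, hd1, hd2, hdr⟩ := om_cases H C (Pi.om H (π := π))
  obtain ⟨k, hk, hki⟩ := H.lift' hd1 hd2
  obtain ⟨P', ev, eu⟩ := Pi.right H hk
  obtain ⟨y, hyu, hy3, hy2, -⟩ := P'.partner H C (m := d * img z π (vv z h⁻¹) * d⁻¹)
    (by rw [ev, H.img_conj hk (Pi.vC H), hki]) hdr
  rw [eu, huv, hh] at hyu
  exact hy2 (d_no_three.1 _ (congrArg Prod.snd hyu) (congrArg Prod.snd hy3))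

theorem coords_no_out (P : Pt z Q g) : False := by
  obtain ⟨c, hc1, hc2, hr⟩ := om_cases H C (P.om H (π := π))
  obtain ⟨k, hk, hki⟩ := H.lift' hc1 hc2
  obtain ⟨P1, ev, -⟩ := P.right H hk
  have hm1 : img z π (vv z (g * k⁻¹)) = c * img z π (vv z g) * c⁻¹ := by
    rw [ev, H.img_conj hk (P.vC H), hki]
  -- normalise the first conjugate
  set g1 := g * k⁻¹
  have hom : Om z Q π (img z π (uu z g1)) := ⟨g1⁻¹, P1.symm H, by rw [Pt.vv_inv H]⟩
  obtain ⟨d, hd1, hd2, hdr⟩ := om_cases H C hom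
  obtain ⟨l, hl, hli⟩ := H.lift' hd1 hd2
  obtain ⟨P2, ev2, eu2⟩ := P1.left H hl
  set g2 := l * g1
  obtain ⟨y, hyu, hy3, hy2, a, ha, b, hb, hby, hne, ha2, hab, hall⟩ := P2.partner H C
    (m := c * img z π (vv z g) * c⁻¹) (by rw [ev2, hm1]) hr
  have hmu : img z π (uu z g2) = d * img z π (uu z g1) * d⁻¹ := by
    rw [eu2, H.img_conj hl P1.uC, hli]
  have hmuR : (img z π (uu z g2)).2 = mR3.2 := by
    simp only [List.mem_cons, List.mem_nil_iff, or_false] at hdr
    rcases hdr with e | e | e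
    · exfalso
      rw [hmu, e] at hyu
      exact hy2 (d_no_three.1 _ (congrArg Prod.snd hyu) (congrArg Prod.snd hy3))
    · rw [hmu, e]
    · rw [hmu, e]; exact tri_reps.2.2.symm
  have hcond : ∀ x ∈ Aq z Q g2, tcond (phi z π g2 x).2 = true := by
    intro x hx
    obtain ⟨q, hq, e, hsq⟩ := hall x hx
    obtain ⟨hA, h1, h2⟩ := P2.key H (π := π) hq hsq
    have hk : (phi z π g2 (dlt z g2 q)).2 = 1 ∨ tri (phi z π g2 (dlt z g2 q)).2 = true := by
      by_cases hd : phi z π g2 (dlt z g2 q) = 1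
      · exact Or.inl (by rw [hd]; rfl)
      · exact Or.inr (om_tri H C (h2 hd))
    rcases e with e | e
    · rw [e]
      rcases hk with f | f <;> simp [tcond, f]
    · have hmul : (phi z π g2 x).2 * mR3.2 = (phi z π g2 (dlt z g2 q)).2 := by
        have : dlt z g2 q = x * z := by
          rw [H.st.z_comm hx.1, e, ← mul_assoc, H.z2, one_mul]
        rw [this, P2.phi_mul H ((P2.mem_Aq H).1 hx).2 ((P2.mem_Aq H).1 (P2.z_A H)).2, Prod.snd_mul,
          Pt.phi_z H g2, hmuR]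
      rw [← hmul] at hk
      rcases hk with f | f <;> simp [tcond, f]
  have hy2c : y.2 * mR3.2 = mR3.2 * y.2 := by
    have := congrArg Prod.snd hyu
    simpa [hmuR] using this
  have hac : (phi z π g2 a).2 * mR3.2 = mR3.2 * (phi z π g2 a).2 := by
    have := congrArg Prod.snd (P2.phi_comm H (π := π) ha)
    simpa [hmuR] using this
  have hbb : (phi z π g2 b).2 = y.2 * (phi z π g2 a).2 * y.2⁻¹ := congrArg Prod.snd hby
  refine tri_final y.2 hy2c (congrArg Prod.snd hy3) hy2 _ hac (congrArg Prod.snd ha2)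
    (hbb ▸ hne) (hbb ▸ congrArg Prod.snd hab) (hcond a ha) (hbb ▸ hcond b hb) ?_
  have := hcond _ ((Aq z Q g2).mul_mem ha hb)
  rw [P2.phi_mul H ((P2.mem_Aq H).1 ha).2 ((P2.mem_Aq H).1 hb).2, Prod.snd_mul, hbb] at this
  exact this

end CfsgLib.ThreeSixCent
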