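import Cfsg.Agent.Lib.ThreeSixCent.Split
import Cfsg.Agent.Lib.ThreeSixCent.Extra

/-!
The case in which the layer centralises the commutator of `Q` with the element of order three: that
commutator is a quaternion group.
-/

set_option autoImplicit false
set_option linter.unusedSectionVars false
set_option linter.style.haveILetI false

open Cfsg CfsgLib.Extraspecial
open Equiv (Perm)

namespace CfsgLib.ThreeSixCent

variable {G : Type*} [Group G] [Finite G] {z : G} {Q : Subgroup G} {π : ↥(Cz z) →* M0}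

theorem perm5_pair : ∀ σ τ : Perm (Fin 5), σ ^ 3 = 1 → σ * τ = τ * σ → τ ^ 3 = 1 →
    σ = 1 ∨ τ = 1 ∨ σ * τ = 1 ∨ σ * σ * τ = 1 := by decide +kernel

/-- the properties of the small case -/
structure Small (z : G) (Q : Subgroup G) (π : ↥(Cz z) →* M0) (x : G) : Prop where
  xC : x ∈ Cz z
  hx : img z π x = mX
  card : Nat.card {t : T Q // Nz Q x t} = 4
  triv : ∀ c ∈ Cz z, (img z π c).1 = 1 → ∀ t, Nz Q x t → ac Q c t = t
  sq : ∀ q ∈ Q, Nz Q x (cl Q q) → cl Q q ≠ 1 → q * q = z
  orth : ∀ q ∈ Q, ∀ p ∈ Q, Nz Q x (cl Q q) → ac Q x (cl Q p) = cl Q p → p * q = q * p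
  decomp : ∀ t : T Q, ∃ s u, t = s * u ∧ Nz Q x s ∧ ac Q x u = u
  inter : ∀ t : T Q, Nz Q x t → ac Q x t = t → t = 1

theorem mA_ne : mA ≠ 1 ∧ mB ≠ 1 ∧ mA * mB ≠ 1 ∧ mA * mA * mB ≠ 1 := by decide +kernel

theorem five : ∃ u : Perm (Fin 6), Perm.sign u = 1 ∧ u ^ 5 = 1 ∧ u ≠ 1 :=
  ⟨Equiv.swap 0 1 * Equiv.swap 1 2 * (Equiv.swap 2 3 * Equiv.swap 3 4), by decide +kernel⟩

theorem orbit_five {α : Type*} [Fintype α] (σ : Perm α) (h5 : σ ^ 5 = 1) (S : Finset α)
    (hS : ∀ t ∈ S, σ t ∈ S) (hf : ∀ t ∈ S, σ t ≠ t) : 5 ∣ S.card := by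
  classical
  haveI := Fact.mk (show Nat.Prime 5 by norm_num)
  let τ : Perm {t // t ∈ S} :=
    Equiv.ofBijective (fun t => ⟨σ t, hS t t.2⟩)
      (Finite.injective_iff_bijective.mp fun a b h => Subtype.ext (σ.injective (congrArg Subtype.val h)))
  have hτ : τ ^ (5 ^ 1) = 1 := by
    ext t
    have : ∀ n : ℕ, ((τ ^ n) t : α) = (σ ^ n) t := by
      intro n
      induction n with
      | zero => rfl
      | succ n ih =>
        rw [pow_succ', pow_succ', Equiv.Perm.mul_apply, Equiv.Perm.mul_apply, ← ih]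
        rfl
    rw [this, pow_one, h5]
    rfl
  have h := Equiv.Perm.card_compl_support_modEq (p := 5) hτ
  have h0 : τ.supportᶜ = ∅ := by
    rw [Finset.eq_empty_iff_forall_notMem]
    intro t ht
    rw [Finset.mem_compl, Equiv.Perm.notMem_support] at ht
    exact hf t t.2 (congrArg Subtype.val ht)
  rw [h0, Finset.card_empty, Fintype.card_coe] at h
  exact Nat.dvd_of_mod_eq_zero h.symm

namespace Pre

variable (H : Pre z Q π)
include H

/-- an element of the centraliser as a permutation of `Q/Z` -/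
noncomputable def perm {c : G} (hc : c ∈ Cz z) : Perm (T Q) :=
  Equiv.ofBijective (ac Q c) (Finite.injective_iff_bijective.mp fun _ _ h => H.ac_inj hc h)

theorem perm_apply {c : G} (hc : c ∈ Cz z) (t : T Q) : H.perm hc t = ac Q c t := rfl

theorem perm_pow {c : G} (hc : c ∈ Cz z) (n : ℕ) (t : T Q) : (H.perm hc ^ n) t = ac Q (c ^ n) t := by
  induction n with
  | zero => rw [pow_zero, pow_zero, Equiv.Perm.one_apply, H.ac_Q Q.one_mem]
  | succ n ih => rw [pow_succ', pow_succ', Equiv.Perm.mul_apply, ih, H.perm_apply,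
      H.ac_comp hc ((Cz z).pow_mem hc n)]

theorem perm_pow_one {c : G} (hc : c ∈ Cz z) {n : ℕ} (h : img z π c ^ n = 1) : H.perm hc ^ n = 1 := by
  ext t
  rw [H.perm_pow hc]
  exact H.ac_Q ((H.img_eq_one ((Cz z).pow_mem hc n)).1 (by rw [H.img_pow hc, h])) t

theorem small_of {x a b p r : G} (F : Frame π x a b p r) (hsm : ∀ t, Nz Q x t → ac Q a t = t) :
    Small z Q π x := by
  classical
  have := Fintype.ofFinite G
  letI : CommGroup (T Q) := { (inferInstance : Group (T Q)) with mul_comm := H.T_comm }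
  haveI : Fintype (T Q) := Fintype.ofFinite _
  have hxC := F.xC
  have x3 : ∀ t, ac Q x (ac Q x (ac Q x t)) = t :=
    H.ac_cube hxC (by rw [F.hx]; exact mX_pow.1)
  have comm1 : ∀ c ∈ Cz z, (img z π c).1 = 1 → ∀ t, ac Q x (ac Q c t) = ac Q c (ac Q x t) :=
    fun c hc h1 => H.ac_comm hxC hc (F.comm_x H h1)
  -- the layer centralises the commutator
  haveI : IsSimpleGroup ↥(alternatingGroup (Fin 6)) := alternatingGroup.isSimpleGroup (by simp)
  let N : Subgroup ↥(alternatingGroup (Fin 6)) :=
    { carrier := {m | ∀ c ∈ Cz z, img z π c = (1, (m : Perm (Fin 6))) → ∀ t, Nz Q x t → ac Q c t = t}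
      one_mem' := fun c hc h t _ => H.ac_Q ((H.img_eq_one hc).1 h) t
      mul_mem' := by
        intro m n hm hn c hc h t ht
        obtain ⟨d, hd, hdi⟩ := H.lift' (m := ((1 : Perm (Fin 3)), (n : Perm (Fin 6)))) (map_one _) n.2
        have e : img z π (c * d⁻¹) = (1, (m : Perm (Fin 6))) := by
          rw [H.img_mul hc ((Cz z).inv_mem hd), H.img_inv hd, h, hdi]
          ext1 <;> simp
        rw [show c = c * d⁻¹ * d by group, H.ac_comp ((Cz z).mul_mem hc ((Cz z).inv_mem hd)) hd,
          hn d hd hdi t ht, hm _ ((Cz z).mul_mem hc ((Cz z).inv_mem hd)) e t ht]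
      inv_mem' := by
        intro m hm c hc h t ht
        have e : img z π c⁻¹ = (1, (m : Perm (Fin 6))) := by
          rw [H.img_inv hc, h]
          ext1 <;> simp
        apply H.ac_inj ((Cz z).inv_mem hc)
        rw [H.ac_inv hc, hm _ ((Cz z).inv_mem hc) e t ht] }
  haveI : N.Normal := ⟨by
    intro m hm g c hc h t ht
    obtain ⟨d, hd, hdi⟩ := H.lift' (m := ((1 : Perm (Fin 3)), (g : Perm (Fin 6)))) (map_one _) g.2
    have hd1 : (img z π d).1 = 1 := by rw [hdi]
    have hde : d⁻¹ * c * d ∈ Cz z := (Cz z).mul_mem ((Cz z).mul_mem ((Cz z).inv_mem hd) hc) hd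
    have e : img z π (d⁻¹ * c * d) = (1, (m : Perm (Fin 6))) := by
      rw [H.img_mul ((Cz z).mul_mem ((Cz z).inv_mem hd) hc) hd, H.img_mul ((Cz z).inv_mem hd) hc,
        H.img_inv hd, h, hdi]
      ext1 <;> simp [mul_assoc]
    have htd : Nz Q x (ac Q d⁻¹ t) := H.nz_ac hxC ((Cz z).inv_mem hd)
      (F.comm_x H (by rw [H.img_inv hd, Prod.fst_inv, hd1, inv_one])) ht
    have := hm _ hde e _ htd
    rw [show d⁻¹ * c * d = d⁻¹ * (c * d) by group, H.ac_comp ((Cz z).inv_mem hd) ((Cz z).mul_mem hc hd),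
      H.ac_comp hc hd] at this
    have h2 := H.ac_inj ((Cz z).inv_mem hd) this
    have h3 : ac Q d (ac Q d⁻¹ t) = t := by
      rw [← H.ac_comp hd ((Cz z).inv_mem hd), mul_inv_cancel, H.ac_Q Q.one_mem]
    rwa [h3] at h2⟩
  have hN : N = ⊤ := by
    refine (‹N.Normal›.eq_bot_or_eq_top).resolve_left fun hbot => ?_
    have hm : (⟨mA.2, mX_sign.2.1⟩ : ↥(alternatingGroup (Fin 6))) ∈ N := fun c hc h t ht => by
      rw [H.ac_img hc F.aC (h.trans (by rw [F.ha]; exact (Prod.ext rfl rfl))) t]
      exact hsm t ht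
    rw [hbot, Subgroup.mem_bot] at hm
    exact absurd (congrArg Subtype.val hm) (by decide +kernel)
  have trivJ : ∀ c ∈ Cz z, (img z π c).1 = 1 → Perm.sign (img z π c).2 = 1 →
      ∀ t, Nz Q x t → ac Q c t = t := fun c hc h1 h2 =>
    (hN.ge (Subgroup.mem_top ⟨(img z π c).2, h2⟩)) c hc (Prod.ext h1 rfl)
  -- the two subgroups
  let T1 : Subgroup (T Q) :=
    { carrier := {t | Nz Q x t}
      one_mem' := by
        show (1 : T Q) * ac Q x 1 * ac Q x (ac Q x 1) = 1
        simp only [H.ac_one_t hxC, mul_one]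
      mul_mem' := fun hs ht => H.nz_mul hxC hs ht
      inv_mem' := fun {t} ht => by
        show Nz Q x t⁻¹
        rw [H.T_inv]; exact ht }
  let T0 : Subgroup (T Q) :=
    { carrier := {t | ac Q x t = t}
      one_mem' := H.ac_one_t hxC
      mul_mem' := fun {s t} hs ht => by
        show ac Q x (s * t) = s * t
        rw [H.ac_mul hxC, show ac Q x s = s from hs, show ac Q x t = t from ht]
      inv_mem' := fun {t} ht => by
        show ac Q x t⁻¹ = t⁻¹
        rw [H.T_inv]; exact ht }
  have hinter : ∀ t : T Q, Nz Q x t → ac Q x t = t → t = 1 := fun t h1 h2 => by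
    rw [Nz, h2, h2, H.T_sq, one_mul] at h1
    exact h1
  have hdec : ∀ t : T Q, ∃ s u, t = s * u ∧ Nz Q x s ∧ ac Q x u = u := by
    intro t
    refine ⟨ac Q x t * ac Q x (ac Q x t), t * ac Q x t * ac Q x (ac Q x t), ?_, ?_, ?_⟩
    · calc t = t * (ac Q x t * ac Q x t) * (ac Q x (ac Q x t) * ac Q x (ac Q x t)) := by
            rw [H.T_sq, H.T_sq, mul_one, mul_one]
        _ = _ := by ac_rfl
    · unfold Nz
      simp only [H.ac_mul hxC, x3]
      calc _ = (t * t) * (ac Q x t * ac Q x t) * (ac Q x (ac Q x t) * ac Q x (ac Q x t)) := by ac_rfl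
        _ = 1 := by simp only [H.T_sq]
    · simp only [H.ac_mul hxC, x3]
      ac_rfl
  have hprod : Nat.card T1 * Nat.card T0 = 256 := by
    rw [← Nat.card_prod, ← H.card_T]
    refine Nat.card_eq_of_bijective (fun st : T1 × T0 => (st.1 : T Q) * st.2) ⟨?_, ?_⟩
    · intro a b h
      have h' : ((a.1 : T Q) * b.1) = a.2 * b.2 := by
        calc (a.1 : T Q) * b.1 = (a.1 * a.2) * (b.1 : T Q) * a.2 := by
              rw [show (a.1 : T Q) * a.2 * b.1 * a.2 = a.1 * b.1 * (a.2 * a.2) by ac_rfl, H.T_sq, mul_one]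
          _ = (b.1 * b.2) * (b.1 : T Q) * a.2 := by
              rw [show (a.1 : T Q) * a.2 = b.1 * b.2 from h]
          _ = a.2 * b.2 := by
              rw [show (b.1 : T Q) * b.2 * b.1 * a.2 = (b.1 * b.1) * (a.2 * b.2) by ac_rfl, H.T_sq, one_mul]
      have h1 : (a.1 : T Q) * b.1 = 1 :=
        hinter _ (T1.mul_mem a.1.2 b.1.2) (h' ▸ T0.mul_mem a.2.2 b.2.2)
      refine Prod.ext (Subtype.ext (H.T_mul_eq_one.1 h1)) (Subtype.ext (H.T_mul_eq_one.1 ?_))
      rw [← h', h1]
    · intro t
      obtain ⟨s, u, rfl, hs, hu⟩ := hdec t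
      exact ⟨(⟨s, hs⟩, ⟨u, hu⟩), rfl⟩
  have hT1ne : T1 ≠ ⊥ := by
    intro hb
    have hQx : x ∈ Q := H.faithful hxC fun t => by
      obtain ⟨s, u, rfl, hs, hu⟩ := hdec t
      have : s = 1 := Subgroup.mem_bot.mp (hb.le hs)
      rw [this, one_mul, hu]
    have := (H.img_eq_one hxC).2 hQx
    rw [F.hx] at this
    revert this; decide +kernel
  -- nothing nontrivial of the layer centralises the fixed points
  have faith : ∀ c ∈ Cz z, (img z π c).1 = 1 → Perm.sign (img z π c).2 = 1 →
      (∀ t ∈ T0, ac Q c t = t) → img z π c = 1 := fun c hc h1 h2 h =>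
    (H.img_eq_one hc).2 (H.faithful hc fun t => by
      obtain ⟨s, u, rfl, hs, hu⟩ := hdec t
      rw [H.ac_mul hc, trivJ c hc h1 h2 s hs, h u hu])
  obtain ⟨u5, hu5s, hu55, hu5ne⟩ := five
  obtain ⟨u, huC, hui⟩ := H.lift' (m := ((1 : Perm (Fin 3)), u5)) (map_one _) hu5s
  have hu1 : (img z π u).1 = 1 := by rw [hui]
  have hu0 : ∀ t ∈ T0, ac Q u t ∈ T0 := fun t ht => by
    show ac Q x (ac Q u t) = ac Q u t
    rw [comm1 u huC hu1, show ac Q x t = t from ht]
  have hUne : img z π u ≠ 1 := by
    rw [hui]; exact fun h => hu5ne (congrArg Prod.snd h)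
  have hU5 := H.perm_pow_one huC (n := 5) (by rw [hui]; exact Prod.ext (one_pow _) hu55)
  let σ := H.perm huC
  let Fx : Subgroup (T Q) :=
    { carrier := {t | t ∈ T0 ∧ ac Q u t = t}
      one_mem' := ⟨T0.one_mem, H.ac_one_t huC⟩
      mul_mem' := fun {s t} hs ht => ⟨T0.mul_mem hs.1 ht.1, by rw [H.ac_mul huC, hs.2, ht.2]⟩
      inv_mem' := fun {t} ht => by rw [H.T_inv]; exact ht }
  have hFlt : Nat.card Fx < Nat.card T0 := by
    refine lt_of_le_of_ne (Subgroup.card_le_of_le fun t ht => ht.1) fun e => hUne ?_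
    have := Subgroup.eq_of_le_of_card_ge (show Fx ≤ T0 from fun t ht => ht.1) e.ge
    exact faith u huC hu1 (by rw [hui]; exact hu5s) fun t ht => (this.ge ht).2
  have h5dvd : 5 ∣ Nat.card T0 - Nat.card Fx := by
    have h := orbit_five σ hU5 ((T0 : Set (T Q)).toFinset \ (Fx : Set (T Q)).toFinset)
      (fun t ht => by
        simp only [Finset.mem_sdiff, Set.mem_toFinset, SetLike.mem_coe] at ht ⊢
        refine ⟨hu0 t ht.1, fun hF => ht.2 ⟨ht.1, ?_⟩⟩
        exact H.ac_inj huC hF.2)
      (fun t ht he => by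
        simp only [Finset.mem_sdiff, Set.mem_toFinset, SetLike.mem_coe] at ht
        exact ht.2 ⟨ht.1, he⟩)
    rw [Finset.card_sdiff_of_subset (by
      intro t ht
      simp only [Set.mem_toFinset, SetLike.mem_coe] at ht ⊢
      exact ht.1)] at h
    rw [Set.toFinset_card, Set.toFinset_card, ← Nat.card_eq_fintype_card, ← Nat.card_eq_fintype_card] at h
    exact h
  -- the dimensions
  have hX3 : 3 ∣ Nat.card T1 - 1 := by
    haveI := Fact.mk (show Nat.Prime 3 by norm_num)
    let τ : Perm T1 := Equiv.ofBijective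
      (fun t => ⟨ac Q x t, H.nz_ac hxC hxC rfl t.2⟩)
      (Finite.injective_iff_bijective.mp fun a b h =>
        Subtype.ext (H.ac_inj hxC (congrArg Subtype.val h)))
    have hτ : τ ^ (3 ^ 1) = 1 := by
      ext t
      rw [pow_one, pow_succ, pow_two]
      exact x3 t
    have h := Equiv.Perm.card_compl_support_modEq (p := 3) hτ
    have h0 : τ.supportᶜ = {1} := by
      ext t
      rw [Finset.mem_compl, Equiv.Perm.notMem_support, Finset.mem_singleton]
      constructor
      · intro e
        exact Subtype.ext (hinter t t.2 (congrArg Subtype.val e))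
      · rintro rfl
        exact Subtype.ext (H.ac_one_t hxC)
    rw [h0, Finset.card_singleton, ← Nat.card_eq_fintype_card] at h
    exact (Nat.modEq_iff_dvd' Nat.card_pos).mp h
  haveI : Fact (Nat.Prime 2) := ⟨Nat.prime_two⟩
  have h2T : IsPGroup 2 (T Q) := IsPGroup.of_card (show Nat.card (T Q) = 2 ^ 8 by rw [H.card_T]; norm_num)
  obtain ⟨i, hi⟩ := IsPGroup.iff_card.mp (h2T.to_subgroup T1)
  obtain ⟨j, hj⟩ := IsPGroup.iff_card.mp (h2T.to_subgroup T0)
  obtain ⟨k, hk⟩ := IsPGroup.iff_card.mp (h2T.to_subgroup Fx)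
  have hij : i + j = 8 := by
    rw [hi, hj, ← pow_add, show (256 : ℕ) = 2 ^ 8 by norm_num] at hprod
    exact Nat.pow_right_injective le_rfl hprod
  have hi0 : i ≠ 0 := fun h => hT1ne (Subgroup.eq_bot_of_card_eq _ (by rw [hi, h, pow_zero]))
  rw [hk, hj] at hFlt
  rw [hk, hj] at h5dvd
  rw [hi] at hX3
  have hkj : k < j := (Nat.pow_lt_pow_iff_right (by norm_num)).mp hFlt
  have hcases : (i = 2 ∧ j = 6) ∨ (i = 4 ∧ j = 4 ∧ k = 0) := by
    have : i ≤ 8 := by omega
    obtain rfl : j = 8 - i := by omega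
    interval_cases i <;> first | omega | (interval_cases k <;> omega)
  have horth : ∀ q ∈ Q, ∀ p ∈ Q, Nz Q x (cl Q q) → ac Q x (cl Q p) = cl Q p → p * q = q * p := by
    intro q hq p hp hn hf
    obtain ⟨x', hx'C, hx'i, hx'p⟩ : ∃ x' ∈ Cz z, img z π x' = mX ∧ x' * p * x'⁻¹ = p := by
      rw [H.ac_cl hxC hp, H.cl_eq_iff (H.conjQ hxC hp) hp] at hf
      rcases hf with e | e
      · exact ⟨x, hxC, F.hx, e⟩
      · refine ⟨x * x * x * x, (Cz z).mul_mem ((Cz z).mul_mem ((Cz z).mul_mem hxC hxC) hxC) hxC, ?_, ?_⟩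
        · rw [H.img_mul ((Cz z).mul_mem ((Cz z).mul_mem hxC hxC) hxC) hxC,
            H.img_mul ((Cz z).mul_mem hxC hxC) hxC, H.img_mul hxC hxC, F.hx, mX_pow.1, one_mul]
        · have hz : x * z * x⁻¹ = z := by rw [mem_Cz.1 hxC, mul_inv_cancel_right]
          have hxe : ∀ w, x * (z * w) * x⁻¹ = z * (x * w * x⁻¹) := fun w => by
            rw [show x * (z * w) * x⁻¹ = (x * z * x⁻¹) * (x * w * x⁻¹) by group, hz]
          have e4 : x * x * x * x * p * (x * x * x * x)⁻¹
              = x * (x * (x * (x * p * x⁻¹) * x⁻¹) * x⁻¹) * x⁻¹ := by group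
          rw [e4, e, hxe, e, ← mul_assoc z z, H.z2, one_mul, e, hxe, e, ← mul_assoc z z, H.z2, one_mul]
    set q1 := x' * q * x'⁻¹ with hq1
    set q2 := x' * q1 * x'⁻¹ with hq2
    have hx'z : x' * z * x'⁻¹ = z := by rw [mem_Cz.1 hx'C, mul_inv_cancel_right]
    rcases H.st.comm_cases hp hq with e | e
    · exact mul_inv_eq_iff_eq_mul.mp e
    exfalso
    have e1 : p * q1 * p⁻¹ = z * q1 := by
      calc p * q1 * p⁻¹ = (x' * p * x'⁻¹) * (x' * q * x'⁻¹) * (x' * p * x'⁻¹)⁻¹ := by rw [hx'p]
        _ = x' * (p * q * p⁻¹) * x'⁻¹ := by group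
        _ = (x' * z * x'⁻¹) * q1 := by rw [e, hq1]; group
        _ = z * q1 := by rw [hx'z]
    have e2 : p * q2 * p⁻¹ = z * q2 := by
      calc p * q2 * p⁻¹ = (x' * p * x'⁻¹) * (x' * q1 * x'⁻¹) * (x' * p * x'⁻¹)⁻¹ := by rw [hx'p]
        _ = x' * (p * q1 * p⁻¹) * x'⁻¹ := by group
        _ = (x' * z * x'⁻¹) * q2 := by rw [e1, hq2]; group
        _ = z * q2 := by rw [hx'z]
    have hq1m : q1 ∈ Q := H.conjQ hx'C hq
    have hq2m : q2 ∈ Q := H.conjQ hx'C hq1m
    have hprod' : cl Q (q * q1 * q2) = 1 := by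
      rw [cl_mul (Q.mul_mem hq hq1m) hq2m, cl_mul hq hq1m, hq2, ← H.ac_cl hx'C hq1m, hq1,
        ← H.ac_cl hx'C hq, H.ac_img hx'C hxC (hx'i.trans F.hx.symm),
        H.ac_img hx'C hxC (hx'i.trans F.hx.symm)]
      exact hn
    have hc : p * (q * q1 * q2) * p⁻¹ = q * q1 * q2 := by
      rcases (H.cl_eq_one (Q.mul_mem (Q.mul_mem hq hq1m) hq2m)).1 hprod' with h | h <;> rw [h]
      · group
      · rw [H.st.z_comm hp, mul_inv_cancel_right]
    rw [show p * (q * q1 * q2) * p⁻¹ = (p * q * p⁻¹) * (p * q1 * p⁻¹) * (p * q2 * p⁻¹) by group, e, e1, e2,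
      show z * q * (z * q1) * (z * q2) = z * (q * z) * q1 * z * q2 by group, H.st.z_comm hq,
      ← mul_assoc z z q, H.z2, one_mul, mul_assoc (q * q1) z q2, ← H.st.z_comm hq2m] at hc
    exact H.zne (mul_left_cancel ((mul_assoc _ _ _).trans (hc.trans (mul_one _).symm)))
  rcases hcases with ⟨rfl, rfl⟩ | ⟨rfl, rfl, rfl⟩
  swap
  · -- four dimensions of fixed points are impossible
    exfalso
    have hfix1 : ∀ t ∈ T0, ac Q u t = t → t = 1 := fun t ht he => by
      have := Subgroup.eq_bot_of_card_eq Fx (by rw [hk, pow_zero])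
      exact Subgroup.mem_bot.mp (this.le ⟨ht, he⟩)
    let qf : T Q → Bool := fun t => decide (rep Q t * rep Q t = z)
    have hqinv : ∀ c ∈ Cz z, ∀ t, qf (ac Q c t) = qf t := by
      intro c hc t
      simp only [qf, decide_eq_decide]
      have h1 := H.conjQ hc (rep_mem Q t)
      have key : rep Q (ac Q c t) * rep Q (ac Q c t) = c * (rep Q t * rep Q t) * c⁻¹ := by
        have h2 : cl Q (rep Q (ac Q c t)) = cl Q (c * rep Q t * c⁻¹) := cl_rep Q _
        rcases (H.cl_eq_iff (rep_mem Q _) h1).1 h2 with e | e <;> rw [e]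
        · group
        · calc z * (c * rep Q t * c⁻¹) * (z * (c * rep Q t * c⁻¹))
              = z * (c * rep Q t * c⁻¹ * z) * (c * rep Q t * c⁻¹) := by group
            _ = (z * z) * (c * rep Q t * c⁻¹) * (c * rep Q t * c⁻¹) := by rw [H.st.z_comm h1]; group
            _ = _ := by rw [H.z2]; group
      rw [key]
      constructor
      · intro e
        calc rep Q t * rep Q t = c⁻¹ * (c * (rep Q t * rep Q t) * c⁻¹) * c := by group
          _ = c⁻¹ * (z * c) := by rw [e, mul_assoc]
          _ = z := by rw [← mem_Cz.1 hc, inv_mul_cancel_left]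
      · intro e
        rw [e, mem_Cz.1 hc, mul_inv_cancel_right]
    let Sg : Bool → Finset (T Q) := fun v => Finset.univ.filter fun t => t ∈ T0 ∧ t ≠ 1 ∧ qf t = v
    have hS5 : ∀ v, 5 ∣ (Sg v).card := fun v => orbit_five σ hU5 (Sg v)
      (fun t ht => by
        simp only [Sg, Finset.mem_filter, Finset.mem_univ, true_and] at ht ⊢
        exact ⟨hu0 t ht.1, fun e => ht.2.1 ((H.ac_eq_one huC).1 e), (hqinv u huC t).trans ht.2.2⟩)
      (fun t ht he => by
        simp only [Sg, Finset.mem_filter, Finset.mem_univ, true_and] at ht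
        exact ht.2.1 (hfix1 t ht.1 he))
    have hsum : (Sg true).card + (Sg false).card = 15 := by
      rw [← Finset.card_union_of_disjoint]
      · have : Sg true ∪ Sg false = ((T0 : Set (T Q)).toFinset).erase 1 := by
          ext t
          simp only [Sg, Finset.mem_union, Finset.mem_filter, Finset.mem_univ, true_and,
            Finset.mem_erase, Set.mem_toFinset, SetLike.mem_coe]
          cases qf t <;> simp [and_comm]
        rw [this, Finset.card_erase_of_mem (by simp [T0.one_mem]), Set.toFinset_card,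
          ← Nat.card_eq_fintype_card, SetLike.coe_sort_coe, hj]
        norm_num
      · rw [Finset.disjoint_left]
        intro t h1 h2
        simp only [Sg, Finset.mem_filter, Finset.mem_univ, true_and] at h1 h2
        exact Bool.noConfusion (h1.2.2.symm.trans h2.2.2)
    -- the form is not constant
    have hnc : ∀ v, (Sg v).card ≠ 15 := by
      intro v hv
      have hall : ∀ t ∈ T0, t ≠ 1 → qf t = v := by
        intro t ht hne
        cases hq : qf t <;> cases v <;> first | rfl | exfalso
        all_goals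
          have h0 : (Sg (qf t)).card = 0 := by rw [hq]; omega
          rw [Finset.card_eq_zero] at h0
          exact Finset.notMem_empty t (h0 ▸ by simp [Sg, ht, hne])
      have hsq : ∀ q ∈ Q, cl Q q ∈ T0 → cl Q q ≠ 1 → (q * q = z ↔ v = true) := by
        intro q hq hq0 hne
        have h := hall _ hq0 hne
        have e : rep Q (cl Q q) * rep Q (cl Q q) = q * q := by
          rcases (H.cl_eq_iff (rep_mem Q _) hq).1 (cl_rep Q _) with e | e <;> rw [e]
          calc z * q * (z * q) = z * (q * z) * q := by group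
            _ = (z * z) * q * q := by rw [H.st.z_comm hq]; group
            _ = q * q := by rw [H.z2, one_mul]
        simp only [qf, e] at h
        rw [← h, decide_eq_true_iff]
      -- two elements with different classes
      have hcb : ∀ p ∈ Q, ∀ q ∈ Q, cl Q p ∈ T0 → cl Q q ∈ T0 → cl Q p ≠ 1 → cl Q q ≠ 1 →
          cl Q p ≠ cl Q q → (p * q * p⁻¹ = z * q ↔ v = true) := by
        intro p hp q hq hp0 hq0 hp1 hq1 hne
        have hpq : cl Q (p * q) ≠ 1 := by rw [cl_mul hp hq]; exact fun e => hne (H.T_mul_eq_one.1 e)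
        have hpq0 : cl Q (p * q) ∈ T0 := by rw [cl_mul hp hq]; exact T0.mul_mem hp0 hq0
        have h3 := hsq _ (Q.mul_mem hp hq) hpq0 hpq
        have sq : ∀ q ∈ Q, cl Q q ∈ T0 → cl Q q ≠ 1 → q * q = if v then z else 1 := by
          intro q hq hq0 hne
          cases v
          · rcases H.st.sq_cases hq with e | e
            · exact e
            · exact absurd ((hsq q hq hq0 hne).1 e) (by simp)
          · exact (hsq q hq hq0 hne).2 rfl
        have e : p * q * (p * q) = (p * q * p⁻¹ * q⁻¹) * (q * (p * p) * q) := by group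
        have hpp := sq p hp hp0 hp1
        have hqq := sq q hq hq0 hq1
        have hpqq := sq _ (Q.mul_mem hp hq) hpq0 hpq
        have hc : q * (p * p) * q = (p * p) * (q * q) := by
          rw [hpp]
          cases v
          · simp
          · simp only [if_true]; rw [H.st.z_comm hq]; group
        rw [hpqq, hc, hpp, hqq] at e
        have hzz : (if v then z else (1 : G)) * (if v then z else 1) = 1 := by
          cases v <;> simp [H.z2]
        rw [hzz, mul_one] at e
        constructor
        · intro h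
          cases v
          · exfalso
            rw [h] at e
            exact H.zne (by simpa using e.symm)
          · rfl
        · intro h
          subst h
          simp only [if_true] at e
          calc p * q * p⁻¹ = (p * q * p⁻¹ * q⁻¹) * q := by group
            _ = z * q := by rw [← e]
      -- choose three independent classes
      have hbig : ∀ L : List (T Q), L.length ≤ 8 → ∃ t ∈ T0, t ∉ L := by
        intro L hL
        by_contra h
        push Not at h
        have := Finset.card_le_card (show (T0 : Set (T Q)).toFinset ⊆ L.toFinset from fun t ht => by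
          simp only [Set.mem_toFinset, SetLike.mem_coe] at ht
          simpa using h t ht)
        rw [Set.toFinset_card, ← Nat.card_eq_fintype_card, SetLike.coe_sort_coe, hj] at this
        have := this.trans (List.toFinset_card_le L)
        omega
      obtain ⟨t1, ht1, hn1⟩ := hbig [1] (by simp)
      obtain ⟨t2, ht2, hn2⟩ := hbig [1, t1] (by simp)
      obtain ⟨t3, ht3, hn3⟩ := hbig [1, t1, t2, t1 * t2] (by simp)
      simp only [List.mem_cons, List.not_mem_nil, or_false, not_or] at hn1 hn2 hn3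
      obtain ⟨n31, n3a, n3b, n3ab⟩ := hn3
      set p1 := rep Q t1
      set p2 := rep Q t2
      set p3 := rep Q t3
      have c1 : cl Q p1 = t1 := cl_rep Q t1
      have c2 : cl Q p2 = t2 := cl_rep Q t2
      have c3 : cl Q p3 = t3 := cl_rep Q t3
      have m1 : p1 ∈ Q := rep_mem Q t1
      have m2 : p2 ∈ Q := rep_mem Q t2
      have m3 : p3 ∈ Q := rep_mem Q t3
      cases v
      · -- all commute: degenerate
        obtain ⟨w, hw, hwm⟩ := H.st.exists_move m1 (fun e => hn1 (by rw [← c1, e, cl_one]))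
          (fun e => hn1 (by rw [← c1, e, H.cl_z]))
        obtain ⟨s, d, hsd, hs, hd⟩ := hdec (cl Q w)
        set ws := rep Q s
        set wd := rep Q d
        have hcomm : ∀ y ∈ Q, cl Q y = cl Q w → p1 * y = y * p1 → False := by
          intro y hy hyw hcm
          rcases (H.cl_eq_iff hy hw).1 hyw with e | e <;> subst e
          · rw [mul_inv_eq_iff_eq_mul] at hwm
            exact H.zne (mul_eq_right.mp (mul_right_cancel (hwm.symm.trans hcm.symm)))
          · rw [mul_inv_eq_iff_eq_mul] at hwm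
            have : w * p1 = p1 * w := by
              apply mul_left_cancel (a := z)
              rw [← mul_assoc z w, hcm.symm, ← mul_assoc, H.st.z_comm m1, mul_assoc]
            exact H.zne (mul_eq_right.mp (mul_right_cancel (hwm.symm.trans this)))
        refine hcomm (ws * wd) (Q.mul_mem (rep_mem Q s) (rep_mem Q d))
          (by rw [cl_mul (rep_mem Q s) (rep_mem Q d), cl_rep, cl_rep, hsd]) ?_
        have k1 : p1 * ws = ws * p1 := horth ws (rep_mem Q s) p1 m1 (by rw [cl_rep]; exact hs)
          (by rw [c1]; exact ht1)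
        have k2 : p1 * wd = wd * p1 := by
          by_cases hd1 : d = 1
          · have := (H.cl_eq_one (rep_mem Q d)).1 (by rw [cl_rep, hd1])
            rcases this with e | e <;> rw [show wd = _ from e]
            · simp
            · exact H.st.z_comm m1
          by_cases hdt : d = t1
          · rw [show wd = p1 from by rw [show wd = rep Q d from rfl, hdt]]
          rcases H.st.comm_cases m1 (rep_mem Q d) with e | e
          · exact mul_inv_eq_iff_eq_mul.mp e
          · have := (hcb p1 m1 wd (rep_mem Q d) (by rw [c1]; exact ht1) (by rw [cl_rep]; exact hd)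
              (by rw [c1]; exact hn1) (by rw [cl_rep]; exact hd1)
              (by rw [c1, cl_rep]; exact fun h => hdt h.symm)).1 e
            simp at this
        rw [← mul_assoc, k1, mul_assoc, k2, mul_assoc]
      · -- three pairwise noncommuting
        have a12 := (hcb p1 m1 p2 m2 (c1 ▸ ht1) (c2 ▸ ht2) (c1 ▸ hn1) (c2 ▸ hn2.1)
          (by rw [c1, c2]; exact Ne.symm hn2.2)).2 rfl
        have a13 := (hcb p1 m1 p3 m3 (c1 ▸ ht1) (c3 ▸ ht3) (c1 ▸ hn1) (c3 ▸ n31)
          (by rw [c1, c3]; exact Ne.symm n3a)).2 rfl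
        have a1 := (hcb p1 m1 (p2 * p3) (Q.mul_mem m2 m3) (c1 ▸ ht1)
          (by rw [cl_mul m2 m3, c2, c3]; exact T0.mul_mem ht2 ht3) (c1 ▸ hn1)
          (by rw [cl_mul m2 m3, c2, c3]; exact fun e => n3b (H.T_mul_eq_one.1 e).symm)
          (by
            rw [cl_mul m2 m3, c2, c3, c1]
            intro e
            exact n3ab (by rw [e, mul_comm t2 t3, mul_assoc, H.T_sq, mul_one]))).2 rfl
        rw [show p1 * (p2 * p3) * p1⁻¹ = (p1 * p2 * p1⁻¹) * (p1 * p3 * p1⁻¹) by group, a12, a13,
          show z * p2 * (z * p3) = z * (p2 * z) * p3 by group, H.st.z_comm m2, ← mul_assoc z z p2,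
          H.z2, one_mul] at a1
        exact H.zne (mul_eq_right.mp a1.symm)
    obtain ⟨v, hv⟩ : ∃ v, (Sg v).card = 5 := by
      obtain ⟨m, hm⟩ := hS5 true
      obtain ⟨n, hn⟩ := hS5 false
      have := hnc true
      have := hnc false
      by_cases h : m = 1
      · exact ⟨true, by omega⟩
      · exact ⟨false, by omega⟩
    -- the two elements of order three on five points
    let eS : {t // t ∈ Sg v} ≃ Fin 5 := (Sg v).equivFinOfCardEq hv
    have hinvS : ∀ c ∈ Cz z, (img z π c).1 = 1 → ∀ t ∈ Sg v, ac Q c t ∈ Sg v := by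
      intro c hc h1 t ht
      simp only [Sg, Finset.mem_filter, Finset.mem_univ, true_and] at ht ⊢
      refine ⟨?_, fun e => ht.2.1 ((H.ac_eq_one hc).1 e), (hqinv c hc t).trans ht.2.2⟩
      show ac Q x (ac Q c t) = ac Q c t
      rw [comm1 c hc h1, show ac Q x t = t from ht.1]
    let mk : ∀ c : G, c ∈ Cz z → (img z π c).1 = 1 → Perm (Fin 5) := fun c hc h1 =>
      eS.permCongr (Equiv.ofBijective (fun t => ⟨ac Q c t, hinvS c hc h1 t t.2⟩)
        (Finite.injective_iff_bijective.mp fun s t h =>
          Subtype.ext (H.ac_inj hc (congrArg Subtype.val h))))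
    have hmul : ∀ (c d : G) (hc : c ∈ Cz z) (hd : d ∈ Cz z) (h1 : (img z π c).1 = 1) (h2 : (img z π d).1 = 1)
        (h3 : (img z π (c * d)).1 = 1),
        mk c hc h1 * mk d hd h2 = mk (c * d) ((Cz z).mul_mem hc hd) h3 := by
      intro c d hc hd h1 h2 h3
      apply Equiv.ext
      intro i
      simp only [mk, Equiv.Perm.mul_apply, Equiv.permCongr_apply, Equiv.symm_apply_apply,
        Equiv.ofBijective_apply]
      exact congrArg eS (Subtype.ext (H.ac_comp hc hd _).symm)
    have key1 : ∀ (c : G) (hc : c ∈ Cz z) (h1 : (img z π c).1 = 1), img z π c = 1 → mk c hc h1 = 1 := by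
      intro c hc h1 h
      apply Equiv.ext
      intro i
      simp only [mk, Equiv.permCongr_apply, Equiv.ofBijective_apply, Equiv.Perm.one_apply]
      conv_rhs => rw [← eS.apply_symm_apply i]
      exact congrArg eS (Subtype.ext (H.ac_Q ((H.img_eq_one hc).1 h) _))
    have key2 : ∀ (c : G) (hc : c ∈ Cz z) (h1 : (img z π c).1 = 1), mk c hc h1 = 1 →
        Perm.sign (img z π c).2 = 1 → img z π c = 1 := by
      intro c hc h1 h hs
      let K : Subgroup (T Q) :=
        { carrier := {t | ac Q c t = t}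
          one_mem' := H.ac_one_t hc
          mul_mem' := fun {s t} hs ht => by
            show ac Q c (s * t) = s * t
            rw [H.ac_mul hc, show ac Q c s = s from hs, show ac Q c t = t from ht]
          inv_mem' := fun {t} ht => by
            show ac Q c t⁻¹ = t⁻¹
            rw [H.T_inv]; exact ht }
      set W := Subgroup.closure ((Sg v : Finset (T Q)) : Set (T Q))
      have hWK : W ≤ K := (Subgroup.closure_le K).mpr fun t ht => by
        have := congrArg (fun f => eS.symm (f (eS ⟨t, ht⟩))) h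
        simp only [mk, Equiv.permCongr_apply, Equiv.symm_apply_apply, Equiv.ofBijective_apply,
          Equiv.Perm.one_apply] at this
        exact congrArg Subtype.val this
      have hW0 : W ≤ T0 := (Subgroup.closure_le T0).mpr fun t ht => by
        simp only [Sg, Finset.mem_coe, Finset.mem_filter, Finset.mem_univ, true_and] at ht
        exact ht.1
      have hWu : ∀ t ∈ W, ac Q u t ∈ W := by
        let U' : Subgroup (T Q) :=
          { carrier := {t | ac Q u t ∈ W}
            one_mem' := by rw [Set.mem_ofPred_eq, H.ac_one_t huC]; exact W.one_mem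
            mul_mem' := fun {s t} hs ht => by
              rw [Set.mem_ofPred_eq, H.ac_mul huC]; exact W.mul_mem hs ht
            inv_mem' := fun {t} ht => by
              rw [Set.mem_ofPred_eq, H.T_inv]; exact ht }
        exact (Subgroup.closure_le U').mpr fun t ht => Subgroup.subset_closure (hinvS u huC hu1 t ht)
      have hd : 5 ∣ Nat.card W - 1 := by
        have h := orbit_five σ hU5 ((W : Set (T Q)).toFinset.erase 1)
          (fun t ht => by
            simp only [Finset.mem_erase, Set.mem_toFinset, SetLike.mem_coe] at ht ⊢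
            exact ⟨fun e => ht.1 ((H.ac_eq_one huC).1 e), hWu t ht.2⟩)
          (fun t ht he => by
            simp only [Finset.mem_erase, Set.mem_toFinset, SetLike.mem_coe] at ht
            exact ht.1 (hfix1 t (hW0 ht.2) he))
        rwa [Finset.card_erase_of_mem (by simp [W.one_mem]), Set.toFinset_card,
          ← Nat.card_eq_fintype_card, SetLike.coe_sort_coe] at h
      have h6 : 6 ≤ Nat.card W := by
        have := Finset.card_le_card (show insert 1 (Sg v) ⊆ (W : Set (T Q)).toFinset from fun t ht => by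
          rw [Finset.mem_insert] at ht
          simp only [Set.mem_toFinset, SetLike.mem_coe]
          rcases ht with rfl | ht
          · exact W.one_mem
          · exact Subgroup.subset_closure ht)
        rw [Finset.card_insert_of_notMem (by simp [Sg]), hv, Set.toFinset_card,
          ← Nat.card_eq_fintype_card, SetLike.coe_sort_coe] at this
        exact this
      obtain ⟨w, hw⟩ := IsPGroup.iff_card.mp (h2T.to_subgroup W)
      have hle := Subgroup.card_le_of_le hW0
      rw [hj, hw] at hle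
      rw [hw] at hd h6
      have hw4 : w = 4 := by
        have : w ≤ 4 := (Nat.pow_le_pow_iff_right (by norm_num)).mp hle
        interval_cases w <;> omega
      have hWT : W = T0 := Subgroup.eq_of_le_of_card_ge hW0 (by rw [hj, hw, hw4])
      exact faith c hc h1 hs fun t ht => hWK (hWT.ge ht)
    have hA1 : (img z π a).1 = 1 := by rw [F.ha]; rfl
    have hB1 : (img z π b).1 = 1 := by rw [F.hb]; rfl
    have hAB1 : (img z π (a * b)).1 = 1 := by rw [H.img_mul F.aC F.bC, Prod.fst_mul, hA1, hB1, one_mul]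
    have hBA1 : (img z π (b * a)).1 = 1 := by rw [H.img_mul F.bC F.aC, Prod.fst_mul, hA1, hB1, one_mul]
    have hAA1 : (img z π (a * a)).1 = 1 := by rw [H.img_mul F.aC F.aC, Prod.fst_mul, hA1, one_mul]
    have hAAB1 : (img z π (a * a * b)).1 = 1 := by
      rw [H.img_mul ((Cz z).mul_mem F.aC F.aC) F.bC, Prod.fst_mul, hAA1, hB1, one_mul]
    have cube : ∀ (c : G) (hc : c ∈ Cz z) (h1 : (img z π c).1 = 1), img z π c * img z π c * img z π c = 1 →
        mk c hc h1 ^ 3 = 1 := by
      intro c hc h1 h3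
      have hcc : (img z π (c * c)).1 = 1 := by rw [H.img_mul hc hc, Prod.fst_mul, h1, one_mul]
      have hccc : (img z π (c * c * c)).1 = 1 := by
        rw [H.img_mul ((Cz z).mul_mem hc hc) hc, Prod.fst_mul, hcc, h1, one_mul]
      rw [pow_succ, pow_two, hmul c c hc hc h1 h1 hcc, hmul (c * c) c ((Cz z).mul_mem hc hc) hc hcc h1 hccc]
      exact key1 (c * c * c) ((Cz z).mul_mem ((Cz z).mul_mem hc hc) hc) hccc (by rw [H.img_mul ((Cz z).mul_mem hc hc) hc, H.img_mul hc hc, h3])
    have hcm : mk a F.aC hA1 * mk b F.bC hB1 = mk b F.bC hB1 * mk a F.aC hA1 := by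
      rw [hmul a b F.aC F.bC hA1 hB1 hAB1, hmul b a F.bC F.aC hB1 hA1 hBA1]
      apply Equiv.ext
      intro i
      simp only [mk, Equiv.permCongr_apply, Equiv.ofBijective_apply]
      exact congrArg eS (Subtype.ext (H.ac_img ((Cz z).mul_mem F.aC F.bC) ((Cz z).mul_mem F.bC F.aC)
        (by rw [H.img_mul F.aC F.bC, H.img_mul F.bC F.aC, F.ha, F.hb, mX_pow.2.1.2.2]) _))
    obtain ⟨-, hA2, hB2, -⟩ := mX_sign
    obtain ⟨na, nb, nab, naab⟩ := mA_ne
    rcases perm5_pair (mk a F.aC hA1) (mk b F.bC hB1)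
      (cube a F.aC hA1 (by rw [F.ha]; exact mX_pow.2.2.1)) hcm
      (cube b F.bC hB1 (by rw [F.hb]; exact mX_pow.2.2.2.1)) with h | h | h | h
    · exact na (F.ha.symm.trans (key2 a F.aC hA1 h (by rw [F.ha]; exact hA2)))
    · exact nb (F.hb.symm.trans (key2 b F.bC hB1 h (by rw [F.hb]; exact hB2)))
    · rw [hmul a b F.aC F.bC hA1 hB1 hAB1] at h
      have := key2 (a * b) ((Cz z).mul_mem F.aC F.bC) hAB1 h (by
        rw [H.img_mul F.aC F.bC, F.ha, F.hb, Prod.snd_mul, map_mul, hA2, hB2, one_mul])
      rw [H.img_mul F.aC F.bC, F.ha, F.hb] at this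
      exact nab this
    · rw [hmul a a F.aC F.aC hA1 hA1 hAA1, hmul (a * a) b ((Cz z).mul_mem F.aC F.aC) F.bC hAA1 hB1 hAAB1] at h
      have := key2 (a * a * b) ((Cz z).mul_mem ((Cz z).mul_mem F.aC F.aC) F.bC) hAAB1 h (by
        rw [H.img_mul ((Cz z).mul_mem F.aC F.aC) F.bC, H.img_mul F.aC F.aC, F.ha, F.hb, Prod.snd_mul,
          Prod.snd_mul, map_mul, map_mul, hA2, hB2, one_mul, one_mul])
      rw [H.img_mul ((Cz z).mul_mem F.aC F.aC) F.bC, H.img_mul F.aC F.aC, F.ha, F.hb] at this
      exact naab this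
  · -- the commutator has order four
    have hcard : Nat.card {t : T Q // Nz Q x t} = 4 := by
      have : Nat.card T1 = 4 := by rw [hi]; norm_num
      exact this
    have hfour : ∀ t, Nz Q x t → t ≠ 1 → ∀ s, Nz Q x s →
        s = 1 ∨ s = t ∨ s = ac Q x t ∨ s = ac Q x (ac Q x t) := by
      intro t ht hne s hs
      have hxt : ac Q x t ≠ t := fun e => hne (hinter t ht e)
      have hxt1 : ac Q x t ≠ 1 := fun e => hne ((H.ac_eq_one hxC).1 e)
      have hxxt1 : ac Q x (ac Q x t) ≠ 1 := fun e => hxt1 ((H.ac_eq_one hxC).1 e)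
      have hxxt : ac Q x (ac Q x t) ≠ t := fun e => hxt (by
        conv_rhs => rw [← x3 t]
        rw [e])
      have hxxtt : ac Q x (ac Q x t) ≠ ac Q x t := fun e => hxt (H.ac_inj hxC e)
      by_contra h
      simp only [not_or] at h
      obtain ⟨h0, h1, h2, h3⟩ := h
      have := Finset.card_le_card (show ({1, t, ac Q x t, ac Q x (ac Q x t), s} : Finset (T Q)) ⊆
        (T1 : Set (T Q)).toFinset from fun w hw => by
          simp only [Finset.mem_insert, Finset.mem_singleton] at hw
          simp only [Set.mem_toFinset, SetLike.mem_coe]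
          rcases hw with rfl | rfl | rfl | rfl | rfl
          exacts [T1.one_mem, ht, H.nz_ac hxC hxC rfl ht, H.nz_ac hxC hxC rfl (H.nz_ac hxC hxC rfl ht), hs])
      rw [Set.toFinset_card, ← Nat.card_eq_fintype_card, SetLike.coe_sort_coe, hi] at this
      simp [Ne.symm hne, Ne.symm hxt, Ne.symm hxt1, Ne.symm hxxt1,
        Ne.symm hxxt, Ne.symm hxxtt, Ne.symm h0, Ne.symm h1, Ne.symm h2, Ne.symm h3] at this
    refine ⟨hxC, F.hx, hcard, ?_, ?_, horth, hdec, hinter⟩
    · intro c hc h1 t ht
      by_cases hne : t = 1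
      · rw [hne, H.ac_one_t hc]
      have hc2 : ∀ s, Nz Q x s → ac Q c (ac Q c s) = s := fun s hs => by
        rw [← H.ac_comp hc hc]
        refine trivJ _ ((Cz z).mul_mem hc hc) ?_ ?_ s hs
        · rw [H.img_mul hc hc, Prod.fst_mul, h1, one_mul]
        · rw [H.img_mul hc hc, Prod.snd_mul, map_mul, Int.units_mul_self]
      have hxc := comm1 c hc h1
      rcases hfour t ht hne (ac Q c t) (H.nz_ac hxC hc (F.comm_x H h1) ht) with e | e | e | e
      · exact absurd ((H.ac_eq_one hc).1 e) hne
      · exact e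
      · exfalso
        have h := hc2 t ht
        rw [e, ← hxc, e] at h
        exact hne (hinter t ht (by
          conv_lhs => rw [← h]
          exact x3 t))
      · exfalso
        have h := hc2 t ht
        rw [e, ← hxc, ← hxc, e, x3] at h
        exact hne (hinter t ht h)
    · intro q hq hn hne
      by_contra hqz
      have hq2 : q * q = 1 := (H.st.sq_cases hq).resolve_right hqz
      -- all of the commutator is elementary, hence central
      have hsq1 : ∀ s ∈ Q, Nz Q x (cl Q s) → s * s = 1 := by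
        intro s hs hns
        have key : ∀ w ∈ Q, w * w = 1 → ∀ s ∈ Q, (cl Q s = cl Q w ∨ cl Q s = ac Q x (cl Q w)) → s * s = 1 := by
          intro w hw hw2 s hs h
          have : ∀ y ∈ Q, y * y = 1 → cl Q s = cl Q y → s * s = 1 := by
            intro y hy hy2 e
            rcases (H.cl_eq_iff hs hy).1 e with e | e <;> rw [e]
            · exact hy2
            · calc z * y * (z * y) = z * (y * z) * y := by group
                _ = (z * z) * (y * y) := by rw [H.st.z_comm hy]; group
                _ = 1 := by rw [H.z2, hy2, one_mul]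
          rcases h with e | e
          · exact this w hw hw2 e
          · rw [H.ac_cl hxC hw] at e
            refine this _ (H.conjQ hxC hw) ?_ e
            rw [show x * w * x⁻¹ * (x * w * x⁻¹) = x * (w * w) * x⁻¹ by group, hw2]; group
        rcases hfour _ hn hne _ hns with e | e | e | e
        · rcases (H.cl_eq_one hs).1 e with rfl | rfl
          · simp
          · exact H.z2
        · exact key q hq hq2 s hs (Or.inl e)
        · exact key q hq hq2 s hs (Or.inr e)
        · refine key _ (H.conjQ hxC hq) ?_ s hs (Or.inr ?_)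
          · rw [show x * q * x⁻¹ * (x * q * x⁻¹) = x * (q * q) * x⁻¹ by group, hq2]; group
          · rw [e, H.ac_cl hxC hq]
      obtain ⟨w, hw, hwm⟩ := H.st.exists_move hq (fun e => hne (by rw [e, cl_one]))
        (fun e => hne (by rw [e, H.cl_z]))
      obtain ⟨s, d, hsd, hs, hd⟩ := hdec (cl Q w)
      have k1 : rep Q s * q = q * rep Q s := by
        have h2 : q * rep Q s * (q * rep Q s) = 1 := hsq1 _ (Q.mul_mem hq (rep_mem Q s))
          (by rw [cl_mul hq (rep_mem Q s), cl_rep]; exact H.nz_mul hxC hn hs)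
        calc rep Q s * q = (rep Q s)⁻¹ * q⁻¹ := by
              rw [inv_eq_of_mul_eq_one_right (hsq1 _ (rep_mem Q s) (by rw [cl_rep]; exact hs)),
                inv_eq_of_mul_eq_one_right hq2]
          _ = (q * rep Q s)⁻¹ := (mul_inv_rev _ _).symm
          _ = q * rep Q s := inv_eq_of_mul_eq_one_right h2
      have k2 : rep Q d * q = q * rep Q d := horth q hq _ (rep_mem Q d) hn (by rw [cl_rep]; exact hd)
      have hcl : cl Q w = cl Q (rep Q s * rep Q d) := by
        rw [cl_mul (rep_mem Q s) (rep_mem Q d), cl_rep, cl_rep, hsd]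
      have hwc : w * q = q * w := by
        rcases (H.cl_eq_iff hw (Q.mul_mem (rep_mem Q s) (rep_mem Q d))).1 hcl with e | e <;> rw [e]
        · rw [mul_assoc, k2, ← mul_assoc, k1, mul_assoc]
        · rw [mul_assoc z, mul_assoc (rep Q s), k2, ← mul_assoc (rep Q s), k1, ← mul_assoc q z,
            H.st.z_comm hq]
          group
      rw [mul_inv_eq_iff_eq_mul, hwc] at hwm
      exact H.zne (mul_eq_right.mp (mul_right_cancel hwm.symm))

end Pre

end CfsgLib.ThreeSixCent
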