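import Cfsg.Agent.Lib.ThreeSixCent.OutBase
import Cfsg.Agent.Lib.ThreeSixCent.Small

/-!
The small case when `z` is weakly closed in `Q`.
-/

set_option autoImplicit false
set_option linter.unusedSectionVars false
set_option linter.style.haveILetI false
set_option maxHeartbeats 1000000

open Cfsg CfsgLib.Extraspecial
open Equiv (Perm swap)

namespace CfsgLib.ThreeSixCent

/-- the four-cycle -/
def sFour : Perm (Fin 6) := swap 0 1 * swap 1 2 * swap 2 3

/-- the four-cycle with a transposition -/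
def sFourTwo : Perm (Fin 6) := swap 0 1 * swap 1 2 * swap 2 3 * swap 4 5

/-- conjugators -/
def tabFour : List (Perm (Fin 6)) :=
  [1, (swap 3 4), (swap 3 4 * swap 4 5), (swap 2 3), (swap 2 3 * swap 3 4), (swap 2 3 * swap 3 4 * swap 4 5), (swap 2 4 * swap 4 3), (swap 2 4 * swap 4 5 * swap 5 3), (swap 2 4), (swap 2 4 * swap 4 5), (swap 2 4 * swap 3 5), (swap 2 4 * swap 4 3 * swap 3 5), (swap 1 2), (swap 1 2 * swap 3 4), (swap 1 2 * swap 3 4 * swap 4 5), (swap 1 2 * swap 2 3), (swap 1 2 * swap 2 3 * swap 3 4), (swap 1 2 * swap 2 3 * swap 3 4 * swap 4 5), (swap 1 2 * swap 2 4 * swap 4 3), (swap 1 2 * swap 2 4 * swap 4 5 * swap 5 3), (swap 1 2 * swap 2 4), (swap 1 2 * swap 2 4 * swap 4 5), (swap 1 2 * swap 2 4 * swap 3 5), (swap 1 2 * swap 2 4 * swap 4 3 * swap 3 5), (swap 1 3 * swap 3 2), (swap 1 3 * swap 3 4 * swap 4 2), (swap 1 3 * swap 3 4 * swap 4 5 * swap 5 2), (swap 1 3), (swap 1 3 * swap 3 4), (swap 1 3 * swap 3 4 * swap 4 5), (swap 1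 3 * swap 2 4), (swap 1 3 * swap 2 4 * swap 4 5), (swap 1 3 * swap 3 2 * swap 2 4), (swap 1 3 * swap 3 2 * swap 2 4 * swap 4 5), (swap 1 3 * swap 3 5 * swap 5 2 * swap 2 4), (swap 1 3 * swap 3 5 * swap 2 4), (swap 1 4 * swap 4 3 * swap 3 2), (swap 1 4 * swap 4 5 * swap 5 3 * swap 3 2), (swap 1 4 * swap 4 2), (swap 1 4 * swap 4 5 * swap 5 2), (swap 1 4 * swap 4 2 * swap 3 5), (swap 1 4 * swap 4 3 * swap 3 5 * swap 5 2), (swap 1 4 * swap 4 3), (swap 1 4 * swap 4 5 * swap 5 3), (swap 1 4), (swap 1 4 * swap 4 5), (swap 1 4 * swap 3 5), (swap 1 4 * swap 4 3 * swap 3 5), (swap 1 4 * swap 4 2 * swap 2 3), (swap 1 4 * swap 4 5 * swap 5 2 * swap 2 3), (swap 1 4 * swap 2 3), (swap 1 4 * swap 4 5 * swap 2 3), (swap 1 4 * swap 2 3 * swap 3 5), (swap 1 4 * swap 4 2 * swap 2 3 * swap 3 5), (swap 1 4 * swap 4 2 * swap 2 5 * swap 5 3), (swap 1 4 * swap 4 3 * swap 2 5), (swap 1 4 * swap 2 5 * swap 5 3), (swap 1 4 * swap 4 3 * swap 3 2 * swap 2 5), (swap 1 4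 * swap 2 5), (swap 1 4 * swap 4 2 * swap 2 5), (swap 0 4 * swap 4 3 * swap 3 2 * swap 2 1), (swap 0 4 * swap 4 5 * swap 5 3 * swap 3 2 * swap 2 1), (swap 0 4 * swap 4 2 * swap 2 1), (swap 0 4 * swap 4 5 * swap 5 2 * swap 2 1), (swap 0 4 * swap 4 2 * swap 2 1 * swap 3 5), (swap 0 4 * swap 4 3 * swap 3 5 * swap 5 2 * swap 2 1), (swap 0 4 * swap 4 3 * swap 3 1), (swap 0 4 * swap 4 5 * swap 5 3 * swap 3 1), (swap 0 4 * swap 4 1), (swap 0 4 * swap 4 5 * swap 5 1), (swap 0 4 * swap 4 1 * swap 3 5), (swap 0 4 * swap 4 3 * swap 3 5 * swap 5 1), (swap 0 4 * swap 4 2 * swap 2 3 * swap 3 1), (swap 0 4 * swap 4 5 * swap 5 2 * swap 2 3 * swap 3 1), (swap 0 4 * swap 4 1 * swap 2 3), (swap 0 4 * swap 4 5 * swap 5 1 * swap 2 3), (swap 0 4 * swap 4 1 * swap 2 3 * swap 3 5), (swap 0 4 * swap 4 2 * swap 2 3 * swap 3 5 * swap 5 1), (swap 0 4 * swap 4 2 * swap 2 5 * swap 5 3 * swap 3 1), (swap 0 4 * swap 4 3 * swap 3 1 * swap 2 5), (swap 0 4 * swap 4 1 * swap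 2 5 * swap 5 3), (swap 0 4 * swap 4 3 * swap 3 2 * swap 2 5 * swap 5 1), (swap 0 4 * swap 4 1 * swap 2 5), (swap 0 4 * swap 4 2 * swap 2 5 * swap 5 1), (swap 0 4 * swap 4 2 * swap 1 5 * swap 5 3), (swap 0 4 * swap 4 3 * swap 3 1 * swap 1 5 * swap 5 2), (swap 0 4 * swap 4 1 * swap 1 5 * swap 5 3 * swap 3 2), (swap 0 4 * swap 4 3 * swap 3 2 * swap 1 5), (swap 0 4 * swap 4 1 * swap 1 5 * swap 5 2), (swap 0 4 * swap 4 2 * swap 1 5)]

theorem tab_four : ∀ σ : Perm (Fin 6), σ * σ * (σ * σ) = 1 → σ * σ ≠ 1 →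
    (tabFour.any fun c => c * σ * c⁻¹ == sFour || c * σ * c⁻¹ == sFourTwo) = true := by decide +kernel

theorem four_cent : ∀ s ∈ [sFour, sFourTwo], ∀ r : Perm (Fin 6), r * s = s * r →
    ((r * r = 1 → Perm.sign r = 1 → r = 1 ∨ r = s * s) ∧
      ∀ r' : Perm (Fin 6), r' * s = s * r' → r * r' = r' * r) := by decide +kernel

theorem four_sq : ∀ s ∈ [sFour, sFourTwo], ∀ t : Perm (Fin 6), t * t = s * s →
    s * t * s⁻¹ ≠ s * s * t := by decide +kernel

/-- facts about an element of order four of the symmetric group of degree six -/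
theorem four_facts {σ : Perm (Fin 6)} (h4 : σ * σ * (σ * σ) = 1) (h2 : σ * σ ≠ 1) :
    (∀ r, r * σ = σ * r → r * r = 1 → Perm.sign r = 1 → r = 1 ∨ r = σ * σ) ∧
    (∀ r r', r * σ = σ * r → r' * σ = σ * r' → r * r' = r' * r) ∧
    (∀ t, t * t = σ * σ → σ * t * σ⁻¹ ≠ σ * σ * t) := by
  obtain ⟨c, -, hc⟩ := List.any_eq_true.1 (tab_four σ h4 h2)
  obtain ⟨s, hs, e⟩ : ∃ s ∈ [sFour, sFourTwo], MulAut.conj c σ = s := by
    rcases Bool.or_eq_true_iff.1 hc with h | h
    · exact ⟨_, List.mem_cons_self, beq_iff_eq.1 h⟩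
    · exact ⟨_, List.mem_cons_of_mem _ List.mem_cons_self, beq_iff_eq.1 h⟩
  have hcomm : ∀ r, r * σ = σ * r → MulAut.conj c r * s = s * MulAut.conj c r := fun r h => by
    rw [← e, ← map_mul, h, map_mul]
  refine ⟨fun r hr hr2 hsr => ?_, fun r r' hr hr' => ?_, fun t ht h => ?_⟩
  · rcases (four_cent s hs _ (hcomm r hr)).1 (by rw [← map_mul, hr2, map_one])
      (by rw [MulAut.conj_apply, map_mul, map_mul, map_inv, hsr, mul_one, mul_inv_cancel]) with h | h
    · exact Or.inl ((MulAut.conj c).injective (h.trans (map_one _).symm))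
    · exact Or.inr ((MulAut.conj c).injective (by rw [h, ← e, map_mul]))
  · apply (MulAut.conj c).injective
    rw [map_mul, map_mul]
    exact (four_cent s hs _ (hcomm r hr)).2 _ (hcomm r' hr')
  · refine four_sq s hs (MulAut.conj c t) (by rw [← e, ← map_mul, ht, map_mul]) ?_
    rw [← e, ← map_inv, ← map_mul, ← map_mul, h, map_mul, map_mul]

theorem flip_three : ∀ s : Perm (Fin 3), s * s = 1 → s ≠ 1 → s * mX.1 = mX.1 * mX.1 * s := by
  decide +kernel

theorem sq_three : ∀ a : Perm (Fin 3), a * a * (a * a) = 1 → a * a = 1 := by decide +kernel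

variable {G : Type*} [Group G] [Finite G] {z : G} {Q : Subgroup G} {π : ↥(Cz z) →* M0}

open scoped Classical in
/-- the preimage in `Q` -/
noncomputable def Pre.preim (H : Pre z Q π) (D : Subgroup (T Q)) : Subgroup G where
  carrier := {q | q ∈ Q ∧ cl Q q ∈ D}
  one_mem' := ⟨Q.one_mem, by rw [cl_one]; exact D.one_mem⟩
  mul_mem' := fun ha hb => ⟨Q.mul_mem ha.1 hb.1, by rw [cl_mul ha.1 hb.1]; exact D.mul_mem ha.2 hb.2⟩
  inv_mem' := fun {a} ha => ⟨Q.inv_mem ha.1, by
    have : cl Q a⁻¹ = cl Q a := by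
      rw [← H.T_mul_eq_one, ← cl_mul (Q.inv_mem ha.1) ha.1, inv_mul_cancel, cl_one]
    rw [this]; exact ha.2⟩

namespace Pre

variable (H : Pre z Q π)
include H

theorem card_preim (D : Subgroup (T Q)) : 2 * Nat.card D ≤ Nat.card ↥(H.preim D) := by
  classical
  rw [mul_comm, show (2 : ℕ) = Nat.card Bool by simp, ← Nat.card_prod]
  refine Nat.card_le_card_of_injective (fun p : D × Bool =>
    (⟨(bif p.2 then z else 1) * rep Q p.1.1, ?_⟩ : ↥(H.preim D))) ?_
  · obtain ⟨d, b⟩ := p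
    cases b
    · exact ⟨by simpa using rep_mem Q d.1, by simp [cl_rep]⟩
    · refine ⟨by simpa using Q.mul_mem H.zQ (rep_mem Q d.1), ?_⟩
      simp [cl_mul H.zQ (rep_mem Q d.1), H.cl_z, cl_rep]
  · rintro ⟨a, b⟩ ⟨c, d⟩ h
    simp only [Subtype.mk.injEq] at h
    have e := congrArg (cl Q) h
    cases b <;> cases d <;>
      simp [cl_mul H.zQ, rep_mem, H.cl_z, cl_rep] at e h ⊢
    all_goals first
      | exact e
      | (subst e; exact H.zne (by simpa using h))

theorem abelian_closure {i : G} {B : Subgroup G} (hi : i ∈ Q) (hB : B ≤ Q) (hiB : i ∉ B)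
    (hib : ∀ b ∈ B, b * i = i * b) (hBc : ∀ a ∈ B, ∀ b ∈ B, a * b = b * a) : 2 * Nat.card B ≤ 32 := by
  set A := Subgroup.closure (insert i (B : Set G)) with hA
  have hAQ : A ≤ Q := (Subgroup.closure_le Q).2 (Set.insert_subset hi fun e he => hB he)
  have hgen : ∀ a ∈ insert i (B : Set G), ∀ b ∈ insert i (B : Set G), a * b = b * a := by
    rintro a (rfl | ha) b (rfl | hb)
    · rfl
    · exact (hib b hb).symm
    · exact hib a ha
    · exact hBc a ha b hb
  have hAc : ∀ a ∈ A, ∀ b ∈ A, a * b = b * a := fun a ha b hb =>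
    congrArg Subtype.val ((Subgroup.isMulCommutative_closure hgen).is_comm.comm (⟨a, ha⟩ : A) ⟨b, hb⟩)
  have hlt : B < A := lt_of_le_of_ne (fun e he => Subgroup.subset_closure (Or.inr he))
    fun e => hiB (e ▸ Subgroup.subset_closure (Or.inl rfl))
  obtain ⟨k, hk⟩ := Subgroup.card_dvd_of_le hlt.le
  have hk2 : 2 ≤ k := by
    rcases k with _ | _ | k
    · have := Nat.card_pos (α := A); omega
    · exact absurd (Subgroup.eq_of_le_of_card_ge hlt.le (by rw [hk]; simp)) hlt.ne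
    · omega
  refine le_trans ?_ (H.card_abelian_le hAQ hAc)
  rw [hk, mul_comm]
  exact Nat.mul_le_mul_left _ hk2

end Pre

namespace Pt

variable {g : G} (H : Pre z Q π) (P : Pt z Q g)
include H P

/-- the commutator with the other conjugate as a homomorphism -/
noncomputable def del : T Q →* T Q :=
  MonoidHom.mk' (fun t => ac Q (vv z g) t * t) fun a b => by
    show ac Q (vv z g) (a * b) * (a * b) = ac Q (vv z g) a * a * (ac Q (vv z g) b * b)
    letI : CommGroup (T Q) := { (inferInstance : Group (T Q)) with mul_comm := H.T_comm }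
    rw [H.ac_mul (P.vC H)]
    ac_rfl

theorem del_apply (t : T Q) : P.del H t = ac Q (vv z g) t * t := rfl

theorem ac_vv (t : T Q) : ac Q (vv z g) (ac Q (vv z g) t) = t := by
  rw [← H.ac_comp (P.vC H) (P.vC H), P.v_sq H, H.ac_Q Q.one_mem]

theorem del_fix (t : T Q) : ac Q (vv z g) (P.del H t) = P.del H t := by
  rw [del_apply, H.ac_mul (P.vC H), P.ac_vv H, H.T_comm]

theorem del_eq_one {t : T Q} : P.del H t = 1 ↔ ac Q (vv z g) t = t := H.T_mul_eq_one

theorem del_perp {s t : T Q} (ht : ac Q (vv z g) t = t) : bT z Q (P.del H s) t = false := by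
  rw [del_apply, H.bT_mul_left]
  have : bT z Q (ac Q (vv z g) s) t = bT z Q s t := by
    conv_lhs => rw [← ht, H.bT_ac (P.vC H)]
  rw [this, Bool.xor_self]

theorem anti_cases {p : G} (hp : p ∈ Q) (h : ac Q (vv z g) (cl Q p) = cl Q p) :
    p ∈ Aq z Q g ∨ vv z g * p * (vv z g)⁻¹ = z * p := by
  rw [H.ac_cl (P.vC H) hp, H.cl_eq_iff (H.conjQ (P.vC H) hp) hp] at h
  exact h.imp_left fun e => (P.mem_Aq H).2 ⟨hp, (mul_inv_eq_iff_eq_mul.1 e).symm⟩

/-- the singular part of a range is small -/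
theorem range_small (D : Subgroup (T Q))
    (hbad : ∀ e ∈ Q, e * e = 1 → cl Q e ∈ D.map (P.del H) → cl Q e ≠ 1 →
      e ∈ Aq z Q g ∧ (phi z π g e).1 ≠ 1) :
    Nat.card ↥(D.map (P.del H)) ≤ 2 ∨
      (Nat.card ↥(D.map (P.del H)) ≤ 4 ∧ ∃ k ∈ Q, cl Q k ∈ D.map (P.del H) ∧ k * k = z) := by
  classical
  have hperp : ∀ a ∈ D.map (P.del H), ∀ b ∈ D.map (P.del H), bT z Q a b = false := by
    rintro _ ⟨s, -, rfl⟩ _ ⟨t, -, rfl⟩
    exact P.del_perp H (P.del_fix H t)
  have hsq : ∀ a, qT z Q a = false → rep Q a * rep Q a = 1 := fun a h => by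
    rcases H.st.sq_cases (rep_mem Q a) with e | e
    · exact e
    · simp [qT, e] at h
  have huniq : ∀ a ∈ D.map (P.del H), ∀ b ∈ D.map (P.del H), qT z Q a = false → qT z Q b = false →
      a ≠ 1 → b ≠ 1 → a = b := by
    intro a ha b hb qa qb a1 b1
    by_contra hab
    have hc : bT z Q a b = false := hperp a ha b hb
    have hcom : rep Q a * rep Q b = rep Q b * rep Q a := by
      simpa [bT] using hc
    have habm : a * b ≠ 1 := fun e => hab (H.T_mul_eq_one.1 e)
    have hcl : cl Q (rep Q a * rep Q b) = a * b := by rw [cl_mul (rep_mem Q a) (rep_mem Q b), cl_rep, cl_rep]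
    have sa := hsq a qa
    have sb := hsq b qb
    obtain ⟨ea, fa⟩ := hbad _ (rep_mem Q a) sa (by rw [cl_rep]; exact ha) (by rwa [cl_rep])
    obtain ⟨eb, fb⟩ := hbad _ (rep_mem Q b) sb (by rw [cl_rep]; exact hb) (by rwa [cl_rep])
    obtain ⟨-, fab⟩ := hbad _ (Q.mul_mem (rep_mem Q a) (rep_mem Q b))
      (by rw [(show Commute (rep Q a) (rep Q b) from hcom).symm.mul_mul_mul_comm, sa, sb, one_mul])
      (by rw [hcl]; exact Subgroup.mul_mem _ ha hb) (by rwa [hcl])
    have ha2 := ((P.mem_Aq H).1 ea).2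
    have hb2 := ((P.mem_Aq H).1 eb).2
    rw [P.phi_mul H ha2 hb2] at fab
    refine fab ?_
    have e := inv_three _ _ (congrArg Prod.fst (P.phi_sq H ea sa))
      (congrArg Prod.fst (P.phi_sq H eb sb))
      (congrArg Prod.fst (show phi z π g (rep Q a) * phi z π g (rep Q b) = _ by
        rw [← P.phi_mul H ha2 hb2, hcom, P.phi_mul H hb2 ha2])) fa fb
    rw [Prod.fst_mul, ← e]
    exact congrArg Prod.fst (P.phi_sq H ea sa)
  obtain ⟨w0, hw0⟩ : ∃ w0, ∀ a ∈ D.map (P.del H), qT z Q a = false → a = 1 ∨ a = w0 := by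
    by_cases h : ∃ b ∈ D.map (P.del H), qT z Q b = false ∧ b ≠ 1
    · obtain ⟨b, hb, qb, b1⟩ := h
      exact ⟨b, fun a ha qa => or_iff_not_imp_left.2 fun a1 => huniq a ha b hb qa qb a1 b1⟩
    · push Not at h
      exact ⟨1, fun a ha qa => Or.inl (h a ha qa)⟩
  by_cases hex : ∃ t ∈ D.map (P.del H), qT z Q t = true
  · obtain ⟨t, ht, qt⟩ := hex
    refine Or.inr ⟨?_, rep Q t, rep_mem Q t, by rwa [cl_rep], by simpa [qT] using qt⟩
    refine le_trans (Nat.card_mono (t := ({1, w0, t, t * w0} : Set (T Q))) (Set.toFinite _) ?_) ?_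
    · intro a ha
      cases qa : qT z Q a
      · rcases hw0 a ha qa with e | e <;> simp [e]
      · have := hw0 (t * a) (Subgroup.mul_mem _ ht ha) (by rw [H.qT_mul, qt, qa, hperp t ht a ha]; rfl)
        have e2 : a = t * (t * a) := by rw [← mul_assoc, H.T_sq, one_mul]
        rcases this with e | e <;> rw [e2, e] <;> simp
    · rw [Nat.card_coe_set_eq]
      refine le_trans (Set.ncard_insert_le _ _) (Nat.succ_le_succ ?_)
      refine le_trans (Set.ncard_insert_le _ _) (Nat.succ_le_succ ?_)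
      exact le_trans (Set.ncard_insert_le _ _) (by simp)
  · push Not at hex
    refine Or.inl (le_trans (Nat.card_mono (t := ({1, w0} : Set (T Q))) (Set.toFinite _) ?_) ?_)
    · intro a ha
      rcases hw0 a ha (by simpa using hex a ha) with e | e <;> simp [e]
    · rw [Nat.card_coe_set_eq]
      exact le_trans (Set.ncard_insert_le _ _) (by simp)

end Pt

variable {x : G}

theorem Small.exists_ne (S : Small z Q π x) (H : Pre z Q π) : ∃ t, Nz Q x t ∧ t ≠ 1 := by
  by_contra h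
  push Not at h
  have hc4 := S.card
  haveI : Subsingleton {t : T Q // Nz Q x t} :=
    ⟨fun a b => Subtype.ext ((h a a.2).trans (h b b.2).symm)⟩
  rw [Nat.card_of_subsingleton (⟨1, by unfold Nz; simp [H.ac_one_t S.xC]⟩ : {t : T Q // Nz Q x t})] at hc4
  norm_num at hc4

/-- a conjugate inducing an element of the second factor: an element of order four of the quaternion group commutes with it -/
theorem Small.exists_root (S : Small z Q π x) (H : Pre z Q π) {g : G} (P : Pt z Q g)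
    (h1 : (img z π (vv z g)).1 = 1) :
    ∃ i ∈ Aq z Q g, Nz Q x (cl Q i) ∧ cl Q i ≠ 1 ∧ i * i = z := by
  obtain ⟨t, htn, ht1⟩ := S.exists_ne H
  have htn2 : Nz Q x (ac Q x t) := H.nz_ac S.xC S.xC rfl htn
  have ht2 : ac Q x t ≠ 1 := fun e => ht1 ((H.ac_eq_one S.xC).1 e)
  have hne : t ≠ ac Q x t := fun e => ht1 (S.inter t htn e.symm)
  have hfix : ∀ s, Nz Q x s → ac Q (vv z g) s = s := S.triv _ (P.vC H) h1
  have fin : ∀ i ∈ Aq z Q g, Nz Q x (cl Q i) → cl Q i ≠ 1 →
      ∃ i ∈ Aq z Q g, Nz Q x (cl Q i) ∧ cl Q i ≠ 1 ∧ i * i = z :=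
    fun i hi hn h => ⟨i, hi, hn, h, S.sq i hi.1 hn h⟩
  have a := rep_mem Q t
  have b := rep_mem Q (ac Q x t)
  rcases P.anti_cases H a (by rw [cl_rep]; exact hfix t htn) with e | e
  · exact fin _ e (by rwa [cl_rep]) (by rwa [cl_rep])
  rcases P.anti_cases H b (by rw [cl_rep]; exact hfix _ htn2) with e' | e'
  · exact fin _ e' (by rwa [cl_rep]) (by rwa [cl_rep])
  have hcl : cl Q (rep Q t * rep Q (ac Q x t)) = t * ac Q x t := by rw [cl_mul a b, cl_rep, cl_rep]
  refine fin (rep Q t * rep Q (ac Q x t)) ((P.mem_Aq H).2 ⟨Q.mul_mem a b, ?_⟩)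
    (by rw [hcl]; exact H.nz_mul S.xC htn htn2) (by rw [hcl]; exact fun e => hne (H.T_mul_eq_one.1 e))
  refine (mul_inv_eq_iff_eq_mul.1 ?_).symm
  calc vv z g * (rep Q t * rep Q (ac Q x t)) * (vv z g)⁻¹
      = (vv z g * rep Q t * (vv z g)⁻¹) * (vv z g * rep Q (ac Q x t) * (vv z g)⁻¹) := by group
    _ = z * (rep Q t * z) * rep Q (ac Q x t) := by rw [e, e']; group
    _ = _ := by rw [H.st.z_comm a, ← mul_assoc z, H.z2, one_mul]

theorem Small.root_img (S : Small z Q π x) (H : Pre z Q π) {g : G} (P : Pt z Q g)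
    (h1 : (img z π (vv z g)).1 = 1) :
    (img z π (uu z g)).1 = 1 ∧ Perm.sign (img z π (uu z g)).2 = 1 := by
  obtain ⟨i, hi, -, -, hi2⟩ := S.exists_root H P h1
  have hi' := ((P.mem_Aq H).1 hi).2
  have hm : phi z π g i * phi z π g i = img z π (uu z g) := by rw [← P.phi_mul H hi' hi', hi2]; rfl
  rw [← hm]
  refine ⟨sq_three _ (congrArg Prod.fst (show phi z π g i * phi z π g i * (phi z π g i * phi z π g i) = 1 by
    rw [hm]; exact P.mu_sq H)), ?_⟩
  rw [Prod.snd_mul, map_mul, Int.units_mul_self]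

theorem Small.om_sign (S : Small z Q π x) (H : Pre z Q π) {m : M0} (hm : Om z Q π m) (h1 : m.1 = 1) :
    Perm.sign m.2 = 1 := by
  obtain ⟨g, P, rfl⟩ := hm
  have h := S.root_img H P h1
  have h2 := S.root_img H (P.symm H) (by rw [Pt.vv_inv H]; exact h.1)
  rw [show uu z g⁻¹ = vv z g by simp [uu, vv]] at h2
  exact h2.2

/-- the commutator maps the fixed subgroup of the element of order three to itself -/
theorem Small.no_one (S : Small z Q π x) (H : Pre z Q π) {g : G} (P : Pt z Q g)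
    (h1 : (img z π (vv z g)).1 = 1) : False := by
  classical
  letI : CommGroup (T Q) := { (inferInstance : Group (T Q)) with mul_comm := H.T_comm }
  obtain ⟨i, hi, hin, hi1, hi2⟩ := S.exists_root H P h1
  obtain ⟨hu1, hus⟩ := S.root_img H P h1
  have hiv := ((P.mem_Aq H).1 hi).2
  set σ := (phi z π g i).2 with hσ
  have hm : phi z π g i * phi z π g i = img z π (uu z g) := by rw [← P.phi_mul H hiv hiv, hi2]; rfl
  have hσ2 : σ * σ = (img z π (uu z g)).2 := congrArg Prod.snd hm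
  have hσ4 : σ * σ * (σ * σ) = 1 := by rw [hσ2]; exact congrArg Prod.snd (P.mu_sq H)
  have hσne : σ * σ ≠ 1 := fun e => P.mu_ne H (Prod.ext hu1 (hσ2.symm.trans e))
  obtain ⟨F1, F2, F3⟩ := four_facts hσ4 hσne
  have hfix : ∀ s, Nz Q x s → ac Q (vv z g) s = s := S.triv _ (P.vC H) h1
  -- some element of the quaternion group inverts the sign
  obtain ⟨j, hj, hjv⟩ : ∃ j ∈ Q, vv z g * j * (vv z g)⁻¹ = z * j := by
    set t' := ac Q x (cl Q i) with ht'
    have hn' : Nz Q x t' := H.nz_ac S.xC S.xC rfl hin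
    have ht1 : t' ≠ 1 := fun e => hi1 ((H.ac_eq_one S.xC).1 e)
    have hne : cl Q i ≠ t' := fun e => hi1 (S.inter _ hin e.symm)
    set j := rep Q t' with hjd
    have hjQ : j ∈ Q := rep_mem Q t'
    rcases P.anti_cases H hjQ (by rw [cl_rep]; exact hfix _ hn') with hjA | e
    swap
    · exact ⟨j, hjQ, e⟩
    exfalso
    have q1 : qT z Q (cl Q i) = true := (H.qT_cl hi.1).2 hi2
    have q2 : qT z Q t' = true := by
      rw [← cl_rep Q t', H.qT_cl hjQ]; exact S.sq _ hjQ (by rwa [cl_rep]) (by rwa [cl_rep])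
    have q3 : qT z Q (cl Q i * t') = true := by
      have hc : cl Q (i * j) = cl Q i * t' := by rw [cl_mul hi.1 hjQ, cl_rep]
      rw [← hc, H.qT_cl (Q.mul_mem hi.1 hjQ)]
      exact S.sq _ (Q.mul_mem hi.1 hjQ) (by rw [hc]; exact H.nz_mul S.xC hin hn')
        (by rw [hc]; exact fun e => hne (H.T_mul_eq_one.1 e))
    rw [H.qT_mul, q1, q2] at q3
    have hb : bT z Q (cl Q i) (cl Q j) = true := by rw [cl_rep]; simpa using q3
    have h := P.anti_phi H (π := π) hi hjA ((H.bT_cl hi.1 hjQ).1 hb)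
    have hj2 : j * j = z := S.sq _ hjQ (by rwa [cl_rep]) (by rwa [cl_rep])
    have hm2 : phi z π g j * phi z π g j = img z π (uu z g) := by
      rw [← P.phi_mul H ((P.mem_Aq H).1 hjA).2 ((P.mem_Aq H).1 hjA).2, hj2]; rfl
    refine F3 _ ((congrArg Prod.snd hm2).trans hσ2.symm) ?_
    rw [hσ2]
    exact congrArg Prod.snd h.1
  -- the fixed subgroup of the element of order three
  have hxv : ∀ t, ac Q x (ac Q (vv z g) t) = ac Q (vv z g) (ac Q x t) :=
    H.ac_comm S.xC (P.vC H) (by rw [S.hx]; exact mX_comm _ h1)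
  let D : Subgroup (T Q) :=
    { carrier := {t | ac Q x t = t}
      one_mem' := H.ac_one_t S.xC
      mul_mem' := fun {a b} ha hb => by
        show ac Q x (a * b) = a * b
        rw [H.ac_mul S.xC]; exact congrArg₂ (· * ·) ha hb
      inv_mem' := fun {a} ha => by rw [H.T_inv]; exact ha }
  have hD64 : 64 ≤ Nat.card D := by
    have hsur : Function.Surjective fun p : {t : T Q // Nz Q x t} × D => p.1.1 * p.2.1 := fun t => by
      obtain ⟨s, u, e, hs, hu⟩ := S.decomp t
      exact ⟨(⟨s, hs⟩, ⟨u, hu⟩), e.symm⟩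
    have h := Nat.card_le_card_of_surjective _ hsur
    rw [H.card_T, Nat.card_prod, S.card] at h
    omega
  have hmapD : D.map (P.del H) ≤ D := by
    rintro _ ⟨t, ht, rfl⟩
    show ac Q x _ = _
    rw [Pt.del_apply H P, H.ac_mul S.xC, hxv, show ac Q x t = t from ht]
  have hbad : ∀ e ∈ Q, e * e = 1 → cl Q e ∈ D.map (P.del H) → cl Q e ≠ 1 →
      e ∈ Aq z Q g ∧ (phi z π g e).1 ≠ 1 := by
    intro e he he2 hce he1
    obtain ⟨t, -, ht⟩ := id hce
    obtain ⟨q, hq, rfl⟩ : ∃ q ∈ Q, e = dlt z g q := P.dlt_all H hj hjv (rep_mem Q t) he (by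
      rw [cl_rep]; exact ht.symm)
    obtain ⟨hA, hk1, hkΩ⟩ := P.key H (π := π) hq he2
    refine ⟨hA, fun h11 => ?_⟩
    have hne : phi z π g (dlt z g q) ≠ 1 := fun e => he1 (by rw [hk1 e, cl_one])
    have hs := S.om_sign H (hkΩ hne) h11
    have hsq := P.phi_sq H (π := π) hA he2
    have hc : (phi z π g (dlt z g q)).2 * σ = σ * (phi z π g (dlt z g q)).2 := by
      have hcom : dlt z g q * i = i * dlt z g q :=
        S.orth i hi.1 _ he hin (hmapD hce)
      have := congrArg (fun k => (phi z π g k).2) hcom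
      simpa [P.phi_mul H ((P.mem_Aq H).1 hA).2 hiv, P.phi_mul H hiv ((P.mem_Aq H).1 hA).2] using this
    rcases F1 _ hc (congrArg Prod.snd hsq) hs with e | e
    · exact hne (Prod.ext h11 e)
    · have hu : phi z π g (dlt z g q) = img z π (uu z g) := Prod.ext (h11.trans hu1.symm) (e.trans hσ2)
      have hz2 : dlt z g (q * j) * dlt z g (q * j) = 1 := by
        rw [P.dlt_z H hj hjv hq, (H.z_commute he).symm.mul_mul_mul_comm, H.z2, he2, one_mul]
      have h0 := (P.key H (π := π) (Q.mul_mem hq hj) hz2).2.1 (by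
        rw [P.dlt_z H hj hjv hq, P.phi_mul H ((P.mem_Aq H).1 (P.z_A H)).2 ((P.mem_Aq H).1 hA).2, hu]
        exact P.mu_sq H)
      rw [P.dlt_z H hj hjv hq] at h0
      refine he1 ?_
      rw [eq_inv_of_mul_eq_one_right h0, H.st.inv_z, H.cl_z]
  set K : Subgroup (T Q) := D ⊓ (P.del H).ker with hK
  have hKcard : Nat.card D ≤ Nat.card ↥(D.map (P.del H)) * Nat.card K := by
    let f : D →* T Q := (P.del H).comp D.subtype
    have hr : f.range = D.map (P.del H) := by
      rw [MonoidHom.range_eq_map, ← Subgroup.map_map, ← MonoidHom.range_eq_map, Subgroup.range_subtype]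
    have hk : Nat.card f.ker = Nat.card K :=
      Nat.card_congr
        { toFun := fun d => ⟨d.1.1, d.1.2, d.2⟩
          invFun := fun k => ⟨⟨k.1, k.2.1⟩, k.2.2⟩
          left_inv := fun _ => rfl
          right_inv := fun _ => rfl }
    have h := f.ker.card_mul_index
    rw [Subgroup.index_ker, hr, hk] at h
    rw [← h, mul_comm]
  set B := H.preim K ⊓ Subgroup.centralizer ({vv z g} : Set G) with hB
  have hBA : ∀ b ∈ B, b ∈ Aq z Q g := fun b hb => ⟨hb.1.1, hb.2⟩
  have hBx : ∀ b ∈ H.preim K, ac Q x (cl Q b) = cl Q b := fun b hb => hb.2.1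
  have hib : ∀ b ∈ H.preim K, b * i = i * b := fun b hb => S.orth i hi.1 b hb.1 hin (hBx b hb)
  have hiB : i ∉ H.preim K := fun h => hi1 (S.inter _ hin (hBx i h))
  have hBc : ∀ a ∈ B, ∀ b ∈ B, a * b = b * a := by
    intro a ha b hb
    by_contra hab
    have hA := hBA a ha
    have hB' := hBA b hb
    have h := congrArg Prod.snd (P.anti_phi H (π := π) hA hB' hab).1
    have c1 : ∀ k ∈ B, (phi z π g k).2 * σ = σ * (phi z π g k).2 := by
      intro k hk
      have := congrArg (fun w => (phi z π g w).2) (hib k hk.1)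
      simpa [P.phi_mul H ((P.mem_Aq H).1 (hBA k hk)).2 hiv,
        P.phi_mul H hiv ((P.mem_Aq H).1 (hBA k hk)).2] using this
    simp only [Prod.snd_mul, Prod.snd_inv] at h
    rw [F2 _ _ (c1 a ha) (c1 b hb), mul_inv_cancel_right] at h
    exact hσne (hσ2.trans (mul_eq_right.1 h.symm))
  have hK2 := H.card_preim K
  rcases P.range_small H D hbad with hr | ⟨hr, k, hk, hkr, hk2⟩
  · -- at most two commutators
    have hB32 := H.abelian_closure (B := B) hi.1 (fun b hb => hb.1.1) (fun h => hiB h.1)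
      (fun b hb => hib b hb.1) hBc
    have hle : Nat.card ↥(H.preim K) ≤ 2 * Nat.card B := by
      by_cases hall : ∀ p ∈ H.preim K, p ∈ B
      · refine le_trans (Nat.card_le_card_of_injective (β := B) (fun p => ⟨p.1, hall p p.2⟩)
          fun a b h => Subtype.ext (congrArg Subtype.val h :)) (Nat.le_mul_of_pos_left _ (by norm_num))
      · push Not at hall
        obtain ⟨p0, hp0, hp0B⟩ := hall
        have hp : ∀ p ∈ H.preim K, p ∉ B → vv z g * p * (vv z g)⁻¹ = z * p := fun p hp hpB =>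
          (P.anti_cases H hp.1 ((P.del_eq_one H).1 hp.2.2)).resolve_left fun h => hpB ⟨hp, h.2⟩
        have hprod : ∀ p ∈ H.preim K, p ∉ B → p * p0 ∈ B := fun p hp1 hpB =>
          ⟨(H.preim K).mul_mem hp1 hp0, Subgroup.mem_centralizer_singleton_iff.2
            (mul_inv_eq_iff_eq_mul.1 (by
              calc vv z g * (p * p0) * (vv z g)⁻¹
                  = (vv z g * p * (vv z g)⁻¹) * (vv z g * p0 * (vv z g)⁻¹) := by group
                _ = z * (p * z) * p0 := by rw [hp p hp1 hpB, hp p0 hp0 hp0B]; group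
                _ = _ := by rw [H.st.z_comm hp1.1, ← mul_assoc z, H.z2, one_mul])).symm⟩
        rw [mul_comm, show (2 : ℕ) = Nat.card Bool by simp, ← Nat.card_prod]
        refine Nat.card_le_card_of_injective (β := B × Bool)
          (fun p => if h : p.1 ∈ B then (⟨p.1, h⟩, true) else (⟨p.1 * p0, hprod p p.2 h⟩, false)) ?_
        intro a b h
        apply Subtype.ext
        by_cases ha : a.1 ∈ B <;> by_cases hb : b.1 ∈ B <;>
          simp only [ha, hb, dif_pos, dif_neg, not_false_iff, Prod.mk.injEq, Subtype.mk.injEq] at h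
        · exact h.1
        · exact absurd h.2 (by decide)
        · exact absurd h.2 (by decide)
        · exact mul_right_cancel h.1
    nlinarith
  · -- a commutator of order four, central in the fixed subgroup
    have hkK : k ∈ H.preim K := by
      obtain ⟨t, -, ht⟩ := id hkr
      exact ⟨hk, hmapD hkr, (P.del_eq_one H).2 (ht ▸ P.del_fix H t)⟩
    have hkv : vv z g * k * (vv z g)⁻¹ = z * k := by
      obtain ⟨t, -, ht⟩ := id hkr
      obtain ⟨q, hq, rfl⟩ : ∃ q ∈ Q, k = dlt z g q := P.dlt_all H hj hjv (rep_mem Q t) hk (by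
        rw [cl_rep]; exact ht.symm)
      rw [P.dlt_conj H q, inv_eq_iff_mul_eq_one, ← mul_assoc, H.st.z_comm hk, mul_assoc, hk2, H.z2]
    have hkc : ∀ p ∈ H.preim K, p * k = k * p := by
      intro p hp
      obtain ⟨t, -, ht⟩ := id hkr
      have : bT z Q (cl Q k) (cl Q p) = false := by
        rw [← ht]; exact P.del_perp H ((P.del_eq_one H).1 hp.2.2)
      rw [Bool.eq_false_iff, Ne, H.bT_cl hk hp.1, not_not] at this
      exact this.symm
    have hdec : ∀ p ∈ H.preim K, ∃ b ∈ B, p = b ∨ p = b * k := by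
      intro p hp
      rcases P.anti_cases H hp.1 ((P.del_eq_one H).1 hp.2.2) with h | h
      · exact ⟨p, ⟨hp, h.2⟩, Or.inl rfl⟩
      · refine ⟨p * k⁻¹, ⟨(H.preim K).mul_mem hp ((H.preim K).inv_mem hkK),
          Subgroup.mem_centralizer_singleton_iff.2 (mul_inv_eq_iff_eq_mul.1 ?_).symm⟩, Or.inr (by group)⟩
        calc vv z g * (p * k⁻¹) * (vv z g)⁻¹
            = (vv z g * p * (vv z g)⁻¹) * (vv z g * k * (vv z g)⁻¹)⁻¹ := by group
          _ = z * (p * k⁻¹ * z) := by rw [h, hkv, mul_inv_rev, H.st.inv_z]; group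
          _ = _ := by rw [H.st.z_comm (Q.mul_mem hp.1 (Q.inv_mem hk)), ← mul_assoc, H.z2, one_mul]
    have habel : ∀ a ∈ H.preim K, ∀ b ∈ H.preim K, a * b = b * a := by
      intro a ha b hb
      obtain ⟨a', ha', hea⟩ := hdec a ha
      obtain ⟨b', hb', heb⟩ := hdec b hb
      have h1 : Commute a' b' := hBc a' ha' b' hb'
      have h2 : Commute a' k := hkc a' ha'.1
      have h3 : Commute b' k := hkc b' hb'.1
      show Commute a b
      rcases hea with rfl | rfl <;> rcases heb with rfl | rfl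
      · exact h1
      · exact h1.mul_right h2
      · exact h1.mul_left h3.symm
      · exact (h1.mul_right h2).mul_left (h3.symm.mul_right (Commute.refl k))
    have := H.abelian_closure (B := H.preim K) hi.1 (fun b hb => hb.1) hiB hib habel
    nlinarith

/-- the small case: nothing is fused to `z` in the centraliser outside `Q` -/
theorem Small.no_out (S : Small z Q π x) (H : Pre z Q π) {g : G} (P : Pt z Q g) : False := by
  classical
  letI : CommGroup (T Q) := { (inferInstance : Group (T Q)) with mul_comm := H.T_comm }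
  have hΩ : ∀ m, Om z Q π m → m.1 ≠ 1 := by
    rintro _ ⟨h, Ph, rfl⟩ e
    exact S.no_one H Ph e
  have hu : (img z π (uu z g)).1 ≠ 1 :=
    hΩ _ ⟨g⁻¹, P.symm H, by rw [Pt.vv_inv H]⟩
  have hAc : ∀ a ∈ Aq z Q g, ∀ b ∈ Aq z Q g, a * b = b * a := fun a ha b hb => by
    by_contra h
    exact hu (P.anti_phi H (π := π) ha hb h).2.1
  have hm1 : (img z π (vv z g)).1 ≠ 1 := hΩ _ (P.om H)
  have hm2 : (img z π (vv z g)).1 * (img z π (vv z g)).1 = 1 := congrArg Prod.fst (P.mv_sq H)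
  have hflip : ∀ t, ac Q (vv z g) (ac Q x t) = ac Q x (ac Q x (ac Q (vv z g) t)) := fun t => by
    rw [← H.ac_comp (P.vC H) S.xC, ← H.ac_comp S.xC S.xC,
      ← H.ac_comp ((Cz z).mul_mem S.xC S.xC) (P.vC H)]
    refine H.ac_img ((Cz z).mul_mem (P.vC H) S.xC)
      ((Cz z).mul_mem ((Cz z).mul_mem S.xC S.xC) (P.vC H)) ?_ t
    rw [H.img_mul (P.vC H) S.xC, H.img_mul ((Cz z).mul_mem S.xC S.xC) (P.vC H), H.img_mul S.xC S.xC, S.hx]
    refine Prod.ext (flip_three _ hm2 hm1) ?_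
    simp [mX]
  obtain ⟨t, htn, ht⟩ : ∃ t, Nz Q x t ∧ ac Q (vv z g) t ≠ t := by
    by_contra h
    push Not at h
    obtain ⟨t, htn, ht1⟩ := S.exists_ne H
    have htn2 : Nz Q x (ac Q x t) := H.nz_ac S.xC S.xC rfl htn
    have := hflip t
    rw [h t htn, h _ htn2] at this
    exact ht1 (S.inter t htn (H.ac_inj S.xC this).symm)
  have hnv : Nz Q x (ac Q (vv z g) t) := by
    unfold Nz at htn ⊢
    have h := congrArg (ac Q (vv z g)) htn
    rw [H.ac_mul (P.vC H), H.ac_mul (P.vC H), hflip, hflip, hflip, H.ac_one_t (P.vC H),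
      H.ac_cube S.xC (by rw [S.hx]; exact mX_pow.1)] at h
    rw [← h]; ac_rfl
  set a := dlt z g (rep Q t) with ha
  have haQ : a ∈ Q := P.dlt_mem H (rep_mem Q t)
  have hcla : cl Q a = ac Q (vv z g) t * t := by rw [ha, P.cl_dlt H (rep_mem Q t), cl_rep]
  have ha1 : cl Q a ≠ 1 := by rw [hcla]; exact fun e => ht (H.T_mul_eq_one.1 e)
  have ha2 : a * a = z := S.sq a haQ (by rw [hcla]; exact H.nz_mul S.xC hnv htn) ha1
  have hav : vv z g * a * (vv z g)⁻¹ = z * a := by
    rw [ha, P.dlt_conj H, inv_eq_iff_mul_eq_one, ← mul_assoc, H.st.z_comm (ha ▸ haQ), mul_assoc,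
      ← ha, ha2, H.z2]
  have hbad : ∀ e ∈ Q, e * e = 1 → cl Q e ∈ (⊤ : Subgroup (T Q)).map (P.del H) → cl Q e ≠ 1 →
      e ∈ Aq z Q g ∧ (phi z π g e).1 ≠ 1 := by
    intro e he he2 hce he1
    obtain ⟨s, -, hs⟩ := id hce
    obtain ⟨q, hq, rfl⟩ : ∃ q ∈ Q, e = dlt z g q := P.dlt_all H haQ hav (rep_mem Q s) he (by
      rw [cl_rep]; exact hs.symm)
    obtain ⟨hA, hk1, hkΩ⟩ := P.key H (π := π) hq he2
    exact ⟨hA, hΩ _ (hkΩ fun e => he1 (by rw [hk1 e, cl_one]))⟩
  have hr : Nat.card ↥((⊤ : Subgroup (T Q)).map (P.del H)) ≤ 4 := by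
    rcases P.range_small H ⊤ hbad with h | ⟨h, -⟩ <;> omega
  have hk : 64 ≤ Nat.card (P.del H).ker := by
    have h := (P.del H).ker.card_mul_index
    rw [Subgroup.index_ker, MonoidHom.range_eq_map, H.card_T] at h
    nlinarith
  set W := H.preim (P.del H).ker with hW
  have hac : ∀ p ∈ W, p * a = a * p := by
    intro p hp
    have : bT z Q (cl Q a) (cl Q p) = false := by
      rw [hcla]
      exact P.del_perp H (s := t) ((P.del_eq_one H).1 hp.2)
    rw [Bool.eq_false_iff, Ne, H.bT_cl haQ hp.1, not_not] at this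
    exact this.symm
  have hdec : ∀ p ∈ W, ∃ b ∈ Aq z Q g, b ∈ W ∧ (p = b ∨ p = b * a) := by
    intro p hp
    rcases P.anti_cases H hp.1 ((P.del_eq_one H).1 hp.2) with h | h
    · exact ⟨p, h, hp, Or.inl rfl⟩
    · have haW : a ∈ W := ⟨haQ, by rw [hcla]; exact (P.del_eq_one H).2 (P.del_fix H t)⟩
      refine ⟨p * a⁻¹, (P.mem_Aq H).2 ⟨Q.mul_mem hp.1 (Q.inv_mem haQ),
        (mul_inv_eq_iff_eq_mul.1 ?_).symm⟩, W.mul_mem hp (W.inv_mem haW), Or.inr (by group)⟩
      calc vv z g * (p * a⁻¹) * (vv z g)⁻¹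
          = (vv z g * p * (vv z g)⁻¹) * (vv z g * a * (vv z g)⁻¹)⁻¹ := by group
        _ = z * (p * a⁻¹ * z) := by rw [h, hav, mul_inv_rev, H.st.inv_z]; group
        _ = _ := by rw [H.st.z_comm (Q.mul_mem hp.1 (Q.inv_mem haQ)), ← mul_assoc, H.z2, one_mul]
  have habel : ∀ p ∈ W, ∀ q ∈ W, p * q = q * p := by
    intro p hp q hq
    obtain ⟨b, hbA, hbW, e1⟩ := hdec p hp
    obtain ⟨c, hcA, hcW, e2⟩ := hdec q hq
    have h1 : Commute b c := hAc b hbA c hcA
    have h2 : Commute b a := hac b hbW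
    have h3 : Commute c a := hac c hcW
    show Commute p q
    rcases e1 with rfl | rfl <;> rcases e2 with rfl | rfl
    · exact h1
    · exact h1.mul_right h2
    · exact h1.mul_left h3.symm
    · exact (h1.mul_right h2).mul_left (h3.symm.mul_right (Commute.refl a))
  have h32 := H.card_abelian_le (B := W) (fun p hp => hp.1) habel
  have := H.card_preim (P.del H).ker
  rw [← hW] at this
  omega

end CfsgLib.ThreeSixCent
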