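import Cfsg.Agent.Lib.ThreeSixCent.SmallPair
import Cfsg.Agent.Lib.ThreeSixCent.EightPair
import Cfsg.Agent.Lib.ThreeSixCent.OutSmall
import Cfsg.Agent.Lib.ThreeSixCent.OutCoords
import Cfsg.Agent.Lib.ZStar.Main

/-!
No simple group has such a centraliser of an involution.
-/

set_option autoImplicit false
set_option linter.unusedSectionVars false
set_option linter.style.haveILetI false

open Cfsg CfsgLib.Extraspecial

namespace CfsgLib.ThreeSixCent

variable {G : Type*} [Group G] [Finite G] {z : G} {Q : Subgroup G} {π : ↥(Cz z) →* M0}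

namespace Pre

variable (H : Pre z Q π)
include H

/-- the involution is not central in a simple group -/
theorem not_top (hs : IsSimpleGroup G) : ∃ a : G, a * z ≠ z * a := by
  by_contra hc
  push Not at hc
  haveI : Q.Normal := ⟨fun q hq a => H.conjQ (mem_Cz.2 (hc a)) hq⟩
  rcases hs.eq_bot_or_eq_top_of_normal Q ‹_› with e | e
  · have := H.card; rw [e, Subgroup.card_bot] at this; norm_num at this
  · obtain ⟨c, hcC, hci⟩ := H.lift' mX_sign.1 (by rw [mX_sign.2.2.2.2.2.1, map_one])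
    rw [H.img_Q (e ▸ Subgroup.mem_top c)] at hci
    exact absurd hci (by decide +kernel)

/-- some other conjugate commutes with `z` -/
theorem exists_comm_conj (hs : IsSimpleGroup G) : ∃ g : G, g * z * g⁻¹ ∈ Cz z ∧ g * z * g⁻¹ ≠ z := by
  by_contra hno
  push Not at hno
  have hiso : IsIsolatedInvolution z :=
    ⟨H.st.ordz, fun g hg => hno g (mem_Cz.2 hg.symm.eq)⟩
  have hcore := ZStar.commutatorsInCore_of_isolated hiso
  obtain ⟨a, ha⟩ := H.not_top hs
  have : (pPrimeCore 2 G).Normal := Transfer.pPrimeCore_normal 2 G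
  rcases hs.eq_bot_or_eq_top_of_normal _ this with e | e
  · exact ha ((ZStar.commute_of_commutatorsInCore e hcore a).symm.eq)
  · have h := ZStar.odd_card_core (G := G)
    rw [e, Subgroup.card_top] at h
    have h2 : 2 ∣ Nat.card G := H.st.ordz ▸ orderOf_dvd_natCard z
    exact (Nat.not_even_iff_odd.2 h) (even_iff_two_dvd.2 h2)

theorem not_simple (hs : IsSimpleGroup G) : False := by
  obtain ⟨g, hgC, hgne⟩ := H.exists_comm_conj hs
  obtain ⟨x, a, b, p, r, F⟩ := H.exists_frame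
  rcases H.eig_or_small F with ⟨π', x', a', b', p', r', e, H', F', E⟩ | hsm
  · obtain ⟨π'', ψ, H'', C⟩ := H'.exists_coords F' E
    have wc : ∀ h : G, h * z * h⁻¹ ∈ Q → h * z * h⁻¹ = z := fun h hh => by
      by_contra hne
      exact H''.coords_no_pair C hh hne
    exact coords_no_out H'' C (g := g) ⟨wc, hgC, fun hQ => hgne (wc g hQ)⟩
  · have S := H.small_of F hsm
    have wc : ∀ h : G, h * z * h⁻¹ ∈ Q → h * z * h⁻¹ = z := fun h hh => by
      by_contra hne
      exact S.no_pair H hh hne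
    exact S.no_out H (g := g) ⟨wc, hgC, fun hQ => hgne (wc g hQ)⟩

end Pre

/-- the setting from a self-centralising extraspecial normal subgroup of the centraliser -/
theorem setting_of (hz : orderOf z = 2) (O : Subgroup ↥(Cz z)) [hn : O.Normal]
    (hex : IsExtraspecial 2 ↥O) (hc : Subgroup.centralizer (O : Set ↥(Cz z)) ≤ O) :
    Setting (O.map (Cz z).subtype) z := by
  haveI := Fact.mk Nat.prime_two
  set Q := O.map (Cz z).subtype with hQ
  have hQC : Q ≤ Cz z := Subgroup.map_subtype_le _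
  have hzC : z ∈ Cz z := mem_Cz.2 rfl
  have hin : ∀ x (hx : x ∈ Cz z), (∀ q ∈ Q, q * x = x * q) → x ∈ Q := fun x hx h =>
    ⟨⟨x, hx⟩, hc (Subgroup.mem_centralizer_iff.2 fun q hq => Subtype.ext (h q ⟨q, hq, rfl⟩)), rfl⟩
  have hzQ : z ∈ Q := hin z hzC fun q hq => mem_Cz.1 (hQC hq)
  have hexQ : IsExtraspecial 2 ↥Q :=
    isExtraspecial_congr (O.equivMapOfInjective _ (Subgroup.subtype_injective _)) hex
  have hzc : (⟨z, hzQ⟩ : Q) ∈ Subgroup.center Q :=
    Subgroup.mem_center_iff.mpr fun q => Subtype.ext (mem_Cz.1 (hQC q.2))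
  have hce : Subgroup.center Q = Subgroup.zpowers (⟨z, hzQ⟩ : Q) := by
    refine (Subgroup.eq_of_le_of_card_ge (Subgroup.zpowers_le.mpr hzc) ?_).symm
    rw [Nat.card_zpowers, Subgroup.orderOf_mk, hz, hexQ.2]
  have hcen : (Subgroup.center Q).map Q.subtype = Subgroup.zpowers z := by
    rw [hce, MonoidHom.map_zpowers]; rfl
  refine ⟨hexQ, hcen, hz, le_antisymm (fun x hx => ?_) (Subgroup.zpowers_le.mpr ?_), fun x hx => ?_⟩
  · rw [Subgroup.mem_centralizer_iff] at hx
    have hxQ := hin x (mem_Cz.2 (hx z hzQ).symm) hx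
    exact hcen.le ⟨⟨x, hxQ⟩, Subgroup.mem_center_iff.mpr fun q => Subtype.ext (hx q q.2), rfl⟩
  · exact Subgroup.mem_centralizer_iff.mpr fun q hq => mem_Cz.1 (hQC hq)
  · have h := Subgroup.le_normalizer_map (H := O) (Cz z).subtype
      (⟨⟨x, hx⟩, by rw [Subgroup.normalizer_eq_top]; exact Subgroup.mem_top _, rfl⟩ :
        x ∈ (Subgroup.normalizer (O : Set ↥(Cz z))).map (Cz z).subtype)
    exact h

/-- the data from an isomorphism of the quotient with a large subgroup -/
theorem not_simple_of (O : Subgroup ↥(Cz z)) [O.Normal] (hst : Setting (O.map (Cz z).subtype) z)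
    (hcard : Nat.card ↥O = 2 ^ 9) {X : Type*} [Group X] (e : ↥(Cz z) ⧸ O ≃* X) (ι : X →* M0)
    (hι : Function.Injective ι)
    (hbig : ∀ m : M0, Equiv.Perm.sign m.1 = 1 → Equiv.Perm.sign m.2 = 1 → m ∈ ι.range)
    (hodd : ∃ m ∈ ι.range, Equiv.Perm.sign m.1 = -1) (hs : IsSimpleGroup G) : False := by
  set f : ↥(Cz z) →* M0 := ι.comp (e.toMonoidHom.comp (QuotientGroup.mk' O)) with hf
  have hr : ∀ m, m ∈ ι.range → m ∈ f.range := by
    rintro _ ⟨x, rfl⟩
    obtain ⟨c, hc⟩ := QuotientGroup.mk'_surjective O (e.symm x)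
    exact ⟨c, by simp [hf, ← QuotientGroup.mk'_apply, hc]⟩
  refine Pre.not_simple (π := f) (Q := O.map (Cz z).subtype) ⟨hst, ?_, ?_,
    fun m h1 h2 => hr m (hbig m h1 h2), ?_⟩ hs
  · rw [Subgroup.card_map_of_injective (Subgroup.subtype_injective _), hcard]; norm_num
  · ext c
    rw [MonoidHom.mem_ker, Subgroup.mem_subgroupOf]
    show ι (e (QuotientGroup.mk' O c)) = 1 ↔ _
    rw [map_eq_one_iff _ hι, map_eq_one_iff _ e.injective, QuotientGroup.mk'_apply,
      QuotientGroup.eq_one_iff]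
    exact ⟨fun h => ⟨c, h, rfl⟩, fun ⟨d, hd, he⟩ => by rwa [← Subtype.ext (a1 := d) (a2 := c) he]⟩
  · obtain ⟨m, hm, hm1⟩ := hodd
    exact ⟨m, hr m hm, hm1⟩

end CfsgLib.ThreeSixCent
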