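import Cfsg.Agent.Lib.ThreeSixCent.Model

/-!
An outer automorphism of the symmetric group of degree six: the action on the six totals.
-/

set_option autoImplicit false

open Equiv

namespace CfsgLib.ThreeSixCent

/-- the totals -/
def tot (i : Fin 6) : List (Equiv.Perm (Fin 6)) :=
  match i.1 with
  | 0 => [swap 0 1 * swap 2 4 * swap 3 5, swap 0 2 * swap 1 5 * swap 3 4, swap 0 3 * swap 1 2 * swap 4 5, swap 0 4 * swap 1 3 * swap 2 5, swap 0 5 * swap 1 4 * swap 2 3]
  | 1 => [swap 0 1 * swap 2 3 * swap 4 5, swap 0 2 * swap 1 4 * swap 3 5, swap 0 3 * swap 1 5 * swap 2 4, swap 0 4 * swap 1 3 * swap 2 5, swap 0 5 * swap 1 2 * swap 3 4]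
  | 2 => [swap 0 1 * swap 2 5 * swap 3 4, swap 0 2 * swap 1 3 * swap 4 5, swap 0 3 * swap 1 5 * swap 2 4, swap 0 4 * swap 1 2 * swap 3 5, swap 0 5 * swap 1 4 * swap 2 3]
  | 3 => [swap 0 1 * swap 2 4 * swap 3 5, swap 0 2 * swap 1 3 * swap 4 5, swap 0 3 * swap 1 4 * swap 2 5, swap 0 4 * swap 1 5 * swap 2 3, swap 0 5 * swap 1 2 * swap 3 4]
  | 4 => [swap 0 1 * swap 2 3 * swap 4 5, swap 0 2 * swap 1 5 * swap 3 4, swap 0 3 * swap 1 4 * swap 2 5, swap 0 4 * swap 1 2 * swap 3 5, swap 0 5 * swap 1 3 * swap 2 4]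
  | _ => [swap 0 1 * swap 2 5 * swap 3 4, swap 0 2 * swap 1 4 * swap 3 5, swap 0 3 * swap 1 2 * swap 4 5, swap 0 4 * swap 1 5 * swap 2 3, swap 0 5 * swap 1 3 * swap 2 4]

/-- the index of the image of a total -/
def thF (g : Equiv.Perm (Fin 6)) (i : Fin 6) : Fin 6 :=
  ((List.finRange 6).find? fun j => (tot i).all fun s => (tot j).contains (g * s * g⁻¹)).getD 0

theorem swap_spec : ∀ (a b i : Fin 6), ∃ j : Fin 6,
    ∀ s ∈ tot i, swap a b * s * (swap a b)⁻¹ ∈ tot j := by
  decide +kernel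

theorem exists_image (g : Equiv.Perm (Fin 6)) :
    ∀ i : Fin 6, ∃ j : Fin 6, ∀ s ∈ tot i, g * s * g⁻¹ ∈ tot j := by
  refine Equiv.Perm.swap_induction_on g (fun i => ⟨i, fun s hs => by simpa using hs⟩) ?_
  intro f a b _ ih i
  obtain ⟨j, hj⟩ := ih i
  obtain ⟨k, hk⟩ := swap_spec a b j
  refine ⟨k, fun s hs => ?_⟩
  have e := hk _ (hj s hs)
  rwa [show swap a b * (f * s * f⁻¹) * (swap a b)⁻¹ = swap a b * f * s * (swap a b * f)⁻¹ by group] at e

theorem thF_spec (g : Equiv.Perm (Fin 6)) (i : Fin 6) :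
    ∀ s ∈ tot i, g * s * g⁻¹ ∈ tot (thF g i) := by
  obtain ⟨j, hj⟩ := exists_image g i
  intro s hs
  unfold thF
  cases hf : (List.finRange 6).find? fun j => (tot i).all fun s => (tot j).contains (g * s * g⁻¹) with
  | none =>
    have := List.find?_eq_none.mp hf j (List.mem_finRange j)
    simp only [List.all_eq_true, List.contains_iff_mem] at this
    exact absurd hj this
  | some k =>
    have := List.find?_some hf
    simp only [List.all_eq_true, List.contains_iff_mem] at this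
    exact this s hs

theorem tot_inj : ∀ i j : Fin 6, (∀ s ∈ tot i, s ∈ tot j) → i = j := by decide +kernel

theorem thF_eq {g : Equiv.Perm (Fin 6)} {i j : Fin 6} (h : ∀ s ∈ tot i, g * s * g⁻¹ ∈ tot j) :
    thF g i = j := by
  have key : ∀ a b : Fin 6, (∃ s ∈ tot a, ∃ t ∈ tot a, s ≠ t ∧ s ∈ tot b ∧ t ∈ tot b) → a = b := by
    decide +kernel
  have two : ∀ a : Fin 6, ∃ s ∈ tot a, ∃ t ∈ tot a, s ≠ t := by decide +kernel
  obtain ⟨s, hs, t, ht, hne⟩ := two i
  exact key _ _ ⟨_, thF_spec g i s hs, _, thF_spec g i t ht,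
    fun e => hne (mul_left_cancel (mul_right_cancel e)), h s hs, h t ht⟩

theorem thF_mul (g h : Equiv.Perm (Fin 6)) (i : Fin 6) : thF (g * h) i = thF g (thF h i) := by
  refine thF_eq fun s hs => ?_
  have e := thF_spec g _ _ (thF_spec h i s hs)
  rwa [show g * (h * s * h⁻¹) * g⁻¹ = g * h * s * (g * h)⁻¹ by group] at e

theorem thF_one (i : Fin 6) : thF 1 i = i := thF_eq fun s hs => by simpa using hs

/-- the outer automorphism -/
def th : Equiv.Perm (Fin 6) →* Equiv.Perm (Fin 6) :=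
  MonoidHom.mk'
    (fun g => ⟨thF g, thF g⁻¹, fun i => by rw [← thF_mul, inv_mul_cancel, thF_one],
      fun i => by rw [← thF_mul, mul_inv_cancel, thF_one]⟩)
    (fun g h => Equiv.ext fun i => thF_mul g h i)

theorem trivial_of_comm : ∀ g : Equiv.Perm (Fin 6),
    (∀ s ∈ tot 0, g * s = s * g) → (∀ s ∈ tot 1, g * s = s * g) → g = 1 := by decide +kernel

theorem mem_two : ∀ i : Fin 6, i.1 < 2 → ∀ s ∈ tot i, ∃ j : Fin 6, j ≠ i ∧ s ∈ tot j ∧
    ∀ t ∈ tot i, t ∈ tot j → t = s := by decide +kernel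

theorem th_ker (g : Equiv.Perm (Fin 6)) (hg : ∀ i, thF g i = i) : g = 1 := by
  have key : ∀ i : Fin 6, i.1 < 2 → ∀ s ∈ tot i, g * s = s * g := by
    intro i hi s hs
    obtain ⟨j, _, hsj, hu⟩ := mem_two i hi s hs
    have h1 := thF_spec g i s hs
    have h2 := thF_spec g j s hsj
    rw [hg] at h1 h2
    exact mul_inv_eq_iff_eq_mul.mp (hu _ h1 h2)
  exact trivial_of_comm g (key 0 (by decide)) (key 1 (by decide))

theorem th_injective : Function.Injective th := by
  rw [injective_iff_map_eq_one]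
  exact fun g hg => th_ker g fun i => Equiv.ext_iff.mp hg i

theorem th_bijective : Function.Bijective th := Finite.injective_iff_bijective.mp th_injective

theorem th_values : th (swap 0 1 * swap 1 2 * (swap 3 4 * swap 4 5)) = swap 0 1 * swap 1 2 ∧
    th ((swap 0 1 * swap 1 2)⁻¹ * (swap 3 4 * swap 4 5)) = swap 3 4 * swap 4 5 := by
  decide +kernel

theorem th_sign_swap : ∀ a b : Fin 6, a ≠ b → Equiv.Perm.sign (th (swap a b)) = -1 := by
  decide +kernel

theorem th_sign (g : Equiv.Perm (Fin 6)) : Equiv.Perm.sign (th g) = Equiv.Perm.sign g := by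
  refine Equiv.Perm.swap_induction_on g (by rw [map_one]) ?_
  intro f a b hab ih
  rw [map_mul, map_mul, map_mul, ih, th_sign_swap a b hab, Equiv.Perm.sign_swap hab]

/-- the outer automorphism on the second factor -/
def th2 : M0 →* M0 := MonoidHom.prodMap (MonoidHom.id _) th

theorem th2_injective : Function.Injective th2 := by
  rintro ⟨a, b⟩ ⟨c, d⟩ h
  have h' := Prod.ext_iff.mp h
  exact Prod.ext h'.1 (th_injective h'.2)

end CfsgLib.ThreeSixCent
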