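import Cfsg.Agent.Lib.ThreeSixCent.Setup
import Cfsg.Agent.Lib.ThreeSixCent.Theta

/-!
Either a common eigenvector for two commuting elements of order three in the layer exists, or the
layer centralises the commutator of `Q` with the normal subgroup of order three.
-/

set_option autoImplicit false
set_option linter.unusedSectionVars false
set_option linter.style.haveILetI false

open Cfsg CfsgLib.Extraspecial
open Equiv (Perm)

namespace CfsgLib.ThreeSixCent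

variable {G : Type*} [Group G] [Finite G] {z : G} {Q : Subgroup G} {π : ↥(Cz z) →* M0}

/-- lifts of the five generators -/
structure Frame (π : ↥(Cz z) →* M0) (x a b p r : G) : Prop where
  xC : x ∈ Cz z
  aC : a ∈ Cz z
  bC : b ∈ Cz z
  pC : p ∈ Cz z
  rC : r ∈ Cz z
  hx : img z π x = mX
  ha : img z π a = mA
  hb : img z π b = mB
  hp : img z π p = mP
  hr : img z π r = mR

/-- norm zero for the element of order three -/
def Nz (Q : Subgroup G) (x : G) (t : T Q) : Prop := t * ac Q x t * ac Q x (ac Q x t) = 1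

theorem mX_pow : mX * mX * mX = 1 ∧ (mX * mA = mA * mX ∧ mX * mB = mB * mX ∧ mA * mB = mB * mA) ∧
    mA * mA * mA = 1 ∧ mB * mB * mB = 1 ∧ mX * mP = mP * mX ∧ mX * mR = mR * mX ∧
    mA * mP = mP * mB⁻¹ ∧ mB * mP = mP * mA := by decide +kernel

theorem mX_sign : Perm.sign mX.1 = 1 ∧ Perm.sign mA.2 = 1 ∧ Perm.sign mB.2 = 1 ∧ Perm.sign mP.2 = 1 ∧
    Perm.sign mR.2 = 1 ∧ mX.2 = 1 ∧ mA.1 = 1 ∧ mB.1 = 1 ∧ mP.1 = 1 ∧ mR.1 = 1 := by decide +kernel

theorem mX_comm (m : M0) (h : m.1 = 1) : mX * m = m * mX := by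
  obtain ⟨a, b⟩ := m
  have h : a = 1 := h
  subst h
  ext1 <;> simp [mX]

namespace Pre

variable (H : Pre z Q π)
include H

theorem exists_frame : ∃ x a b p r : G, Frame π x a b p r := by
  obtain ⟨hX, hA, hB, hP, hR, hX2, hA1, hB1, hP1, hR1⟩ := mX_sign
  obtain ⟨x, hx, ex⟩ := H.lift' hX (by rw [hX2, map_one])
  obtain ⟨a, ha, ea⟩ := H.lift' (m := mA) (by rw [hA1, map_one]) hA
  obtain ⟨b, hb, eb⟩ := H.lift' (m := mB) (by rw [hB1, map_one]) hB
  obtain ⟨p, hp, ep⟩ := H.lift' (m := mP) (by rw [hP1, map_one]) hP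
  obtain ⟨r, hr, er⟩ := H.lift' (m := mR) (by rw [hR1, map_one]) hR
  exact ⟨x, a, b, p, r, hx, ha, hb, hp, hr, ex, ea, eb, ep, er⟩

theorem theta : Pre z Q (th2.comp π) where
  st := H.st
  card := H.card
  ker := by
    ext y
    rw [MonoidHom.mem_ker, MonoidHom.comp_apply, map_eq_one_iff _ th2_injective, ← MonoidHom.mem_ker,
      H.ker]
  big m h1 h2 := by
    obtain ⟨g, hg⟩ := th_bijective.2 m.2
    obtain ⟨y, hy⟩ := H.big (m.1, g) h1 (by rw [← th_sign g, hg]; exact h2)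
    exact ⟨y, by rw [MonoidHom.comp_apply, hy]; exact Prod.ext rfl hg⟩
  odd := by
    obtain ⟨m, ⟨y, rfl⟩, hs⟩ := H.odd
    exact ⟨th2 (π y), ⟨y, rfl⟩, hs⟩

theorem img_theta {c : G} (hc : c ∈ Cz z) : img z (th2.comp π) c = th2 (img z π c) := by
  rw [img, img, dif_pos hc, dif_pos hc]
  rfl

theorem ac_comm {c d : G} (hc : c ∈ Cz z) (hd : d ∈ Cz z)
    (h : img z π c * img z π d = img z π d * img z π c) (t : T Q) :
    ac Q c (ac Q d t) = ac Q d (ac Q c t) := by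
  rw [← H.ac_comp hc hd, ← H.ac_comp hd hc]
  exact H.ac_img ((Cz z).mul_mem hc hd) ((Cz z).mul_mem hd hc)
    (by rw [H.img_mul hc hd, H.img_mul hd hc, h]) t

theorem ac_eq_one {c : G} (hc : c ∈ Cz z) {t : T Q} : ac Q c t = 1 ↔ t = 1 := by
  constructor
  · intro h
    exact H.ac_inj hc (h.trans (H.ac_one_t hc).symm)
  · rintro rfl
    exact H.ac_one_t hc

theorem ac_cube {c : G} (hc : c ∈ Cz z) (h : img z π c * img z π c * img z π c = 1) (t : T Q) :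
    ac Q c (ac Q c (ac Q c t)) = t := by
  rw [← H.ac_comp hc hc, ← H.ac_comp ((Cz z).mul_mem hc hc) hc]
  have hm : c * c * c ∈ Q := by
    rw [← H.img_eq_one ((Cz z).mul_mem ((Cz z).mul_mem hc hc) hc), H.img_mul ((Cz z).mul_mem hc hc) hc,
      H.img_mul hc hc, h]
  exact H.ac_Q hm t

theorem nz_mul {x : G} (hx : x ∈ Cz z) {s t : T Q} (hs : Nz Q x s) (ht : Nz Q x t) : Nz Q x (s * t) := by
  letI : CommGroup (T Q) := { (inferInstance : Group (T Q)) with mul_comm := H.T_comm }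
  unfold Nz at *
  rw [H.ac_mul hx, H.ac_mul hx]
  calc _ = (s * ac Q x s * ac Q x (ac Q x s)) * (t * ac Q x t * ac Q x (ac Q x t)) := by ac_rfl
    _ = 1 := by rw [hs, ht, one_mul]

theorem nz_ac {x c : G} (hx : x ∈ Cz z) (hc : c ∈ Cz z)
    (h : img z π x * img z π c = img z π c * img z π x) {t : T Q} (ht : Nz Q x t) :
    Nz Q x (ac Q c t) := by
  unfold Nz at *
  rw [H.ac_comm hx hc h, H.ac_comm hx hc h, ← H.ac_mul hc, ← H.ac_mul hc, ht, H.ac_one_t hc]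

/-- an eigenvector inside a set closed under the operations -/
theorem exists_eigen {x c : G} (hx : x ∈ Cz z) (hc : c ∈ Cz z)
    (hx3 : img z π x * img z π x * img z π x = 1) (hc3 : img z π c * img z π c * img z π c = 1)
    (hxc : img z π x * img z π c = img z π c * img z π x) (P : T Q → Prop)
    (hPm : ∀ s t, P s → P t → P (s * t)) (hPx : ∀ t, P t → P (ac Q x t)) (hPc : ∀ t, P t → P (ac Q c t))
    (hPn : ∀ t, P t → Nz Q x t) {w : T Q} (hw : P w) (hne : ac Q c w ≠ w) :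
    ∃ e, P e ∧ e ≠ 1 ∧ (ac Q c e = ac Q x e ∨ ac Q c e = ac Q x (ac Q x e)) := by
  letI : CommGroup (T Q) := { (inferInstance : Group (T Q)) with mul_comm := H.T_comm }
  obtain ⟨w1, hw1⟩ : ∃ u, u = ac Q c w * w := ⟨_, rfl⟩
  have hP1 : P w1 := hw1 ▸ hPm _ _ (hPc _ hw) hw
  have h1 : w1 ≠ 1 := fun h => hne (H.T_mul_eq_one.1 (hw1 ▸ h))
  have hn1 : w1 * ac Q c w1 * ac Q c (ac Q c w1) = 1 := by
    rw [hw1, H.ac_mul hc, H.ac_mul hc, H.ac_cube hc hc3]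
    calc _ = (w * w) * (ac Q c w * ac Q c w) * (ac Q c (ac Q c w) * ac Q c (ac Q c w)) := by ac_rfl
      _ = 1 := by simp only [H.T_sq]
  obtain ⟨w2, hw2⟩ : ∃ u, u = ac Q c w1 * ac Q x w1 := ⟨_, rfl⟩
  by_cases h2 : w2 = 1
  · exact ⟨w1, hP1, h1, Or.inl (H.T_mul_eq_one.1 (hw2 ▸ h2))⟩
  · refine ⟨w2, hw2 ▸ hPm _ _ (hPc _ hP1) (hPx _ hP1), h2, Or.inr ?_⟩
    rw [← H.T_mul_eq_one, hw2, H.ac_mul hc, H.ac_mul hx, H.ac_mul hx, ← H.ac_comm hx hc hxc,
      H.ac_cube hx hx3]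
    have hxx : w1 * ac Q x w1 * ac Q x (ac Q x w1) = 1 := hPn _ hP1
    have e2 : ac Q c w1 * ac Q x (ac Q c w1) * ac Q x (ac Q x (ac Q c w1)) = 1 := hPn _ (hPc _ hP1)
    calc _ = (w1 * ac Q c w1 * ac Q c (ac Q c w1)) *
        (ac Q c w1 * ac Q x (ac Q c w1) * ac Q x (ac Q x (ac Q c w1))) := by
          rw [show ac Q c w1 * ac Q x (ac Q c w1) = ac Q c w1 * ac Q x (ac Q c w1) from rfl]
          calc _ = w1 * ac Q c (ac Q c w1) * ac Q x (ac Q c w1) * ac Q x (ac Q x (ac Q c w1)) *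
              (ac Q c w1 * ac Q c w1) := by rw [H.T_sq, mul_one]; ac_rfl
            _ = _ := by ac_rfl
      _ = 1 := by rw [hn1, e2, one_mul]

end Pre

/-- a common eigenvector -/
structure Eig (Q : Subgroup G) (x a b : G) (e : T Q) : Prop where
  ne : e ≠ 1
  nz : Nz Q x e
  ea : ac Q a e = ac Q x e
  eb : ac Q b e = e

namespace Frame

variable {x a b p r : G} (F : Frame π x a b p r) (H : Pre z Q π)
include F H

theorem comm_x {c : G} (hc1 : (img z π c).1 = 1) : img z π x * img z π c = img z π c * img z π x := by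
  rw [F.hx]; exact mX_comm _ hc1

theorem ea_flip {e : T Q} (hne : e ≠ 1) (hnz : Nz Q x e)
    (hea : ac Q a e = ac Q x (ac Q x e)) (heb : ac Q b e = e) : ∃ e', Eig Q x a b e' := by
  have xp : img z π x * img z π p = img z π p * img z π x := F.comm_x H (by rw [F.hp]; rfl)
  have h1 : ∀ t, ac Q a (ac Q p t) = ac Q p (ac Q b (ac Q b t)) := by
    intro t
    rw [← H.ac_comp F.aC F.pC, ← H.ac_comp F.bC F.bC, ← H.ac_comp F.pC ((Cz z).mul_mem F.bC F.bC)]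
    refine H.ac_img ((Cz z).mul_mem F.aC F.pC) ((Cz z).mul_mem F.pC ((Cz z).mul_mem F.bC F.bC)) ?_ t
    rw [H.img_mul F.aC F.pC, H.img_mul F.pC ((Cz z).mul_mem F.bC F.bC), H.img_mul F.bC F.bC, F.ha,
      F.hp, F.hb]
    decide +kernel
  have h2 : ∀ t, ac Q b (ac Q p t) = ac Q p (ac Q a t) := by
    intro t
    rw [← H.ac_comp F.bC F.pC, ← H.ac_comp F.pC F.aC]
    refine H.ac_img ((Cz z).mul_mem F.bC F.pC) ((Cz z).mul_mem F.pC F.aC) ?_ t
    rw [H.img_mul F.bC F.pC, H.img_mul F.pC F.aC, F.hb, F.hp, F.ha]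
    exact mX_pow.2.2.2.2.2.2.2
  have hx3 : ∀ t, ac Q x (ac Q x (ac Q x t)) = t :=
    H.ac_cube F.xC (by rw [F.hx]; exact mX_pow.1)
  refine ⟨ac Q p (ac Q p e), fun h => hne ((H.ac_eq_one F.pC).1 ((H.ac_eq_one F.pC).1 h)),
    H.nz_ac F.xC F.pC xp (H.nz_ac F.xC F.pC xp hnz), ?_, ?_⟩
  · rw [H.ac_comm F.xC F.pC xp, H.ac_comm F.xC F.pC xp, h1, h2, h2]
    congr 2
    rw [hea, ← H.ac_comm F.xC F.aC (F.comm_x H (by rw [F.ha]; rfl)),
      ← H.ac_comm F.xC F.aC (F.comm_x H (by rw [F.ha]; rfl)), hea, hx3]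
  · rw [h2, h1, heb, heb]

theorem swap_eig {e : T Q} (hne : e ≠ 1) (hnz : Nz Q x e) (hea : ac Q a e = e)
    (heb : ac Q b e = ac Q x e ∨ ac Q b e = ac Q x (ac Q x e)) : ∃ e', Eig Q x a b e' := by
  have xp : img z π x * img z π p = img z π p * img z π x := F.comm_x H (by rw [F.hp]; rfl)
  have xb : img z π x * img z π b = img z π b * img z π x := F.comm_x H (by rw [F.hb]; rfl)
  have hx3 : ∀ t, ac Q x (ac Q x (ac Q x t)) = t :=
    H.ac_cube F.xC (by rw [F.hx]; exact mX_pow.1)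
  have h2 : ac Q b (ac Q p e) = ac Q p e := by
    rw [← H.ac_comp F.bC F.pC]
    conv_rhs => rw [← hea, ← H.ac_comp F.pC F.aC]
    refine H.ac_img ((Cz z).mul_mem F.bC F.pC) ((Cz z).mul_mem F.pC F.aC) ?_ e
    rw [H.img_mul F.bC F.pC, H.img_mul F.pC F.aC, F.hb, F.hp, F.ha]
    exact mX_pow.2.2.2.2.2.2.2
  have h1 : ac Q a (ac Q p e) = ac Q p (ac Q b (ac Q b e)) := by
    rw [← H.ac_comp F.aC F.pC, ← H.ac_comp F.bC F.bC, ← H.ac_comp F.pC ((Cz z).mul_mem F.bC F.bC)]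
    refine H.ac_img ((Cz z).mul_mem F.aC F.pC) ((Cz z).mul_mem F.pC ((Cz z).mul_mem F.bC F.bC)) ?_ e
    rw [H.img_mul F.aC F.pC, H.img_mul F.pC ((Cz z).mul_mem F.bC F.bC), H.img_mul F.bC F.bC, F.ha,
      F.hp, F.hb]
    decide +kernel
  have hne' : ac Q p e ≠ 1 := fun h => hne ((H.ac_eq_one F.pC).1 h)
  rcases heb with h | h
  · refine F.ea_flip H hne' (H.nz_ac F.xC F.pC xp hnz) ?_ h2
    rw [h1, h, ← H.ac_comm F.xC F.bC xb, h, H.ac_comm F.xC F.pC xp, H.ac_comm F.xC F.pC xp]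
  · refine ⟨_, hne', H.nz_ac F.xC F.pC xp hnz, ?_, h2⟩
    rw [h1, h, ← H.ac_comm F.xC F.bC xb, ← H.ac_comm F.xC F.bC xb, h, hx3, H.ac_comm F.xC F.pC xp]

end Frame

namespace Pre

variable (H : Pre z Q π)
include H

/-- the dichotomy -/
theorem eig_or_small {x a b p r : G} (F : Frame π x a b p r) :
    (∃ (π' : ↥(Cz z) →* M0) (x' a' b' p' r' : G) (e : T Q), Pre z Q π' ∧ Frame π' x' a' b' p' r' ∧
      Eig Q x' a' b' e) ∨
    (∀ t, Nz Q x t → ac Q a t = t) := by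
  by_cases hsm : ∀ t, Nz Q x t → ac Q a t = t
  · exact Or.inr hsm
  left
  push Not at hsm
  obtain ⟨w, hw, hwne⟩ := hsm
  obtain ⟨hX3, ⟨hxa, hxb, hab⟩, hA3, hB3, -⟩ := mX_pow
  have xa : img z π x * img z π a = img z π a * img z π x := by rw [F.hx, F.ha, hxa]
  have xb : img z π x * img z π b = img z π b * img z π x := by rw [F.hx, F.hb, hxb]
  have x3 : img z π x * img z π x * img z π x = 1 := by rw [F.hx, hX3]
  obtain ⟨e, hen, hene, hea⟩ := H.exists_eigen F.xC F.aC x3 (by rw [F.ha, hA3]) xa (Nz Q x)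
    (fun _ _ => H.nz_mul F.xC) (fun _ => H.nz_ac F.xC F.xC rfl) (fun _ => H.nz_ac F.xC F.aC xa)
    (fun _ h => h) hw hwne
  obtain ⟨k, hk⟩ : ∃ k : T Q → T Q, k e = ac Q a e ∧
      (k = ac Q x ∨ k = fun t => ac Q x (ac Q x t)) := by
    rcases hea with h | h
    · exact ⟨_, h.symm, Or.inl rfl⟩
    · exact ⟨fun t => ac Q x (ac Q x t), h.symm, Or.inr rfl⟩
  have kmul : ∀ s t, k (s * t) = k s * k t := by
    rcases hk.2 with rfl | rfl <;> intro s t <;> simp [H.ac_mul F.xC]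
  have kcomm : ∀ (c : G), c ∈ Cz z → (img z π x * img z π c = img z π c * img z π x) →
      ∀ t, k (ac Q c t) = ac Q c (k t) := by
    rcases hk.2 with rfl | rfl <;> intro c hc hcc t
    · exact H.ac_comm F.xC hc hcc t
    · show ac Q x (ac Q x (ac Q c t)) = ac Q c (ac Q x (ac Q x t))
      rw [H.ac_comm F.xC hc hcc, H.ac_comm F.xC hc hcc]
  have ab' : ∀ t, ac Q a (ac Q b t) = ac Q b (ac Q a t) :=
    H.ac_comm F.aC F.bC (by rw [F.ha, F.hb, hab])
  by_cases hbe : ac Q b e = e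
  · rcases hea with h | h
    · exact ⟨π, x, a, b, p, r, e, H, F, hene, hen, h, hbe⟩
    · obtain ⟨e', he'⟩ := F.ea_flip H hene hen h hbe
      exact ⟨π, x, a, b, p, r, e', H, F, he'⟩
  obtain ⟨f, ⟨hfn, hfa⟩, hfne, hfb⟩ := H.exists_eigen F.xC F.bC x3 (by rw [F.hb, hB3]) xb
    (fun t => Nz Q x t ∧ ac Q a t = k t)
    (fun s t hs ht => ⟨H.nz_mul F.xC hs.1 ht.1, by rw [H.ac_mul F.aC, hs.2, ht.2, kmul]⟩)
    (fun t ht => ⟨H.nz_ac F.xC F.xC rfl ht.1, by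
      rw [← H.ac_comm F.xC F.aC xa, ht.2, kcomm x F.xC rfl]⟩)
    (fun t ht => ⟨H.nz_ac F.xC F.bC xb ht.1, by rw [ab', ht.2, kcomm b F.bC xb]⟩)
    (fun _ h => h.1) (show Nz Q x e ∧ ac Q a e = k e from ⟨hen, hk.1.symm⟩) hbe
  obtain ⟨π', hπ', hπ'e⟩ : ∃ π' : ↥(Cz z) →* M0, Pre z Q π' ∧ π' = th2.comp π :=
    ⟨_, H.theta, rfl⟩
  obtain ⟨x', a', b', p', r', F'⟩ := hπ'.exists_frame
  subst hπ'e
  have hxF : img z (th2.comp π) x = mX := by
    rw [H.img_theta F.xC, F.hx]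
    exact Prod.ext rfl (map_one th)
  have FN : Frame (th2.comp π) x (a * b) (a⁻¹ * b) p' r' := by
    refine ⟨F.xC, (Cz z).mul_mem F.aC F.bC, (Cz z).mul_mem ((Cz z).inv_mem F.aC) F.bC, F'.pC, F'.rC,
      hxF, ?_, ?_, F'.hp, F'.hr⟩
    · rw [H.img_theta ((Cz z).mul_mem F.aC F.bC), H.img_mul F.aC F.bC, F.ha, F.hb]
      exact Prod.ext rfl th_values.1
    · rw [H.img_theta ((Cz z).mul_mem ((Cz z).inv_mem F.aC) F.bC),
        H.img_mul ((Cz z).inv_mem F.aC) F.bC, H.img_inv F.aC, F.ha, F.hb]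
      exact Prod.ext rfl th_values.2
  have hAB : ac Q (a * b) f = ac Q a (ac Q b f) := H.ac_comp F.aC F.bC f
  have hX' : ∀ t, ac Q x (ac Q x (ac Q x t)) = t := H.ac_cube F.xC x3
  have hai : ∀ t, ac Q (a⁻¹ * b) t = ac Q a⁻¹ (ac Q b t) := H.ac_comp ((Cz z).inv_mem F.aC) F.bC
  have hinv : ∀ u v, ac Q a v = u → ac Q a⁻¹ u = v := fun u v h => by rw [← h, H.ac_inv F.aC]
  have hax : ∀ t, ac Q a (ac Q x t) = ac Q x (ac Q a t) := fun t => (H.ac_comm F.xC F.aC xa t).symm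
  obtain ⟨e', he'⟩ : ∃ e', Eig Q x (a * b) (a⁻¹ * b) e' := by
    rcases hk.2 with rfl | rfl <;> rcases hfb with hb | hb
    · refine FN.ea_flip hπ' hfne hfn ?_ ?_
      · rw [hAB, hb, hax, hfa]
      · rw [hai, hb]; exact hinv _ _ hfa
    · refine FN.swap_eig hπ' hfne hfn ?_ (Or.inl ?_)
      · rw [hAB, hb, hax, hax, hfa, hX']
      · rw [hai, hb]; exact hinv _ _ (by rw [hax, hfa])
    · refine FN.swap_eig hπ' hfne hfn ?_ (Or.inr ?_)
      · rw [hAB, hb, hax, hfa]; exact hX' f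
      · rw [hai, hb]
        refine hinv _ _ ?_
        rw [hax, hax, hfa]
        show ac Q x (ac Q x (ac Q x (ac Q x f))) = ac Q x f
        rw [hX']
    · refine ⟨f, hfne, hfn, ?_, ?_⟩
      · rw [hAB, hb, hax, hax, hfa]
        show ac Q x (ac Q x (ac Q x (ac Q x f))) = ac Q x f
        rw [hX']
      · rw [hai, hb]
        exact hinv _ _ hfa
  exact ⟨_, x, a * b, a⁻¹ * b, p', r', e', hπ', FN, he'⟩

end Pre

end CfsgLib.ThreeSixCent
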