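import Cfsg.Agent.Lib.ThreeSixCent.ModelPair

/-!
Computations in the model for the classes of involutions.
-/

set_option autoImplicit false
set_option synthInstance.maxSize 512
set_option maxRecDepth 4000
set_option maxHeartbeats 1000000

open Equiv


namespace CfsgLib.ThreeSixCent

/-- representative -/
def mS : M0 := (swap 1 2, 1)

/-- representative -/
def mT6 : M0 := (1, swap 4 5)

/-- representative -/
def mST : M0 := (swap 1 2, swap 4 5)

/-- representative -/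
def mSD : M0 := (swap 1 2, swap 2 3 * swap 4 5)

/-- representative -/
def mD : M0 := (1, swap 2 3 * swap 4 5)

/-- representative -/
def mR3 : M0 := (1, swap 0 1 * swap 2 3 * swap 4 5)

/-- representative -/
def mSR : M0 := (swap 1 2, swap 0 1 * swap 2 3 * swap 4 5)

/-- an element of order five -/
def eFive : M0 := (1, swap 0 1 * swap 1 2 * swap 2 3 * swap 3 4)

/-- an element of order three -/
def eThreeS : M0 := (1, swap 0 2 * swap 2 4 * (swap 1 3 * swap 3 5))

/-- an element of order three -/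
def eThreeT : M0 := (1, swap 0 1 * swap 1 2)

/-- conjugators -/
def tabInv : List (Perm (Fin 6)) := [1, (swap 3 4 * swap 4 5), (swap 3 5 * swap 5 4), (swap 2 4 * swap 3 5), (swap 2 4 * swap 4 5), (swap 2 4 * swap 4 3), (swap 1 4 * swap 4 2 * swap 2 5 * swap 5 3), (swap 1 2 * swap 2 3 * swap 3 4 * swap 4 5), (swap 1 2 * swap 2 3 * swap 3 5 * swap 5 4), (swap 1 4 * swap 4 3 * swap 3 5 * swap 5 2), (swap 1 2 * swap 2 5), (swap 1 2 * swap 2 4), (swap 1 4 * swap 4 5 * swap 5 3 * swap 3 2), (swap 1 2 * swap 2 4 * swap 4 3 * swap 3 5), (swap 1 2 * swap 2 5 * swap 5 4 * swap 4 3), (swap 1 4 * swap 4 2), (swap 1 2 * swap 2 5 * swap 5 3 * swap 3 4), (swap 1 2 * swap 2 4 * swap 4 5 * swap 5 3), (swap 0 4 * swap 4 2 * swap 1 5 * swap 5 3), (swap 0 2 * swap 1 3 * swap 3 4 * swap 4 5), (swap 0 2 * swap 1 3 * swap 3 5 * swap 5 4), (swap 0 2 * swap 2 4 * swap 1 3 * swap 3 5), (swap 0 2 * swap 2 4 * swap 4 5 * swap 1 3), (swap 0 2 * swap 2 4 *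 swap 4 1 * swap 1 3), (swap 0 4 * swap 4 3 * swap 3 1 * swap 2 5), (swap 0 2 * swap 2 3 * swap 3 5 * swap 5 1), (swap 0 2 * swap 2 3 * swap 3 4 * swap 4 1), (swap 0 2 * swap 2 3 * swap 3 5 * swap 1 4), (swap 0 2 * swap 2 3 * swap 1 4 * swap 4 5), (swap 0 2 * swap 2 3 * swap 3 1 * swap 1 4), (swap 0 4 * swap 4 2 * swap 2 1 * swap 3 5), (swap 0 2 * swap 2 4 * swap 4 5 * swap 5 1), (swap 0 2 * swap 2 5 * swap 5 4 * swap 4 1), (swap 0 2 * swap 2 5 * swap 5 1 * swap 1 4), (swap 0 2 * swap 2 1 * swap 1 4 * swap 4 5), (swap 0 2 * swap 1 4), (swap 0 4 * swap 4 5 * swap 5 2 * swap 2 1), (swap 0 2 * swap 2 5 * swap 5 1 * swap 3 4), (swap 0 2 * swap 2 4 * swap 4 3 * swap 3 1), (swap 0 2 * swap 2 5 * swap 1 4 * swap 4 3), (swap 0 2 * swap 1 4 * swap 4 3 * swap 3 5), (swap 0 2 * swap 2 1 * swap 1 4 * swap 4 3), (swap 0 4 * swap 4 3 * swap 3 2 * swap 2 1), (swap 0 2 * swap 2 4 * swap 4 1 * swap 3 5), (swap 0 2 * swap 2 5 * swap 5 3 * swap 3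 1), (swap 0 2 * swap 2 5 * swap 5 3 * swap 1 4), (swap 0 2 * swap 2 1 * swap 1 4 * swap 3 5), (swap 0 2 * swap 1 4 * swap 4 5 * swap 5 3)]

/-- commutators with preimages -/
def rgS : List (V × V) := [((0, 0), (0, 0)), ((1, 0), (0, 1)), ((2, 0), (0, 2)), ((3, 0), (0, 3)), ((4, 0), (0, 4)), ((5, 0), (0, 5)), ((6, 0), (0, 6)), ((7, 0), (0, 7)), ((8, 0), (0, 8)), ((9, 0), (0, 9)), ((10, 0), (0, 10)), ((11, 0), (0, 11)), ((12, 0), (0, 12)), ((13, 0), (0, 13)), ((14, 0), (0, 14)), ((15, 0), (0, 15))]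

/-- fixed vectors -/
def fxT : List V := [(0, 0), (0, 3), (0, 5), (0, 6), (0, 9), (0, 10), (0, 12), (0, 15), (3, 0), (3, 3), (3, 5), (3, 6), (3, 9), (3, 10), (3, 12), (3, 15), (5, 0), (5, 3), (5, 5), (5, 6), (5, 9), (5, 10), (5, 12), (5, 15), (6, 0), (6, 3), (6, 5), (6, 6), (6, 9), (6, 10), (6, 12), (6, 15), (9, 0), (9, 3), (9, 5), (9, 6), (9, 9), (9, 10), (9, 12), (9, 15), (10, 0), (10, 3), (10, 5), (10, 6), (10, 9), (10, 10), (10, 12), (10, 15), (12, 0), (12, 3), (12, 5), (12, 6), (12, 9), (12, 10), (12, 12), (12, 15), (15, 0), (15, 3), (15, 5), (15, 6), (15, 9), (15, 10), (15, 12), (15, 15)]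

/-- commutators with preimages -/
def rgT6 : List (V × V) := [((0, 0), (0, 0)), ((0, 15), (0, 1)), ((15, 0), (1, 0)), ((15, 15), (1, 1))]

/-- commutators with preimages -/
def rgST : List (V × V) := [((0, 0), (0, 0)), ((1, 15), (0, 14)), ((2, 15), (0, 13)), ((3, 0), (0, 3)), ((4, 15), (0, 11)), ((5, 0), (0, 5)), ((6, 0), (0, 6)), ((7, 15), (0, 8)), ((8, 15), (0, 7)), ((9, 0), (0, 9)), ((10, 0), (0, 10)), ((11, 15), (0, 4)), ((12, 0), (0, 12)), ((13, 15), (0, 2)), ((14, 15), (0, 1)), ((15, 0), (0, 15))]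

/-- commutators with preimages -/
def rgSD : List (V × V) := [((0, 0), (0, 0)), ((1, 15), (0, 14)), ((2, 15), (0, 13)), ((3, 0), (0, 3)), ((4, 3), (0, 7)), ((5, 12), (0, 9)), ((6, 12), (0, 10)), ((7, 3), (0, 4)), ((8, 3), (0, 11)), ((9, 12), (0, 5)), ((10, 12), (0, 6)), ((11, 3), (0, 8)), ((12, 0), (0, 12)), ((13, 15), (0, 2)), ((14, 15), (0, 1)), ((15, 0), (0, 15))]

/-- commutators with preimages -/
def rgD : List (V × V) := [((0, 0), (0, 0)), ((0, 3), (0, 4)), ((0, 12), (0, 5)), ((0, 15), (0, 1)), ((3, 0), (4, 0)), ((3, 3), (4, 4)), ((3, 12), (4, 5)), ((3, 15), (4, 1)), ((12, 0), (5, 0)), ((12, 3), (5, 4)), ((12, 12), (5, 5)), ((12, 15), (5, 1)), ((15, 0), (1, 0)), ((15, 3), (1, 4)), ((15, 12), (1, 5)), ((15, 15), (1, 1))]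

/-- commutators with preimages -/
def rgR3 : List (V × V) := [((0, 0), (0, 0)), ((0, 3), (0, 4)), ((0, 12), (0, 1)), ((0, 15), (0, 5)), ((3, 0), (4, 0)), ((3, 3), (4, 4)), ((3, 12), (4, 1)), ((3, 15), (4, 5)), ((12, 0), (1, 0)), ((12, 3), (1, 4)), ((12, 12), (1, 1)), ((12, 15), (1, 5)), ((15, 0), (5, 0)), ((15, 3), (5, 4)), ((15, 12), (5, 1)), ((15, 15), (5, 5))]

/-- commutators with preimages -/
def rgSR : List (V × V) := [((0, 0), (0, 0)), ((1, 12), (0, 13)), ((2, 12), (0, 14)), ((3, 0), (0, 3)), ((4, 3), (0, 7)), ((5, 15), (0, 10)), ((6, 15), (0, 9)), ((7, 3), (0, 4)), ((8, 3), (0, 11)), ((9, 15), (0, 6)), ((10, 15), (0, 5)), ((11, 3), (0, 8)), ((12, 0), (0, 12)), ((13, 12), (0, 1)), ((14, 12), (0, 2)), ((15, 0), (0, 15))]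

/-- no fixed points and three pairs -/
def tri (h : Perm (Fin 6)) : Bool := (List.finRange 6).all fun i => h i != i && h (h i) == i

theorem tab_inv : (∀ g : Perm (Fin 6), g * g = 1 → g = 1 ∨ (tabInv.any fun c =>
      c * g * c⁻¹ == mT6.2 || c * g * c⁻¹ == mD.2 || c * g * c⁻¹ == mR3.2) = true) ∧
    (tabInv.all fun c => Perm.sign c == 1) = true := by decide +kernel

theorem inv_conj_three : ∀ σ : Perm (Fin 3), σ * σ = 1 → σ = 1 ∨
    ∃ k : Fin 3, mX.1 ^ k.1 * σ * (mX.1 ^ k.1)⁻¹ = swap 1 2 := by decide +kernel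

/-- the representatives -/
def repList : List M0 := [mS, mT6, mST, mSD, mD, mR3, mSR]

theorem class_cases {m : M0} (h2 : m * m = 1) (h1 : m ≠ 1) :
    ∃ c : M0, Perm.sign c.1 = 1 ∧ Perm.sign c.2 = 1 ∧ c * m * c⁻¹ ∈ repList := by
  obtain ⟨s, g⟩ := m
  obtain ⟨ha, hb⟩ := Prod.ext_iff.1 h2
  simp only [Prod.fst_mul, Prod.snd_mul, Prod.fst_one, Prod.snd_one] at ha hb
  have hsx : Perm.sign mX.1 = 1 := by decide +kernel
  obtain ⟨a, hsa, hca⟩ : ∃ a : Perm (Fin 3), Perm.sign a = 1 ∧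
      (a * s * a⁻¹ = 1 ∨ a * s * a⁻¹ = swap 1 2) := by
    rcases inv_conj_three s ha with rfl | ⟨k, hk⟩
    · exact ⟨1, map_one _, Or.inl (by group)⟩
    · exact ⟨mX.1 ^ k.1, by rw [map_pow, hsx, one_pow], Or.inr hk⟩
  have hs1 : a * s * a⁻¹ = 1 → s = 1 := fun h => by simpa [mul_inv_eq_one] using h
  rcases tab_inv.1 g hb with rfl | hg
  · refine ⟨(a, 1), hsa, map_one _, ?_⟩
    rcases hca with e | e
    · exact absurd (by rw [hs1 e]; rfl) h1
    · have : ((a, 1) : M0) * (s, 1) * ((a, 1) : M0)⁻¹ = mS := Prod.ext e (by simp [mS])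
      rw [this]; simp [repList]
  · obtain ⟨b, hb', hbg⟩ := List.any_eq_true.1 hg
    refine ⟨(a, b), hsa, by simpa using List.all_eq_true.1 tab_inv.2 b hb', ?_⟩
    have hx : ((a, b) : M0) * (s, g) * ((a, b) : M0)⁻¹ = (a * s * a⁻¹, b * g * b⁻¹) := rfl
    simp only [Bool.or_eq_true, beq_iff_eq] at hbg
    rw [hx]
    rcases hca with e | e <;> rcases hbg with (f | f) | f <;> rw [e, f] <;>
      simp [repList, mS, mT6, mST, mSD, mD, mR3, mSR]

/-- the fixed vectors are commutators -/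
def fixRange (m : M0) (rg : List (V × V)) : Bool :=
  allV.all fun w => act m w != w || (rg.map Prod.fst).contains w

/-- preimages are right -/
def rgOk (m : M0) (rg : List (V × V)) : Bool :=
  rg.all fun p => vadd (act m p.2) p.2 == p.1 && act m p.1 == p.1

/-- vectors orthogonal to all fixed ones are commutators -/
def perpOk (fx : List V) (rg : List (V × V)) : Bool :=
  allV.all fun w => (rg.map Prod.fst).contains w || fx.any (bv w)

theorem rg_facts :
    (fixRange mS rgS && rgOk mS rgS && perpOk (rgS.map Prod.fst) rgS &&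
      rgS.all fun p => !qv p.1) = true ∧
    (fixRange mD rgD && rgOk mD rgD && perpOk (rgD.map Prod.fst) rgD &&
      rgD.all fun p => !qv p.1) = true ∧
    (fixRange mR3 rgR3 && rgOk mR3 rgR3 && perpOk (rgR3.map Prod.fst) rgR3 &&
      rgR3.all fun p => !qv p.1) = true ∧
    (fixRange mSR rgSR && rgOk mSR rgSR && perpOk (rgSR.map Prod.fst) rgSR &&
      rgSR.all fun p => !qv p.1) = true := by
  decide +kernel

theorem rg_card : (rgS.map Prod.fst).Nodup ∧ rgS.length = 16 ∧ (rgST.map Prod.fst).Nodup ∧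
    rgST.length = 16 ∧ (rgSD.map Prod.fst).Nodup ∧ rgSD.length = 16 ∧
    fxT.Nodup ∧ fxT.length = 64 ∧ (rgT6.map Prod.fst).Nodup ∧ rgT6.length = 4 := by decide +kernel

theorem c_facts : (fixRange mST rgST && rgOk mST rgST && rgST.any fun p => qv p.1) = true ∧
    (fixRange mSD rgSD && rgOk mSD rgSD && rgSD.any fun p => qv p.1) = true := by decide +kernel

theorem t_facts : (fxT.all fun w => act mT6 w == w) = true ∧ rgOk mT6 rgT6 = true ∧
    perpOk fxT rgT6 = true ∧ (rgT6.all fun p => !qv p.1 &&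
      rgT6.all fun p' => (rgT6.map Prod.fst).contains (vadd p.1 p'.1) && !bv p.1 p'.1) = true := by
  decide +kernel

/-- the sum over an orbit -/
def vsum (η : M0) : ℕ → V → V
  | 0, _ => (0, 0)
  | k + 1, w => vadd (vsum η k w) (act (η ^ k) w)

/-- the four probes -/
def probes (η : M0) (fx : List V) : List V :=
  ((fx.filter fun w => w != (0, 0)).take 4).map fun w => vadd w (act η w)

/-- facts about an element of odd order -/
def etaOk (m η : M0) (n : ℕ) (fx : List V) : Bool :=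
  m * η == η * m && η ^ n == 1 && Perm.sign η.1 == 1 && Perm.sign η.2 == 1 && η != 1 &&
    fx.all fun w => vsum η n w == (0, 0)

/-- facts about the probes -/
def probeOk (η : M0) (fx : List V) : Bool :=
  (probes η fx).length == 4 && decide (probes η fx).Nodup && !(probes η fx).contains (0, 0)

theorem eta_facts : etaOk mS eFive 5 (rgS.map Prod.fst) = true ∧
    ((rgS.map Prod.fst).all fun w => w == (0, 0) ||
      decide ([w, act eFive w, act (eFive ^ 2) w, act (eFive ^ 3) w]).Nodup) = true ∧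
    (etaOk mD mX 3 (rgD.map Prod.fst) && probeOk mX (rgD.map Prod.fst)) = true ∧
    (etaOk mR3 mX 3 (rgR3.map Prod.fst) && probeOk mX (rgR3.map Prod.fst)) = true ∧
    (etaOk mSR eThreeS 3 (rgSR.map Prod.fst) && probeOk eThreeS (rgSR.map Prod.fst)) = true := by
  decide +kernel

theorem t_eta : mT6 * mX = mX * mT6 ∧ mT6 * eThreeT = eThreeT * mT6 ∧ mX ^ 3 = 1 ∧ eThreeT ^ 3 = 1 ∧
    mX ≠ 1 ∧ eThreeT ≠ 1 ∧ Perm.sign eThreeT.1 = 1 ∧ Perm.sign eThreeT.2 = 1 ∧
    (mX * eThreeT) ^ 4 ≠ 1 ∧ (mX * (eThreeT * eThreeT)) ^ 4 ≠ 1 := by decide +kernel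

/-- the centraliser of a double transposition -/
def dCent : List (Perm (Fin 6)) :=
  [swap 2 3, swap 4 5, swap 2 4 * swap 3 5, 1, swap 0 1].foldl
    (fun l g => (l ++ l.map fun x => x * g) ++ (l ++ l.map fun x => x * g).map fun x => g * x) [1] |>.eraseDups

theorem dCent_spec : ∀ g : Perm (Fin 6), g * mD.2 = mD.2 * g → g ∈ dCent := by decide +kernel

theorem d_centre : (dCent.all fun a => dCent.all fun b => a * b == b * a ||
    (dCent.filter fun y => y * y == 1 && y * a == a * y && y * b == b * y).length ≤ 4) = true := by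
  decide +kernel

theorem d_no_three : (∀ g : Perm (Fin 6), g * mD.2 = mD.2 * g → g * g * g = 1 → g = 1) ∧
    ∀ s : Perm (Fin 3), s * s * s = 1 → s = 1 ∨ s = mX.1 ∨ s = mX.1 * mX.1 := by decide +kernel

/-- the condition on the second components -/
def tcond (h : Perm (Fin 6)) : Bool := h == 1 || tri h || h * mR3.2 == 1 || tri (h * mR3.2)

theorem tri_final : ∀ e : Perm (Fin 6), e * mR3.2 = mR3.2 * e → e * e * e = 1 → e ≠ 1 →
    ∀ h : Perm (Fin 6), h * mR3.2 = mR3.2 * h → h * h = 1 → e * h * e⁻¹ ≠ h →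
      h * (e * h * e⁻¹) = e * h * e⁻¹ * h →
      tcond h = true → tcond (e * h * e⁻¹) = true → tcond (h * (e * h * e⁻¹)) = true → False := by
  decide +kernel

theorem tri_reps : tri mR3.2 = true ∧ tri mSR.2 = true ∧ mR3.2 = mSR.2 := by decide +kernel

theorem tri_conj {c h : Perm (Fin 6)} (H : tri (c * h * c⁻¹) = true) : tri h = true := by
  simp only [tri, List.all_eq_true, Bool.and_eq_true, bne_iff_ne, beq_iff_eq] at H ⊢
  intro i _
  have := H (c i) (List.mem_finRange _)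
  simpa using this

end CfsgLib.ThreeSixCent
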