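import Cfsg.Agent.Lib.ThreeSixCent.OutBase
import Cfsg.Agent.Lib.ThreeSixCent.OutModel
import Cfsg.Agent.Lib.ThreeSixCent.Coord

/-!
Tools for conjugates outside `Q` in the coordinatised case.
-/

set_option autoImplicit false
set_option linter.unusedSectionVars false
set_option linter.style.haveILetI false

open Cfsg CfsgLib.Extraspecial
open Equiv (Perm)

namespace CfsgLib.ThreeSixCent

variable {G : Type*} [Group G] [Finite G] {z : G} {Q : Subgroup G} {π : ↥(Cz z) →* M0} {ψ : V → T Q}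
  {g : G}

theorem rgOk_spec {m : M0} {rg : List (V × V)} (h : rgOk m rg = true) {p : V × V} (hp : p ∈ rg) :
    vadd (act m p.2) p.2 = p.1 ∧ act m p.1 = p.1 := by
  have := List.all_eq_true.1 h p hp
  simpa [Bool.and_eq_true, beq_iff_eq] using this

theorem fixRange_spec {m : M0} {rg : List (V × V)} (h : fixRange m rg = true) {w : V}
    (hw : act m w = w) : w ∈ rg.map Prod.fst := by
  have := List.all_eq_true.1 h w (mem_allV w)
  simp only [Bool.or_eq_true, bne_iff_ne, hw, ne_eq, not_true, false_or] at this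
  exact List.contains_iff_mem.1 this

theorem perpOk_spec {fx : List V} {rg : List (V × V)} (h : perpOk fx rg = true) {w : V}
    (hw : ∀ t ∈ fx, bv w t = false) : w ∈ rg.map Prod.fst := by
  have := List.all_eq_true.1 h w (mem_allV w)
  rcases Bool.or_eq_true_iff.1 this with e | e
  · exact List.contains_iff_mem.1 e
  · obtain ⟨t, ht, e⟩ := List.any_eq_true.1 e
    rw [hw t ht] at e; exact absurd e (by decide)

theorem etaOk_spec {m η : M0} {n : ℕ} {fx : List V} (h : etaOk m η n fx = true) :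
    m * η = η * m ∧ η ^ n = 1 ∧ Perm.sign η.1 = 1 ∧ Perm.sign η.2 = 1 ∧ η ≠ 1 ∧
      ∀ w ∈ fx, vsum η n w = (0, 0) := by
  simp only [etaOk, Bool.and_eq_true, beq_iff_eq, bne_iff_ne, List.all_eq_true] at h
  exact ⟨h.1.1.1.1.1, h.1.1.1.1.2, h.1.1.1.2, h.1.1.2, h.1.2, h.2⟩

namespace Pt

variable (H : Pre z Q π) (C : Coords z Q π ψ) (P : Pt z Q g)
include H P C

theorem psi_bT (u w : V) : bT z Q (ψ u) (ψ w) = bv u w := by
  rw [bv, ← C.quad, ← C.quad, ← C.quad, C.add, H.qT_mul]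
  cases qT z Q (ψ u) <;> cases qT z Q (ψ w) <;> cases bT z Q (ψ u) (ψ w) <;> rfl

omit P in
theorem coord_zero : ψ (0, 0) = 1 := by
  have h := C.add (0, 0) (0, 0)
  rw [show vadd ((0, 0) : V) (0, 0) = (0, 0) by decide +kernel] at h
  exact mul_eq_left.1 h.symm

variable {m : M0} (hm : img z π (vv z g) = m)
include hm

theorem ac_psi_v (w : V) : ac Q (vv z g) (ψ w) = ψ (act m w) := by rw [C.equiv _ (P.vC H), hm]

/-- an element of `Q` with class fixed -/
theorem coord_fix {p : G} (h : ac Q (vv z g) (cl Q p) = cl Q p) :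
    ∃ w, ψ w = cl Q p ∧ act m w = w := by
  obtain ⟨w, hw⟩ := C.bij.2 (cl Q p)
  refine ⟨w, hw, C.bij.1 ?_⟩
  rw [← P.ac_psi_v H C hm, hw, h]

/-- an element with class in the table -/
theorem tab_cases {rg : List (V × V)} (hrg : rgOk m rg = true) {e : G} (he : e ∈ Q) {w : V}
    (hw : cl Q e = ψ w) (hwr : w ∈ rg.map Prod.fst) :
    ∃ q ∈ Q, (e = dlt z g q ∨ e = z * dlt z g q) ∧
      cl Q e = ac Q (vv z g) (cl Q q) * cl Q q := by
  obtain ⟨p, hp, rfl⟩ := List.mem_map.1 hwr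
  have hcl : cl Q e = ac Q (vv z g) (cl Q (rep Q (ψ p.2))) * cl Q (rep Q (ψ p.2)) := by
    rw [cl_rep, P.ac_psi_v H C hm, ← C.add, (rgOk_spec hrg hp).1, hw]
  exact ⟨_, rep_mem Q _, P.dlt_or H (rep_mem Q _) he hcl, hcl⟩

/-- elements with fixed class commute with those with class in the table -/
theorem tab_comm {rg : List (V × V)} (hrg : rgOk m rg = true) {e p : G} (he : e ∈ Q) (hp : p ∈ Q)
    {w : V} (hw : cl Q e = ψ w) (hwr : w ∈ rg.map Prod.fst)
    (hfix : ac Q (vv z g) (cl Q p) = cl Q p) : e * p = p * e := by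
  obtain ⟨q, hq, -, hcl⟩ := P.tab_cases H C hm hrg he hw hwr
  have : bT z Q (cl Q e) (cl Q p) = false := by
    rw [hcl]
    letI : CommGroup (T Q) := { (inferInstance : Group (T Q)) with mul_comm := H.T_comm }
    rw [H.bT_mul_left]
    have : bT z Q (ac Q (vv z g) (cl Q q)) (cl Q p) = bT z Q (cl Q q) (cl Q p) := by
      conv_lhs => rw [← hfix, H.bT_ac (P.vC H)]
    rw [this, Bool.xor_self]
  rwa [Bool.eq_false_iff, Ne, H.bT_cl he hp, not_not] at this

omit hm in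
theorem two_cases {p : G} (hp : p ∈ Q) (h : ac Q (vv z g) (cl Q p) = cl Q p) :
    vv z g * p * (vv z g)⁻¹ = p ∨ vv z g * p * (vv z g)⁻¹ = z * p := by
  rwa [H.ac_cl (P.vC H) hp, H.cl_eq_iff (H.conjQ (P.vC H) hp) hp] at h

/-- the conjugate of the other involution differs by an element of `Q` -/
theorem conj_diff {c : G} (hc : c ∈ Cz z) (hcm : m * img z π c = img z π c * m) :
    (vv z g)⁻¹ * (c * vv z g * c⁻¹) ∈ Q := by
  have hv := P.vC H
  have hv' : c * vv z g * c⁻¹ ∈ Cz z := (Cz z).mul_mem ((Cz z).mul_mem hc hv) ((Cz z).inv_mem hc)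
  rw [← H.img_eq_one ((Cz z).mul_mem ((Cz z).inv_mem hv) hv'), H.img_mul ((Cz z).inv_mem hv) hv',
    H.img_inv hv, H.img_conj hc hv, hm, ← hcm, mul_inv_cancel_right, inv_mul_cancel]

/-- conjugation preserves fixed classes -/
theorem conj_fix {c p : G} (hc : c ∈ Cz z) (hp : p ∈ Q) (hcm : m * img z π c = img z π c * m)
    (h : ac Q (vv z g) (cl Q p) = cl Q p) :
    ac Q (vv z g) (cl Q (c * p * c⁻¹)) = cl Q (c * p * c⁻¹) := by
  rw [← H.ac_cl hc hp, H.ac_comm (P.vC H) hc (by rw [hm]; exact hcm), h]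

/-- the invariance of the sign forces it to be trivial -/
theorem no_anti {rg : List (V × V)} (hfr : fixRange m rg = true) (hrg : rgOk m rg = true)
    {η : M0} {n : ℕ} (hn : Odd n) (hη : etaOk m η n (rg.map Prod.fst) = true) :
    ∀ p ∈ Q, ac Q (vv z g) (cl Q p) = cl Q p → vv z g * p * (vv z g)⁻¹ = p := by
  obtain ⟨hcm, -, hs1, hs2, -, hsum⟩ := etaOk_spec hη
  obtain ⟨c, hc, hci⟩ := H.lift' hs1 hs2
  have hcm' : m * img z π c = img z π c * m := by rw [hci]; exact hcm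
  have step : ∀ p ∈ Q, ac Q (vv z g) (cl Q p) = cl Q p → vv z g * p * (vv z g)⁻¹ = z * p →
      vv z g * (c * p * c⁻¹) * (vv z g)⁻¹ = z * (c * p * c⁻¹) := by
    intro p hp hfix hanti
    set q1 := (vv z g)⁻¹ * (c * vv z g * c⁻¹) with hq1
    have hq1Q : q1 ∈ Q := P.conj_diff H C hm hc hcm'
    have hfix' := P.conj_fix H C hm hc hp hcm' hfix
    have hq1fix : ac Q (vv z g) (cl Q q1) = cl Q q1 := by
      rw [H.ac_cl (P.vC H) hq1Q]
      have e : vv z g * q1 * (vv z g)⁻¹ = q1⁻¹ := by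
        rw [hq1]
        have h1 := P.v_sq H
        have h2 := P.v_inv H
        generalize vv z g = v at h1 h2 ⊢
        calc v * (v⁻¹ * (c * v * c⁻¹)) * v⁻¹ = c * v * c⁻¹ * v⁻¹ := by group
          _ = c * v⁻¹ * c⁻¹ * v := by rw [h2]
          _ = _ := by group
      rw [e, ← H.T_mul_eq_one, ← cl_mul (Q.inv_mem hq1Q) hq1Q, inv_mul_cancel, cl_one]
    obtain ⟨w, hw, hwf⟩ := P.coord_fix H C hm hq1fix
    have hcom : q1 * (c * p * c⁻¹) = (c * p * c⁻¹) * q1 :=
      P.tab_comm H C hm hrg hq1Q (H.conjQ hc hp) hw.symm (fixRange_spec hfr hwf) hfix'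
    have e2 : (c * vv z g * c⁻¹) * (c * p * c⁻¹) * (c * vv z g * c⁻¹)⁻¹ = z * (c * p * c⁻¹) := by
      calc _ = c * (vv z g * p * (vv z g)⁻¹) * c⁻¹ := by group
        _ = (c * z) * p * c⁻¹ := by rw [hanti]; group
        _ = _ := by rw [mem_Cz.1 hc]; group
    rw [← e2, show c * vv z g * c⁻¹ = vv z g * q1 by rw [hq1]; group]
    calc vv z g * (c * p * c⁻¹) * (vv z g)⁻¹
        = vv z g * ((c * p * c⁻¹) * q1) * q1⁻¹ * (vv z g)⁻¹ := by group
      _ = _ := by rw [← hcom]; group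
  intro p hp hfix
  refine (P.two_cases H C hp hfix).resolve_right fun hanti => ?_
  obtain ⟨w, hw, hwf⟩ := P.coord_fix H C hm hfix
  have it : ∀ k : ℕ, c ^ k * p * (c ^ k)⁻¹ ∈ Q ∧
      cl Q (c ^ k * p * (c ^ k)⁻¹) = ψ (act (η ^ k) w) ∧
      ac Q (vv z g) (cl Q (c ^ k * p * (c ^ k)⁻¹)) = cl Q (c ^ k * p * (c ^ k)⁻¹) ∧
      vv z g * (c ^ k * p * (c ^ k)⁻¹) * (vv z g)⁻¹ = z * (c ^ k * p * (c ^ k)⁻¹) := by
    intro k
    induction k with
    | zero => simp only [pow_zero, one_mul, inv_one, mul_one, act_one]; exact ⟨hp, hw.symm, hfix, hanti⟩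
    | succ k ih =>
      obtain ⟨i1, i2, i3, i4⟩ := ih
      rw [show c ^ (k + 1) * p * (c ^ (k + 1))⁻¹ = c * (c ^ k * p * (c ^ k)⁻¹) * c⁻¹ by
        rw [pow_succ']; group]
      refine ⟨H.conjQ hc i1, ?_, P.conj_fix H C hm hc i1 hcm' i3, step _ i1 i3 i4⟩
      rw [← H.ac_cl hc i1, i2, C.equiv c hc, hci, pow_succ', act_mul]
  have prod : ∀ k : ℕ, ∃ x ∈ Q, cl Q x = ψ (vsum η k w) ∧ vv z g * x * (vv z g)⁻¹ = z ^ k * x := by
    intro k
    induction k with
    | zero => exact ⟨1, Q.one_mem, by rw [cl_one, vsum, coord_zero H C], by simp⟩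
    | succ k ih =>
      obtain ⟨x, hx, hx1, hx2⟩ := ih
      obtain ⟨i1, i2, -, i4⟩ := it k
      refine ⟨x * (c ^ k * p * (c ^ k)⁻¹), Q.mul_mem hx i1, by rw [cl_mul hx i1, hx1, i2, vsum, C.add], ?_⟩
      calc _ = (vv z g * x * (vv z g)⁻¹) * (vv z g * (c ^ k * p * (c ^ k)⁻¹) * (vv z g)⁻¹) := by group
        _ = z ^ k * (x * z) * (c ^ k * p * (c ^ k)⁻¹) := by rw [hx2, i4]; group
        _ = _ := by rw [H.st.z_comm hx, pow_succ]; group
  obtain ⟨x, hx, hx1, hx2⟩ := prod n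
  rw [hsum w (fixRange_spec hfr hwf), coord_zero H C, H.cl_eq_one hx] at hx1
  obtain ⟨j, rfl⟩ := hn
  have hz : z ^ (2 * j + 1) = z := by rw [pow_succ, pow_mul, pow_two, H.z2, one_pow, one_mul]
  rw [hz] at hx2
  refine H.zne (mul_eq_right.1 (hx2.symm.trans ?_))
  rcases hx1 with rfl | rfl
  · group
  · exact mul_inv_eq_iff_eq_mul.2 (mem_Cz.1 (P.vC H))

/-- with trivial signs, elements of odd order lift into the centraliser -/
theorem exists_lift {fx : List V} {rg : List (V × V)} (hfx : ∀ w ∈ fx, act m w = w)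
    (hperp : perpOk fx rg = true) (hrg : rgOk m rg = true)
    (h0 : ∀ p ∈ Q, ac Q (vv z g) (cl Q p) = cl Q p → vv z g * p * (vv z g)⁻¹ = p)
    {η : M0} (hs1 : Perm.sign η.1 = 1) (hs2 : Perm.sign η.2 = 1) (hcm : m * η = η * m) {n : ℕ}
    (hn : Odd n) (hpow : η ^ n = 1) :
    ∃ c ∈ Cz z, img z π c = η ∧ c * vv z g = vv z g * c := by
  obtain ⟨c, hc, hci⟩ := H.lift' hs1 hs2
  have hcm' : m * img z π c = img z π c * m := by rw [hci]; exact hcm
  set q1 := (vv z g)⁻¹ * (c * vv z g * c⁻¹) with hq1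
  have hq1Q : q1 ∈ Q := P.conj_diff H C hm hc hcm'
  have hcom : ∀ p ∈ Q, ac Q (vv z g) (cl Q p) = cl Q p → q1 * p = p * q1 := by
    intro p hp hfix
    have hcm'' : m * img z π c⁻¹ = img z π c⁻¹ * m := by
      rw [H.img_inv hc]
      exact (Commute.inv_right (show Commute m (img z π c) from hcm')).eq
    have h1 := P.conj_fix H C hm ((Cz z).inv_mem hc) hp hcm'' hfix
    have h2 : Commute (vv z g) (c⁻¹ * p * c⁻¹⁻¹) :=
      mul_inv_eq_iff_eq_mul.1 (h0 _ (H.conjQ ((Cz z).inv_mem hc) hp) h1)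
    have h3 : Commute (c * vv z g * c⁻¹) p := by
      have := (Commute.conj_iff c).2 h2
      simpa [mul_assoc] using this
    have h4 : Commute (vv z g) p := mul_inv_eq_iff_eq_mul.1 (h0 p hp hfix)
    exact (h4.inv_left.mul_left h3).eq
  obtain ⟨w, hw⟩ := C.bij.2 (cl Q q1)
  have hwr : w ∈ rg.map Prod.fst := perpOk_spec hperp fun t ht => by
    have hft : ac Q (vv z g) (cl Q (rep Q (ψ t))) = cl Q (rep Q (ψ t)) := by
      rw [cl_rep, P.ac_psi_v H C hm, hfx t ht]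
    rw [← P.psi_bT H C, hw, ← cl_rep Q (ψ t), Bool.eq_false_iff, Ne,
      H.bT_cl hq1Q (rep_mem Q _), not_not]
    exact hcom _ (rep_mem Q _) hft
  obtain ⟨q, hq, hqq, -⟩ := P.tab_cases H C hm hrg hq1Q hw.symm hwr
  have hvd : vv z g * dlt z g q = q * vv z g * q⁻¹ := by
    have h1 := P.v_sq H
    have h2 := P.v_inv H
    show vv z g * (vv z g * q * (vv z g)⁻¹ * q⁻¹) = _
    generalize vv z g = v at h1 h2 ⊢
    calc v * (v * q * v⁻¹ * q⁻¹) = (v * v) * q * v⁻¹ * q⁻¹ := by group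
      _ = _ := by rw [h1, one_mul, h2]
  have hcv : c * vv z g * c⁻¹ = vv z g * q1 := by rw [hq1]; group
  have hc' : q⁻¹ * c ∈ Cz z := (Cz z).mul_mem ((Cz z).inv_mem (H.QC hq)) hc
  have hi' : img z π (q⁻¹ * c) = η := by
    rw [H.img_mul ((Cz z).inv_mem (H.QC hq)) hc, H.img_Q (Q.inv_mem hq), one_mul, hci]
  rcases hqq with e | e <;> rw [e] at hcv
  · refine ⟨_, hc', hi', mul_inv_eq_iff_eq_mul.1 ?_⟩
    calc q⁻¹ * c * vv z g * (q⁻¹ * c)⁻¹ = q⁻¹ * (c * vv z g * c⁻¹) * q := by group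
      _ = _ := by rw [hcv, hvd]; simp only [vv]; group
  · exfalso
    set d := q⁻¹ * c with hd
    have hzv : ∀ k : ℕ, d ^ k * vv z g * (d ^ k)⁻¹ = z ^ k * vv z g := by
      have h1 : d * vv z g * d⁻¹ = z * vv z g := by
        calc q⁻¹ * c * vv z g * (q⁻¹ * c)⁻¹ = q⁻¹ * (c * vv z g * c⁻¹) * q := by group
          _ = q⁻¹ * ((vv z g * z) * dlt z g q) * q := by rw [hcv]; group
          _ = (q⁻¹ * z) * (vv z g * dlt z g q) * q := by rw [mem_Cz.1 (P.vC H)]; group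
          _ = _ := by rw [hvd, H.st.z_comm (Q.inv_mem hq)]; simp only [vv]; group
      intro k
      induction k with
      | zero => simp
      | succ k ih =>
        calc d ^ (k + 1) * vv z g * (d ^ (k + 1))⁻¹ = d * (d ^ k * vv z g * (d ^ k)⁻¹) * d⁻¹ := by
              rw [pow_succ']; group
          _ = (d * z ^ k) * vv z g * d⁻¹ := by rw [ih]; group
          _ = (z ^ k * d) * vv z g * d⁻¹ := by
              rw [((show Commute d z from mem_Cz.1 hc').pow_right k).eq]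
          _ = z ^ k * (d * vv z g * d⁻¹) := by group
          _ = _ := by rw [h1, pow_succ]; group
    have hdn : d ^ n ∈ Q := by
      rw [← H.img_eq_one ((Cz z).pow_mem hc' n), H.img_pow hc', hi', hpow]
    have h1 := hzv n
    obtain ⟨j, rfl⟩ := hn
    rw [show z ^ (2 * j + 1) = z by rw [pow_succ, pow_mul, pow_two, H.z2, one_pow, one_mul]] at h1
    set x := d ^ (2 * j + 1) with hx
    have hdz : dlt z g x = z := by
      have h1' := P.v_sq H
      have hvz := mem_Cz.1 (P.vC H)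
      show vv z g * x * (vv z g)⁻¹ * x⁻¹ = z
      calc vv z g * x * (vv z g)⁻¹ * x⁻¹ = vv z g * (x * (vv z g) * x⁻¹) := by
            rw [P.v_inv H]; group
        _ = (vv z g * z) * vv z g := by rw [h1]; group
        _ = _ := by rw [hvz, mul_assoc, h1', mul_one]
    have hfix : ac Q (vv z g) (cl Q x) = cl Q x := by
      rw [← H.T_mul_eq_one, ← P.cl_dlt H hdn, hdz, H.cl_z]
    have := h0 x hdn hfix
    refine H.zne ?_
    rw [← hdz]
    show vv z g * x * (vv z g)⁻¹ * x⁻¹ = 1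
    rw [this, mul_inv_cancel]

end Pt

end CfsgLib.ThreeSixCent
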