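import Cfsg.Agent.Lib.ThreeSixCent.Small
import Cfsg.Agent.Lib.ThreeSixCent.Pair
import Cfsg.Agent.Lib.ThreeSixCent.Form

/-!
In the small case no other conjugate of `z` lies in `Q`.
-/

set_option autoImplicit false
set_option linter.unusedSectionVars false
set_option linter.style.haveILetI false

open Cfsg CfsgLib.Extraspecial
open Equiv (Perm)

namespace CfsgLib.ThreeSixCent

variable {G : Type*} [Group G] [Finite G] {z : G} {Q : Subgroup G} {π : ↥(Cz z) →* M0}

theorem mX_one : mX.1 = Equiv.swap 0 1 * Equiv.swap 1 2 ∧ mX.1 ≠ 1 := by decide +kernel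

theorem Small.no_pair {x : G} (S : Small z Q π x) (H : Pre z Q π) {g : G}
    (hmem : g * z * g⁻¹ ∈ Q) (hne : g * z * g⁻¹ ≠ z) : False := by
  letI : CommGroup (T Q) := { (inferInstance : Group (T Q)) with mul_comm := H.T_comm }
  have hxC := S.xC
  set v := g * z * g⁻¹ with hv
  have hA16 := card_elem_le (Apg Q π g) fun m hm => H.Ap_sq hmem hne hm
  have hE32 := H.card_Ep_le hmem hne
  have hAE := H.card_Ap_mul hmem hne
  by_cases hfix : ac Q x (cl Q v) = cl Q v
  · -- the element of order three centralises the other conjugate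
    obtain ⟨x', hx'C, hx'i, hx'v⟩ := H.fix_lift hxC hmem (H.cl_v_ne hmem hne) hfix
    have hx'x : ∀ t, ac Q x' t = ac Q x t := H.ac_img hx'C hxC hx'i
    have h1 : ∀ m ∈ Apg Q π g, m.1 = 1 := by
      intro m hm
      have hc := H.conj_Ap hmem hne hx'C hx'v hm
      rw [hx'i, S.hx] at hc
      have hcm := congrArg Prod.fst (H.Ap_comm hmem hne hm hc)
      refine perm_three.1 m.1 (congrArg Prod.fst (H.Ap_sq hmem hne hm)) ?_
      rw [← mX_one.1]
      simpa using hcm
    have hA8 := card_elem_le_eight (Apg Q π g) (fun m hm => H.Ap_sq hmem hne hm) h1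
    have hE0 : ∀ e ∈ Ep Q g, ac Q x (cl Q e) = cl Q e := by
      intro e he
      have he' := H.conj_Ep hmem hne hx'C hx'v he
      obtain ⟨s, u, hsu, hs, hu⟩ := S.decomp (cl Q e)
      have hw : cl Q (e * (x' * e * x'⁻¹)) = s * ac Q x s := by
        rw [cl_mul he.1 he'.1, ← H.ac_cl hx'C he.1, hx'x, hsu, H.ac_mul hxC, hu]
        calc s * u * (ac Q x s * u) = s * ac Q x s * (u * u) := by ac_rfl
          _ = _ := by rw [H.T_sq, mul_one]
      have hwn : Nz Q x (cl Q (e * (x' * e * x'⁻¹))) := by
        rw [hw]; exact H.nz_mul hxC hs (H.nz_ac hxC hxC rfl hs)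
      by_cases hs1 : s * ac Q x s = 1
      · have := H.T_mul_eq_one.1 hs1
        have hs0 := S.inter s hs this.symm
        rw [hsu, hs0, one_mul, hu]
      · have hz := S.sq _ (Q.mul_mem he.1 he'.1) hwn (hw ▸ hs1)
        rw [H.Ep_sq hmem hne ((Ep Q g).mul_mem he he')] at hz
        exact absurd hz.symm H.zne
    obtain ⟨t, htn, ht1⟩ : ∃ t, Nz Q x t ∧ t ≠ 1 := by
      by_contra h
      push Not at h
      have hc4 := S.card
      haveI : Subsingleton {t : T Q // Nz Q x t} :=
        ⟨fun a b => Subtype.ext ((h a a.2).trans (h b b.2).symm)⟩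
      rw [Nat.card_of_subsingleton (⟨1, by unfold Nz; simp [H.ac_one_t hxC]⟩ : {t : T Q // Nz Q x t})] at hc4
      norm_num at hc4
    have hi : rep Q t ∈ Q := rep_mem Q t
    have hnot : rep Q t ∉ Ep Q g := fun h => by
      have := hE0 _ h
      rw [cl_rep] at this
      exact ht1 (S.inter t htn this)
    set A := Subgroup.closure (insert (rep Q t) (Ep Q g : Set G)) with hA
    have hAQ : A ≤ Q := (Subgroup.closure_le Q).2 (Set.insert_subset hi fun e he => he.1)
    have hAc : ∀ a ∈ A, ∀ b ∈ A, a * b = b * a := by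
      have hgen : ∀ a ∈ insert (rep Q t) (Ep Q g : Set G), ∀ b ∈ insert (rep Q t) (Ep Q g : Set G),
          a * b = b * a := by
        have h2 : ∀ e ∈ Ep Q g, e * rep Q t = rep Q t * e := fun e he =>
          S.orth _ hi e he.1 (by rw [cl_rep]; exact htn) (hE0 e he)
        rintro a (rfl | ha) b (rfl | hb)
        · rfl
        · exact (h2 b hb).symm
        · exact h2 a ha
        · exact H.Ep_comm hmem hne ha hb
      intro a ha b hb
      have hA' : IsMulCommutative A := Subgroup.isMulCommutative_closure hgen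
      exact congrArg Subtype.val (hA'.is_comm.comm (⟨a, ha⟩ : A) ⟨b, hb⟩)
    have hlt : Ep Q g < A := lt_of_le_of_ne (fun e he => Subgroup.subset_closure (Or.inr he))
      fun e => hnot (e ▸ Subgroup.subset_closure (Or.inl rfl))
    have hA32 := H.card_abelian_le hAQ hAc
    obtain ⟨k, hk⟩ := Subgroup.card_dvd_of_le hlt.le
    have hk2 : 2 ≤ k := by
      rcases k with _ | _ | k
      · have := Nat.card_pos (α := A); omega
      · exact absurd (Subgroup.eq_of_le_of_card_ge hlt.le (by rw [hk]; simp)) hlt.ne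
      · omega
    have : 2 * Nat.card ↥(Ep Q g) ≤ Nat.card A := by
      rw [hk, mul_comm]; exact Nat.mul_le_mul_left _ hk2
    nlinarith
  · -- the kernel of the first factor centralises the intersection
    obtain ⟨s, u, hsu, hs, hu⟩ := S.decomp (cl Q v)
    have hs1 : s ≠ 1 := fun h => hfix (by rw [hsu, h, one_mul, hu])
    have hK : ∀ b ∈ Bp z Q g, (img z π b).1 = 1 → ∀ e ∈ Ep Q g, ac Q b (cl Q e) = cl Q e := by
      intro b hb hb1 e he
      refine (H.ac_cases hmem hne hb he).resolve_right fun h => hs1 ?_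
      obtain ⟨s', u', hsu', hs', hu'⟩ := S.decomp (cl Q e)
      have hu'' : ac Q x (ac Q b u') = ac Q b u' := by
        rw [H.ac_comm hxC hb.2 (by rw [S.hx]; exact mX_comm _ hb1), hu']
      rw [hsu', H.ac_mul hb.2, S.triv b hb.2 hb1 s' hs', hsu,
        show s' * u' * (s * u) = s' * (u' * (s * u)) by ac_rfl] at h
      have h2 : ac Q b u' = u' * (s * u) := mul_left_cancel h
      rw [h2, H.ac_mul hxC, hu', H.ac_mul hxC, hu] at hu''
      exact S.inter s hs (mul_right_cancel (mul_left_cancel hu''))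
    obtain ⟨b0, hb0, hb01⟩ : ∃ b ∈ Bp z Q g, ∀ b' ∈ Bp z Q g, (img z π b').1 = 1 ∨
        (img z π b').1 = (img z π b).1 := by
      by_cases h : ∀ b ∈ Bp z Q g, (img z π b).1 = 1
      · exact ⟨1, one_mem _, fun b hb => Or.inl (h b hb)⟩
      · push Not at h
        obtain ⟨b, hb, hb1⟩ := h
        refine ⟨b, hb, fun b' hb' => or_iff_not_imp_left.2 fun hb'1 => ?_⟩
        have m1 := (H.mem_Ap hmem hne).2 ⟨b, hb, rfl⟩
        have m2 := (H.mem_Ap hmem hne).2 ⟨b', hb', rfl⟩
        exact perm_three.2 _ _ (congrArg Prod.fst (H.Ap_sq hmem hne m2))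
          (congrArg Prod.fst (H.Ap_sq hmem hne m1)) (congrArg Prod.fst (H.Ap_comm hmem hne m2 m1)) hb'1 hb1
    have hcent : ∀ e ∈ Ep Q g, ac Q b0 (cl Q e) = cl Q e →
        cl Q e = 1 ∨ cl Q e = cl Q v := by
      intro e he h0
      refine H.fixed_cases hmem hne he fun b hb => ?_
      rcases hb01 b hb with h | h
      · exact hK b hb h e he
      · have hd : b * b0⁻¹ ∈ Bp z Q g := (Bp z Q g).mul_mem hb ((Bp z Q g).inv_mem hb0)
        have := hK _ hd (by
          rw [H.img_mul hb.2 ((Cz z).inv_mem hb0.2), H.img_inv hb0.2, Prod.fst_mul, Prod.fst_inv, h,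
            mul_inv_cancel]) e he
        rw [show b = b * b0⁻¹ * b0 by group, H.ac_comp hd.2 hb0.2, h0]
        exact this
    -- so the intersection has at most eight elements
    let φ : ↥(Ep Q g) →* T Q := MonoidHom.mk' (fun e => ac Q b0 (cl Q e) * cl Q e) fun a b => by
      show ac Q b0 (cl Q ((a : G) * b)) * cl Q ((a : G) * b) = _
      rw [cl_mul a.2.1 b.2.1, H.ac_mul hb0.2]
      ac_rfl
    have hrange : Nat.card φ.range ≤ 2 := by
      refine le_trans (Nat.card_mono (t := ({1, cl Q v} : Set (T Q))) (Set.toFinite _) ?_) ?_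
      · rintro _ ⟨e, rfl⟩
        show ac Q b0 (cl Q e) * cl Q e ∈ _
        rcases H.ac_cases hmem hne hb0 e.2 with h | h <;> rw [h]
        · left; exact H.T_sq _
        · right; rw [mul_comm (cl Q (e : G)), mul_assoc, H.T_sq, mul_one]; rfl
      · rw [Nat.card_coe_set_eq]
        exact le_trans (Set.ncard_insert_le _ _) (by simp)
    have hker : Nat.card φ.ker ≤ 4 := by
      have hv' : v ∈ Q := hmem
      refine le_trans (Nat.card_le_card_of_injective
        (β := ↥({1, z, v, z * v} : Set G)) (fun e => ⟨((e : ↥(Ep Q g)) : G), ?_⟩) ?_) ?_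
      · have he := e.1.2
        rcases hcent _ he (H.T_mul_eq_one.1 e.2) with h | h
        · rcases (H.cl_eq_one he.1).1 h with h' | h' <;> simp [h']
        · rcases (H.cl_eq_iff he.1 hv').1 h with h' | h' <;> simp [h']
      · intro a b h
        exact Subtype.ext (Subtype.ext (congrArg (fun w : ↥({1, z, v, z * v} : Set G) => (w : G)) h))
      · rw [Nat.card_coe_set_eq]
        refine le_trans (Set.ncard_insert_le _ _) (Nat.succ_le_succ ?_)
        refine le_trans (Set.ncard_insert_le _ _) (Nat.succ_le_succ ?_)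
        exact le_trans (Set.ncard_insert_le _ _) (by simp)
    have h := φ.ker.card_mul_index
    rw [Subgroup.index_ker] at h
    nlinarith

end CfsgLib.ThreeSixCent
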